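import Groth.Agent.CILib.Scheme
import Groth.Agent.CMFlatLib.Locus

/-!
Fibre dimensions of syntomic morphisms.
-/

set_option autoImplicit false
set_option backward.isDefEq.respectTransparency false

universe u

open TensorProduct MvPolynomial AlgebraicGeometry CategoryTheory

namespace Groth.Agent.CILib

/-- The local dimension of a global complete intersection is `n - c` everywhere. -/
theorem localDim_eq {k S : Type u} [Field k] [CommRing S] [Algebra k S] {n c : ℕ} (hc : c ≤ n)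
    (φ : MvPolynomial (Fin n) k →ₐ[k] S) (r : Fin c → MvPolynomial (Fin n) k)
    (hφ : Function.Surjective φ) (hker : RingHom.ker φ.toRingHom = Ideal.span (Set.range r))
    (hdim : ringKrullDim S ≤ ((n - c : ℕ) : WithBot ℕ∞)) (q : PrimeSpectrum S) :
    FlatMor.localDim (PrimeSpectrum S) q = ((n - c : ℕ) : WithBot ℕ∞) := by
  haveI : Algebra.FiniteType k S := Algebra.FiniteType.of_surjective φ hφ
  obtain ⟨⟨a, b, ha, hb, hab⟩, -⟩ := local_data hc φ r hφ hker hdim q.asIdeal
  haveI : (q.asIdeal.comap φ.toRingHom).IsPrime := Ideal.IsPrime.comap _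
  obtain ⟨b', t, hb', ht, hbt⟩ := height_add_trdeg_mvPolynomial k (q.asIdeal.comap φ.toRingHom)
  obtain ⟨s, hs⟩ := DimFormulaLib.exists_nat_trdeg_quotient k S q.asIdeal
  obtain ⟨a', ha', hl, -⟩ := DimFormulaLib.localDim_eq_height_add k S q s hs
  have hbb : b = b' := by
    have : (b : ℕ∞) = b' := hb.symm.trans hb'
    exact_mod_cast this
  have haa : a = a' := by
    have : (a : ℕ∞) = a' := ha.symm.trans ha'
    exact_mod_cast this
  have hst : s = t := by
    let ψ : (MvPolynomial (Fin n) k ⧸ q.asIdeal.comap φ.toRingHom) →ₐ[k] S ⧸ q.asIdeal :=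
      Ideal.quotientMapₐ q.asIdeal φ le_rfl
    let e : (MvPolynomial (Fin n) k ⧸ q.asIdeal.comap φ.toRingHom) ≃ₐ[k] S ⧸ q.asIdeal := AlgEquiv.ofBijective ψ
      ⟨Ideal.quotientMap_injective (I := q.asIdeal) (f := φ.toRingHom),
        Ideal.quotientMap_surjective (H := le_rfl) (f := φ.toRingHom) hφ⟩
    have := e.trdeg_eq
    rw [ht, hs] at this
    exact_mod_cast this.symm
  rw [hl, show a' + s = n - c by omega]

theorem fibreDimAt_eq_of_isRelGCI (R : Type u) [CommRing R] (n c : ℕ) (F : Fin c → MvPolynomial (Fin n) R)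
    (hF : Synt.IsRelGCI R n c F) (x : ↑(Spec (CommRingCat.of (Synt.RelGCIRing R n c F)))) :
    FlatMor.fibreDimAt (Spec.map (CommRingCat.ofHom (algebraMap R (Synt.RelGCIRing R n c F)))) x =
      ((n - c : ℕ) : WithBot ℕ∞) := by
  let B := Synt.RelGCIRing R n c F
  let ch : DimFormulaLib.Chart (Spec.map (CommRingCat.ofHom (algebraMap R B))) x :=
    { A := R, B := B, i := 𝟙 _, j := 𝟙 _, w := by simp, q := x, hq := rfl }
  rw [ch.fibreDimAt_eq]
  let k := ch.p.asIdeal.ResidueField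
  haveI : Nontrivial (ch.p.asIdeal.Fiber B) := by
    by_contra hnt
    rw [not_nontrivial_iff_subsingleton] at hnt
    exact ch.Q.2.ne_top (Subsingleton.elim _ _)
  obtain ⟨hc, hd⟩ := hF ch.p ‹_›
  let I : Ideal (MvPolynomial (Fin n) R) := Ideal.span (Set.range F)
  let m : MvPolynomial (Fin n) R →ₐ[R] MvPolynomial (Fin n) k := MvPolynomial.mapAlgHom (Algebra.ofId R k)
  let e : ch.p.asIdeal.Fiber B ≃ₐ[k] MvPolynomial (Fin n) k ⧸
      (I.map (Algebra.TensorProduct.includeRight : MvPolynomial (Fin n) R →ₐ[R] k ⊗[R] MvPolynomial (Fin n) R)).map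
        (MvPolynomial.algebraTensorAlgEquiv R k : k ⊗[R] MvPolynomial (Fin n) R ≃ₐ[k] _) :=
    (Algebra.TensorProduct.tensorQuotientEquiv (R := R) k (MvPolynomial (Fin n) R) k I).trans
      (Ideal.quotientEquivAlg _ _ (MvPolynomial.algebraTensorAlgEquiv R k) rfl)
  let φ : MvPolynomial (Fin n) k →ₐ[k] ch.p.asIdeal.Fiber B :=
    e.symm.toAlgHom.comp (Ideal.Quotient.mkₐ k _)
  refine localDim_eq (S := ch.p.asIdeal.Fiber B) hc φ (fun i => m (F i)) (e.symm.surjective.comp Ideal.Quotient.mk_surjective) ?_ hd.le ch.Q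
  have hk : RingHom.ker φ.toRingHom = RingHom.ker (Ideal.Quotient.mkₐ k
      ((I.map (Algebra.TensorProduct.includeRight : MvPolynomial (Fin n) R →ₐ[R] k ⊗[R] MvPolynomial (Fin n) R)).map
        (MvPolynomial.algebraTensorAlgEquiv R k : k ⊗[R] MvPolynomial (Fin n) R ≃ₐ[k] _))).toRingHom := by
    ext z
    simp [φ, RingHom.mem_ker]
    exact Ideal.Quotient.eq_zero_iff_mem.symm.trans Iff.rfl |>.symm
  rw [hk]
  show RingHom.ker (Ideal.Quotient.mk _) = _
  rw [Ideal.mk_ker, Ideal.map_span, Ideal.map_span, ← Set.range_comp, ← Set.range_comp]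
  congr 1
  congr 1
  funext i
  show MvPolynomial.algebraTensorAlgEquiv R k ((1 : k) ⊗ₜ[R] F i) = MvPolynomial.map (algebraMap R k) (F i)
  simp

theorem isCMAt_of_isSyntomicMor {X S : Scheme.{u}} (f : X ⟶ S) (hf : Synt.IsSyntomicMor f) (x : X) :
    MoreMor.IsCMAt f x := by
  obtain ⟨U, V, e, hx, h⟩ := hf x
  algebraize [(f.appLE V.1 U.1 e).hom]
  haveI := h.1
  haveI := h.2.1
  let ch : DimFormulaLib.Chart f x :=
    { A := Γ(S, V.1), B := Γ(X, U.1), i := V.2.fromSpec, j := U.2.fromSpec,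
      w := (IsAffineOpen.SpecMap_appLE_fromSpec f V.2 U.2 e).symm,
      q := U.2.primeIdealOf ⟨x, hx⟩, hq := U.2.fromSpec_primeIdealOf ⟨x, hx⟩ }
  refine (CMFlatLib.chart_isCMAt_iff ch).2 ⟨?_, ?_⟩
  · haveI : Module.Flat ch.B (Localization.AtPrime ch.q.asIdeal) := IsLocalization.flat _ ch.q.asIdeal.primeCompl
    haveI : Module.Flat ch.A ch.B := h.1
    exact Module.Flat.trans ch.A ch.B _
  haveI := isCohenMacaulayRing_of_isLCIOver (h.2.2 ch.p)
  exact LocCoh.IsCohenMacaulayRing.isCohenMacaulayLocalRing_localization ch.Q.asIdeal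

theorem isLocallyConstant_fibreDimAt {X S : Scheme.{u}} (f : X ⟶ S) (hf : Synt.IsSyntomicMor f) :
    IsLocallyConstant (fun x : ↑X => FlatMor.fibreDimAt f x) := by
  haveI : LocallyOfFinitePresentation f := by
    rw [HasRingHomProperty.iff_appLE (P := @LocallyOfFinitePresentation)]
    intro V U e
    have h := (isSyntomicMor_iff f).1 hf U V e
    letI := (f.appLE V.1 U.1 e).hom.toAlgebra
    exact h.2.1
  exact CMFlatLib.isLocallyConstant_fibreDimAt f (isCMAt_of_isSyntomicMor f hf)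

end Groth.Agent.CILib
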