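import Groth.Agent.CILib.Syntomic
import Groth.Agent.S2768
import Mathlib.AlgebraicGeometry.Morphisms.RingHomProperties

/-!
Syntomic morphisms through the ring-map property; smooth algebras are syntomic.
-/

set_option autoImplicit false
set_option backward.isDefEq.respectTransparency false

universe u

open TensorProduct MvPolynomial AlgebraicGeometry CategoryTheory

namespace Groth.Agent.CILib

/-- Syntomic ring maps. -/
def IsSyntomicHom {R S : Type u} [CommRing R] [CommRing S] (f : R →+* S) : Prop :=
  @Synt.IsSyntomic R _ S _ f.toAlgebra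

theorem isSyntomicHom_algebraMap {R S : Type u} [CommRing R] [CommRing S] [Algebra R S] :
    IsSyntomicHom (algebraMap R S) ↔ Synt.IsSyntomic R S := by
  unfold IsSyntomicHom
  congr!
  exact Algebra.algebra_ext _ _ fun _ => rfl

theorem isSyntomicHom_targetAway : RingHom.StableUnderCompositionWithLocalizationAwayTarget @IsSyntomicHom := by
  intro R S T _ _ _ _ s _ f hf
  letI := f.toAlgebra
  letI : Algebra R T := ((algebraMap S T).comp f).toAlgebra
  haveI : IsScalarTower R S T := IsScalarTower.of_algebraMap_eq' rfl
  exact isSyntomic_away hf s T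

theorem isSyntomicHom_ofLocalizationSpanTarget : RingHom.OfLocalizationSpanTarget @IsSyntomicHom := by
  intro R S _ _ f s hs h
  algebraize [f]
  refine isSyntomic_of_span s hs fun g hg => ?_
  have := h ⟨g, hg⟩
  rw [← RingHom.algebraMap_toAlgebra f, ← IsScalarTower.algebraMap_eq R S (Localization.Away g)] at this
  exact isSyntomicHom_algebraMap.1 this

theorem isSyntomicHom_awayPreserves : RingHom.LocalizationAwayPreserves @IsSyntomicHom := by
  intro R S _ _ f r R' S' _ _ _ _ _ _ hf
  have h2 := isSyntomicHom_targetAway S' (f r) f hf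
  letI := (IsLocalization.Away.map R' S' f r).toAlgebra
  letI : Algebra R S' := ((algebraMap S S').comp f).toAlgebra
  haveI : IsScalarTower R R' S' := IsScalarTower.of_algebraMap_eq fun x => by
    show algebraMap S S' (f x) = IsLocalization.Away.map R' S' f r (algebraMap R R' x)
    rw [IsLocalization.Away.map, IsLocalization.map_eq]
  exact (isSyntomic_base_away r).2 h2

theorem isSyntomicHom_ofLocalizationSpan : RingHom.OfLocalizationSpan @IsSyntomicHom := by
  intro R S _ _ f s hs h
  algebraize [f]
  refine isSyntomic_of_span (f '' s) (by rw [← Ideal.map_span, hs, Ideal.map_top]) ?_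
  rintro _ ⟨r, hr, rfl⟩
  have h' := h ⟨r, hr⟩
  letI := (Localization.awayMap f r).toAlgebra
  haveI : IsScalarTower R (Localization.Away r) (Localization.Away (f r)) :=
    IsScalarTower.of_algebraMap_eq fun x => by
      show algebraMap S (Localization.Away (f r)) (f x) =
        Localization.awayMap f r (algebraMap R (Localization.Away r) x)
      rw [Localization.awayMap, IsLocalization.Away.map, IsLocalization.map_eq]
  exact (isSyntomic_base_away r).1 h'

theorem isSyntomicHom_propertyIsLocal : RingHom.PropertyIsLocal @IsSyntomicHom where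
  localizationAwayPreserves := isSyntomicHom_awayPreserves
  ofLocalizationSpanTarget := isSyntomicHom_ofLocalizationSpanTarget
  ofLocalizationSpan := isSyntomicHom_ofLocalizationSpan
  StableUnderCompositionWithLocalizationAwayTarget := isSyntomicHom_targetAway

/-- The morphism property attached to syntomic ring maps. -/
def SyntMor : MorphismProperty Scheme.{u} := affineLocally IsSyntomicHom

instance : HasRingHomProperty @SyntMor IsSyntomicHom where
  isLocal_ringHomProperty := isSyntomicHom_propertyIsLocal
  eq_affineLocally' := rfl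

theorem isSyntomicHom_sourceAway : RingHom.StableUnderCompositionWithLocalizationAwaySource @IsSyntomicHom := by
  intro R R' S _ _ _ _ r _ f hf
  letI := f.toAlgebra
  letI : Algebra R S := (f.comp (algebraMap R R')).toAlgebra
  haveI : IsScalarTower R R' S := IsScalarTower.of_algebraMap_eq' rfl
  exact (isSyntomic_base_away r).1 hf

theorem syntMor_iff {X S : Scheme.{u}} (f : X ⟶ S) : SyntMor f ↔ Synt.IsSyntomicMor f := by
  rw [HasRingHomProperty.iff_exists_appLE (P := @SyntMor) isSyntomicHom_sourceAway]
  exact ⟨fun h x => let ⟨U, V, hx, e, he⟩ := h x; ⟨V, U, e, hx, he⟩,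
    fun h x => let ⟨U, V, e, hx, he⟩ := h x; ⟨V, U, hx, e, he⟩⟩

theorem isSyntomicMor_iff {X S : Scheme.{u}} (f : X ⟶ S) :
    Synt.IsSyntomicMor f ↔ ∀ (U : X.affineOpens) (V : S.affineOpens) (e : U.1 ≤ f ⁻¹ᵁ V.1),
      IsSyntomicHom (f.appLE V.1 U.1 e).hom := by
  rw [← syntMor_iff, HasRingHomProperty.iff_appLE (P := @SyntMor)]
  exact ⟨fun h U V e => h V U e, fun h V U e => h U V e⟩

/-- A standard smooth algebra over a field is a global complete intersection. -/
theorem isGlobalCI_of_isStandardSmooth (k A : Type u) [Field k] [CommRing A] [Algebra k A]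
    [Algebra.IsStandardSmooth k A] : Synt.IsGlobalCI k A := by
  classical
  rcases subsingleton_or_nontrivial A with hA | hA
  · exact Or.inl hA
  obtain ⟨ι, σ, _, _, ⟨P⟩⟩ := (‹Algebra.IsStandardSmooth k A›).out
  haveI : Algebra.IsStandardSmoothOfRelativeDimension P.dimension k A :=
    ⟨ι, σ, inferInstance, inferInstance, P, rfl⟩
  obtain ⟨n, ⟨e⟩⟩ := Finite.exists_equiv_fin ι
  obtain ⟨c, ⟨d⟩⟩ := Finite.exists_equiv_fin σ
  let Φ := (MvPolynomial.renameEquiv k e.symm)
  let φ : MvPolynomial (Fin n) k →ₐ[k] A := (MvPolynomial.aeval P.val).comp Φ.toAlgHom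
  have hn : Nat.card ι = n := by rw [Nat.card_congr e, Nat.card_fin]
  have hc : Nat.card σ = c := by rw [Nat.card_congr d, Nat.card_fin]
  have hcn : c ≤ n := by rw [← hn, ← hc]; exact Nat.card_le_card_of_injective P.map P.map_inj
  refine isGlobalCI_of_dim_le hcn φ (fun i => Φ.symm (P.relation (d.symm i)))
    (P.aeval_val_surjective.comp Φ.surjective) ?_ ?_
  · have hr : Set.range (fun i => Φ.symm (P.relation (d.symm i))) = Φ.symm '' Set.range P.relation := by
      rw [← Set.range_comp]; exact d.symm.surjective.range_comp (fun j => Φ.symm (P.relation j))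
    rw [hr, ← Ideal.map_span, P.span_range_relation_eq_ker, P.ker_eq_ker_aeval_val]
    ext x
    rw [Ideal.mem_map_iff_of_surjective _ Φ.symm.surjective]
    simp only [RingHom.mem_ker]
    constructor
    · exact fun hx => ⟨Φ x, hx, Φ.symm_apply_apply x⟩
    · rintro ⟨y, hy, rfl⟩
      show MvPolynomial.aeval P.val (Φ (Φ.symm y)) = 0
      rw [Φ.apply_symm_apply]; exact hy
  · rw [Groth.Agent.S2768.eq_ringKrullDim P.dimension k A]
    simp [Algebra.Presentation.dimension, hn, hc]

/-- Standard smooth algebras are syntomic. -/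
theorem isSyntomic_of_isStandardSmooth (R S : Type u) [CommRing R] [CommRing S] [Algebra R S]
    [Algebra.IsStandardSmooth R S] : Synt.IsSyntomic R S := by
  haveI : Algebra.Smooth R S := inferInstance
  exact ⟨inferInstance, inferInstance, fun p =>
    isLCIOver_of_isGlobalCI (isGlobalCI_of_isStandardSmooth _ _)⟩

theorem isSyntomicMor_of_smooth {X S : Scheme.{u}} (f : X ⟶ S) [Smooth f] : Synt.IsSyntomicMor f := by
  intro x
  obtain ⟨V, hV, U, hU, hx, e, hstd⟩ := Smooth.exists_isStandardSmooth f x
  refine ⟨⟨U, hU⟩, ⟨V, hV⟩, e, hx, ?_⟩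
  algebraize [(f.appLE V U e).hom]
  exact isSyntomic_of_isStandardSmooth _ _

end Groth.Agent.CILib
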