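import Groth.Agent.CILib.LCISmooth
import Groth.Agent.CILib.Scheme
import Groth.Agent.RegIdealLib.Immersion

/-!
Syntomic morphisms are the flat morphisms which are Koszul at every point.
-/

set_option autoImplicit false
set_option backward.isDefEq.respectTransparency false
set_option backward.isDefEq.respectTransparency.types false

universe u

open CategoryTheory AlgebraicGeometry Limits

namespace Groth.Agent.CILib

/-- Taking the kernel commutes with inverting an element. -/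
theorem ker_map_away {C B C' B' : Type u} [CommRing C] [CommRing B] [CommRing C'] [CommRing B'] [Algebra C C']
    [Algebra B B'] (g : C) (ρ : C →+* B) (ρ' : C' →+* B') [IsLocalization.Away g C'] [IsLocalization.Away (ρ g) B']
    (h : ρ'.comp (algebraMap C C') = (algebraMap B B').comp ρ) :
    RingHom.ker ρ' = (RingHom.ker ρ).map (algebraMap C C') := by
  refine le_antisymm (fun y hy => ?_) (Ideal.map_le_iff_le_comap.2 fun a ha => ?_)
  · obtain ⟨m, a, hya⟩ := IsLocalization.Away.surj g y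
    have h0 : algebraMap B B' (ρ a) = 0 := by
      rw [← RingHom.comp_apply, ← h, RingHom.comp_apply, ← hya, map_mul, RingHom.mem_ker.1 hy, zero_mul]
    obtain ⟨⟨_, k, rfl⟩, hk⟩ := (IsLocalization.map_eq_zero_iff (Submonoid.powers (ρ g)) B' _).1 h0
    have hmem : g ^ k * a ∈ RingHom.ker ρ := by rw [RingHom.mem_ker, map_mul, map_pow]; exact hk
    have h1 := Ideal.mem_map_of_mem (algebraMap C C') hmem
    rw [map_mul, ← hya, map_pow, mul_left_comm, ← mul_assoc] at h1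
    refine (Ideal.mul_unit_mem_iff_mem _ (((IsLocalization.Away.algebraMap_isUnit (S := C') g).pow k).mul
      ((IsLocalization.Away.algebraMap_isUnit (S := C') g).pow m))).1 ?_
    convert h1 using 1
    ring
  · show ρ' (algebraMap C C' a) = 0
    rw [← RingHom.comp_apply, h, RingHom.comp_apply, RingHom.mem_ker.1 ha, map_zero]

/-- The kernel on a basic open of a morphism affine over an affine open. -/
theorem exists_ker_app_basicOpen {Z X : Scheme.{u}} (i : Z ⟶ X) {U : X.Opens} (hU : IsAffineOpen U)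
    (hZ : IsAffineOpen (i ⁻¹ᵁ U)) (g : Γ(X, U)) (l : List Γ(X, U)) (hl : LCI.IsKoszulRegularSeq Γ(X, U) l)
    (hker : RingHom.ker (i.app U).hom = Ideal.ofList l) :
    ∃ l' : List Γ(X, X.basicOpen g), LCI.IsKoszulRegularSeq Γ(X, X.basicOpen g) l' ∧
      RingHom.ker (i.app (X.basicOpen g)).hom = Ideal.ofList l' := by
  letI : Algebra Γ(X, U) Γ(X, X.basicOpen g) := (X.presheaf.map (homOfLE (X.basicOpen_le g)).op).hom.toAlgebra
  haveI : IsLocalization.Away g Γ(X, X.basicOpen g) :=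
    hU.isLocalization_of_eq_basicOpen g (homOfLE (X.basicOpen_le g)) rfl
  letI : Algebra Γ(Z, i ⁻¹ᵁ U) Γ(Z, i ⁻¹ᵁ X.basicOpen g) :=
    (Z.presheaf.map (homOfLE (i.preimage_mono (X.basicOpen_le g))).op).hom.toAlgebra
  haveI : IsLocalization.Away ((i.app U).hom g) Γ(Z, i ⁻¹ᵁ X.basicOpen g) :=
    hZ.isLocalization_of_eq_basicOpen _ (homOfLE (i.preimage_mono (X.basicOpen_le g))) (i.preimage_basicOpen g)
  haveI : Module.Flat Γ(X, U) Γ(X, X.basicOpen g) := IsLocalization.flat _ (Submonoid.powers g)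
  refine ⟨_, Groth.Agent.RelDivLib.isKoszulRegularSeq_flat (S := Γ(X, X.basicOpen g)) hl, ?_⟩
  rw [ker_map_away g (i.app U).hom (i.app (X.basicOpen g)).hom ?_, hker, Ideal.map_ofList]
  rw [RingHom.algebraMap_toAlgebra, RingHom.algebraMap_toAlgebra, ← CommRingCat.hom_comp, ← CommRingCat.hom_comp]
  exact congrArg CommRingCat.Hom.hom (i.naturality (homOfLE (X.basicOpen_le g)).op)

/-- A flat morphism which factors as a Koszul regular immersion into a smooth scheme is syntomic. -/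
theorem isSyntomicMor_comp {U P S : Scheme.{u}} (i : U ⟶ P) (π : P ⟶ S) [Smooth π] [Flat (i ≫ π)]
    (hi : RegImm.IsRegularImmersion .koszul i) : Synt.IsSyntomicMor (i ≫ π) := by
  intro u
  obtain ⟨W₀, hu, hc, l, hl, hker⟩ := hi.2 u
  obtain ⟨haff, hsurj⟩ := Groth.Agent.RegIdealLib.affine_and_surjective i W₀.2 hc
  obtain ⟨_, ⟨V, hV, rfl⟩, hxV, -⟩ := S.isBasis_affineOpens.exists_subset_of_mem_open (Set.mem_univ (π (i u))) isOpen_univ
  obtain ⟨g, hgle, hgu⟩ := W₀.2.exists_basicOpen_le (V := π ⁻¹ᵁ V) ⟨i u, hxV⟩ hu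
  obtain ⟨l', hl', hker'⟩ := exists_ker_app_basicOpen i W₀.2 haff g l hl hker
  have haff' : IsAffineOpen (i ⁻¹ᵁ P.basicOpen g) := by
    rw [i.preimage_basicOpen]
    exact haff.basicOpen _
  have hsurj' : Function.Surjective (i.app (P.basicOpen g)).hom := by
    intro y
    letI : Algebra Γ(U, i ⁻¹ᵁ W₀.1) Γ(U, i ⁻¹ᵁ P.basicOpen g) :=
      (U.presheaf.map (homOfLE (i.preimage_mono (P.basicOpen_le g))).op).hom.toAlgebra
    haveI : IsLocalization.Away ((i.app W₀.1).hom g) Γ(U, i ⁻¹ᵁ P.basicOpen g) :=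
      haff.isLocalization_of_eq_basicOpen _ (homOfLE (i.preimage_mono (P.basicOpen_le g))) (i.preimage_basicOpen g)
    letI : Algebra Γ(P, W₀.1) Γ(P, P.basicOpen g) := (P.presheaf.map (homOfLE (P.basicOpen_le g)).op).hom.toAlgebra
    haveI : IsLocalization.Away g Γ(P, P.basicOpen g) :=
      W₀.2.isLocalization_of_eq_basicOpen g (homOfLE (P.basicOpen_le g)) rfl
    obtain ⟨m, b, hb⟩ := IsLocalization.Away.surj ((i.app W₀.1).hom g) y
    obtain ⟨a, rfl⟩ := hsurj b
    have hnat : ∀ z, (i.app (P.basicOpen g)).hom (algebraMap Γ(P, W₀.1) Γ(P, P.basicOpen g) z) =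
        algebraMap Γ(U, i ⁻¹ᵁ W₀.1) Γ(U, i ⁻¹ᵁ P.basicOpen g) ((i.app W₀.1).hom z) := fun z => by
      rw [RingHom.algebraMap_toAlgebra, RingHom.algebraMap_toAlgebra, ← CommRingCat.comp_apply, ← CommRingCat.comp_apply]
      exact congrArg (fun φ => φ.hom z) (i.naturality (homOfLE (P.basicOpen_le g)).op)
    have hg : IsUnit (algebraMap Γ(P, W₀.1) Γ(P, P.basicOpen g) g) := IsLocalization.Away.algebraMap_isUnit g
    obtain ⟨v, hv⟩ := hg.pow m
    refine ⟨algebraMap Γ(P, W₀.1) Γ(P, P.basicOpen g) a * ↑v⁻¹, ?_⟩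
    refine ((IsLocalization.Away.algebraMap_isUnit (S := Γ(U, i ⁻¹ᵁ P.basicOpen g)) ((i.app W₀.1).hom g)).pow m).mul_left_inj.1 ?_
    rw [hb, ← hnat g, ← map_pow, ← map_mul, mul_assoc, ← hv, Units.inv_mul, mul_one, hnat]
  have hVW : P.basicOpen g ≤ π ⁻¹ᵁ V := hgle
  have e : i ⁻¹ᵁ P.basicOpen g ≤ (i ≫ π) ⁻¹ᵁ V := i.preimage_mono hVW
  refine ⟨⟨_, haff'⟩, ⟨V, hV⟩, e, hgu, ?_⟩
  letI : Algebra Γ(S, V) Γ(P, P.basicOpen g) := (π.appLE V (P.basicOpen g) hVW).hom.toAlgebra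
  letI : Algebra Γ(S, V) Γ(U, i ⁻¹ᵁ P.basicOpen g) := ((i ≫ π).appLE V (i ⁻¹ᵁ P.basicOpen g) e).hom.toAlgebra
  haveI : Algebra.Smooth Γ(S, V) Γ(P, P.basicOpen g) := by
    have := HasRingHomProperty.appLE @Smooth π ‹_› ⟨V, hV⟩ ⟨_, W₀.2.basicOpen g⟩ hVW
    exact RingHom.smooth_algebraMap.1 this
  haveI : Module.Flat Γ(S, V) Γ(U, i ⁻¹ᵁ P.basicOpen g) :=
    RingHom.flat_algebraMap_iff.1 (HasRingHomProperty.appLE @Flat (i ≫ π) ‹_› ⟨V, hV⟩ ⟨_, haff'⟩ e)
  have happ : ∀ (h : i ⁻¹ᵁ P.basicOpen g ≤ (i ≫ π) ⁻¹ᵁ V),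
      (i ≫ π).appLE V (i ⁻¹ᵁ P.basicOpen g) h = π.appLE V (P.basicOpen g) hVW ≫ i.app (P.basicOpen g) := fun h => by
    rw [i.app_eq_appLE, Scheme.Hom.appLE_comp_appLE]
  let ρ : Γ(P, P.basicOpen g) →ₐ[Γ(S, V)] Γ(U, i ⁻¹ᵁ P.basicOpen g) :=
    { toRingHom := (i.app (P.basicOpen g)).hom
      commutes' := fun r => (RingHom.congr_fun (congrArg CommRingCat.Hom.hom (happ e)) r).symm }
  exact isSyntomic_of_smooth_quotient ρ hsurj' l' hl' hker'

theorem isSyntomicMor_of_flat_koszul {X S : Scheme.{u}} (f : X ⟶ S) [Flat f] (h : ∀ x, Synt.IsKoszulAt f x) :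
    Synt.IsSyntomicMor f := by
  choose U P i π hxU _ hi hπ hf using h
  rw [← syntMor_iff]
  refine (IsZariskiLocalAtSource.iff_of_iSup_eq_top U (top_le_iff.1 fun x _ => TopologicalSpace.Opens.mem_iSup.2 ⟨x, hxU x⟩)).2
    fun x => ?_
  rw [syntMor_iff, ← hf x]
  haveI := hπ x
  haveI : Flat (i x ≫ π x) := (hf x).symm ▸ inferInstance
  exact isSyntomicMor_comp (i x) (π x) (hi x)

/-- A closed immersion of affine schemes by a Koszul regular ideal is a Koszul regular immersion. -/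
theorem isRegularImmersion_Spec {R B : CommRingCat.{u}} (φ : R ⟶ B) (hφ : Function.Surjective φ)
    (hK : LCI.IsKoszulRegularIdeal (RingHom.ker φ.hom)) : RegImm.IsRegularImmersion .koszul (Spec.map φ) := by
  haveI hcl : IsClosedImmersion (Spec.map φ) := IsClosedImmersion.spec_of_surjective φ hφ
  refine ⟨inferInstance, fun z => ?_⟩
  have hle : RingHom.ker φ.hom ≤ (Spec.map φ z).asIdeal := fun a ha => by
    show φ.hom a ∈ z.asIdeal
    rw [RingHom.mem_ker.1 ha]
    exact z.asIdeal.zero_mem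
  obtain ⟨g, hg, l, hl, hlK⟩ := hK (Spec.map φ z) hle
  refine ⟨⟨PrimeSpectrum.basicOpen g, IsAffineOpen.Spec_basicOpen g⟩, hg, IsZariskiLocalAtTarget.restrict hcl _, ?_⟩
  let e := IsLocalization.algEquiv (Submonoid.powers g) (Localization.Away g) Γ(Spec R, PrimeSpectrum.basicOpen g)
  letI : Algebra (Localization.Away g) Γ(Spec R, PrimeSpectrum.basicOpen g) := e.toRingHom.toAlgebra
  haveI : Module.Flat (Localization.Away g) Γ(Spec R, PrimeSpectrum.basicOpen g) :=
    RingHom.flat_algebraMap_iff.1 (by rw [RingHom.algebraMap_toAlgebra]; exact RingHom.Flat.of_bijective e.bijective)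
  refine ⟨_, Groth.Agent.RelDivLib.isKoszulRegularSeq_flat (S := Γ(Spec R, PrimeSpectrum.basicOpen g)) hl, ?_⟩
  have hpre : Spec.map φ ⁻¹ᵁ PrimeSpectrum.basicOpen g = PrimeSpectrum.basicOpen (φ.hom g) := rfl
  haveI : IsLocalization.Away (φ.hom g) Γ(Spec B, Spec.map φ ⁻¹ᵁ PrimeSpectrum.basicOpen g) :=
    inferInstanceAs (IsLocalization.Away (φ.hom g) Γ(Spec B, PrimeSpectrum.basicOpen (φ.hom g)))
  rw [ker_map_away g φ.hom ((Spec.map φ).app (PrimeSpectrum.basicOpen g)).hom ?_, ← Ideal.map_ofList,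
    show (Ideal.ofList l : Ideal (Localization.Away g)) = (RingHom.ker φ.hom).map (algebraMap R _) from hlK.symm,
    Ideal.map_map]
  · congr 1
    exact (e.toAlgHom.comp_algebraMap).symm
  · rw [IsAffineOpen.algebraMap_Spec_obj, IsAffineOpen.algebraMap_Spec_obj]
    rw [← CommRingCat.hom_comp, ← CommRingCat.hom_comp]
    congr 1
    rw [Category.assoc, Scheme.Hom.naturality, ← Category.assoc, ← Category.assoc]
    congr 1
    exact (Scheme.ΓSpecIso_inv_naturality φ).symm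

/-- Composing a regular immersion with an isomorphism on the source. -/
theorem isRegularImmersion_iso_comp {k : RegImm.Kind} {Z' Z X : Scheme.{u}} (e : Z' ⟶ Z) [IsIso e] (i : Z ⟶ X)
    (h : RegImm.IsRegularImmersion k i) : RegImm.IsRegularImmersion k (e ≫ i) := by
  haveI := h.1
  refine ⟨inferInstance, fun z => ?_⟩
  obtain ⟨U, hzU, hcl, rs, hrs, hker⟩ := h.2 (e z)
  refine ⟨U, by rw [Scheme.Hom.comp_apply]; exact hzU, ?_, rs, hrs, ?_⟩
  · rw [morphismRestrict_comp]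
    haveI := hcl
    infer_instance
  · rw [Scheme.Hom.comp_app, CommRingCat.hom_comp, ← RingHom.comap_ker,
      (RingHom.injective_iff_ker_eq_bot _).1 (ConcreteCategory.bijective_of_isIso (e.app (i ⁻¹ᵁ U.1))).1,
      ← RingHom.ker_eq_comap_bot]
    exact hker

theorem flat_of_isSyntomicMor {X S : Scheme.{u}} (f : X ⟶ S) (h : Synt.IsSyntomicMor f) : Flat f := by
  rw [HasRingHomProperty.iff_appLE (P := @Flat)]
  intro V U e
  exact ((isSyntomicMor_iff f).1 h U V e).1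

theorem isKoszulAt_of_isSyntomicMor {X S : Scheme.{u}} (f : X ⟶ S) (h : Synt.IsSyntomicMor f) (x : X) :
    Synt.IsKoszulAt f x := by
  obtain ⟨U, V, e, hxU, hs⟩ := h x
  letI : Algebra Γ(S, V.1) Γ(X, U.1) := (f.appLE V.1 U.1 e).hom.toAlgebra
  obtain ⟨-, n, φ, hφ, hK⟩ := isLCI_of_isSyntomic hs
  let C : CommRingCat.{u} := CommRingCat.of (MvPolynomial (Fin n) Γ(S, V.1))
  let φc : C ⟶ Γ(X, U.1) := CommRingCat.ofHom φ.toRingHom
  let ac : Γ(S, V.1) ⟶ C := CommRingCat.ofHom MvPolynomial.C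
  haveI : Smooth (Spec.map ac) := (HasRingHomProperty.Spec_iff (P := @Smooth)).2
    (RingHom.smooth_algebraMap.2 (⟨inferInstance, inferInstance⟩ : Algebra.Smooth Γ(S, V.1) (MvPolynomial (Fin n) Γ(S, V.1))))
  haveI hst : Algebra.FiniteType Γ(S, V.1) Γ(X, U.1) := Algebra.FiniteType.of_surjective φ hφ
  refine ⟨U.1, Spec C, U.2.isoSpec.hom ≫ Spec.map φc, Spec.map ac ≫ V.2.fromSpec, hxU, ?_,
    isRegularImmersion_iso_comp _ _ (isRegularImmersion_Spec φc hφ hK), inferInstance, ?_⟩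
  · haveI : LocallyOfFiniteType f := by
      rw [HasRingHomProperty.iff_appLE (P := @LocallyOfFiniteType)]
      intro V' U' e'
      haveI := ((isSyntomicMor_iff f).1 h U' V' e').2.1
      exact RingHom.FiniteType.of_finitePresentation ((isSyntomicMor_iff f).1 h U' V' e').2.1
    infer_instance
  · have hc : ac ≫ φc = f.appLE V.1 U.1 e := CommRingCat.hom_ext φ.comp_algebraMap
    rw [Category.assoc, ← Spec.map_comp_assoc, hc, IsAffineOpen.SpecMap_appLE_fromSpec f V.2 U.2, ← Category.assoc,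
      IsAffineOpen.isoSpec_hom_fromSpec]

theorem flat_and_koszul_iff_isSyntomicMor {X S : Scheme.{u}} (f : X ⟶ S) :
    (Flat f ∧ ∀ x : X, Synt.IsKoszulAt f x) ↔ Synt.IsSyntomicMor f :=
  ⟨fun ⟨_, h⟩ => isSyntomicMor_of_flat_koszul f h,
    fun h => ⟨flat_of_isSyntomicMor f h, isKoszulAt_of_isSyntomicMor f h⟩⟩

end Groth.Agent.CILib
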