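import Groth.Agent.CILib.KoszulLCI
import Groth.Agent.CILib.LCIMor
import Groth.Agent.RegIdealLib.Immersion

/-!
Morphisms which are Koszul at every point are the affine-locally local complete intersection morphisms.
-/

set_option autoImplicit false
set_option linter.style.haveILetI false
set_option backward.isDefEq.respectTransparency false
set_option backward.isDefEq.respectTransparency.types false

universe u

open CategoryTheory AlgebraicGeometry Limits

noncomputable section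

namespace Groth.Agent.CILib

/-- Local complete intersection ring maps. -/
def IsLCIHom {R S : Type u} [CommRing R] [CommRing S] (f : R →+* S) : Prop :=
  @LCI.IsLCI R _ S _ f.toAlgebra

theorem isLCIHom_algebraMap {R S : Type u} [CommRing R] [CommRing S] [Algebra R S] :
    IsLCIHom (algebraMap R S) ↔ LCI.IsLCI R S := by
  unfold IsLCIHom
  congr!
  exact Algebra.algebra_ext _ _ fun _ => rfl

theorem isLCIHom_stableUnderComposition : RingHom.StableUnderComposition @IsLCIHom := by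
  intro R S T _ _ _ f g hf hg
  letI := f.toAlgebra
  letI := g.toAlgebra
  letI : Algebra R T := (g.comp f).toAlgebra
  haveI : IsScalarTower R S T := .of_algebraMap_eq' rfl
  exact isLCI_trans hf hg

theorem isLCIHom_of_bijective {R S : Type u} [CommRing R] [CommRing S] (f : R →+* S) (hf : Function.Bijective f) :
    IsLCIHom f := by
  letI := f.toAlgebra
  refine isLCI_of_surjective hf.2 ?_
  rw [show RingHom.ker (algebraMap R S) = ⊥ from (RingHom.injective_iff_ker_eq_bot _).1 hf.1]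
  exact isKoszulRegularIdeal_bot

theorem isLCIHom_respectsIso : RingHom.RespectsIso @IsLCIHom :=
  RingHom.StableUnderComposition.respectsIso isLCIHom_stableUnderComposition
    fun e => isLCIHom_of_bijective _ e.bijective

theorem isLCIHom_awayPreserves : RingHom.LocalizationAwayPreserves @IsLCIHom := by
  intro R S _ _ f r R' S' _ _ _ _ _ _ hf
  letI := f.toAlgebra
  letI := (IsLocalization.Away.map R' S' f r).toAlgebra
  letI : Algebra R S' := ((algebraMap S S').comp f).toAlgebra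
  haveI : IsScalarTower R S S' := .of_algebraMap_eq' rfl
  haveI : IsScalarTower R R' S' := .of_algebraMap_eq fun x => by
    show algebraMap S S' (f x) = IsLocalization.Away.map R' S' f r (algebraMap R R' x)
    rw [IsLocalization.Away.map, IsLocalization.map_eq]
  haveI : Algebra.Smooth R R' := Algebra.Smooth.of_isLocalization_Away r
  exact isLCI_of_smooth (A := R) (isLCI_trans (B := S) hf (isLCI_away (f r) S'))

theorem isLCIHom_ofLocalizationSpanTarget : RingHom.OfLocalizationSpanTarget @IsLCIHom := by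
  intro R S _ _ f s hs h
  letI := f.toAlgebra
  refine isLCI_of_span s hs fun g hg => ?_
  have := h ⟨g, hg⟩
  rw [← RingHom.algebraMap_toAlgebra f, ← IsScalarTower.algebraMap_eq R S (Localization.Away g)] at this
  exact isLCIHom_algebraMap.1 this

theorem isLCIHom_ofLocalizationSpan : RingHom.OfLocalizationSpan @IsLCIHom := by
  intro R S _ _ f s hs h
  letI := f.toAlgebra
  refine isLCI_of_span (f '' s) (by rw [← Ideal.map_span, hs, Ideal.map_top]) ?_
  rintro _ ⟨r, hr, rfl⟩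
  have h' := h ⟨r, hr⟩
  letI := (Localization.awayMap f r).toAlgebra
  haveI : IsScalarTower R (Localization.Away r) (Localization.Away (f r)) := .of_algebraMap_eq fun x => by
    show algebraMap R (Localization.Away (f r)) x = Localization.awayMap f r (algebraMap R _ x)
    rw [Localization.awayMap, IsLocalization.Away.map, IsLocalization.map_eq,
      IsScalarTower.algebraMap_apply R S (Localization.Away (f r))]
    rfl
  exact isLCI_trans (isLCI_away r (Localization.Away r)) h'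

theorem isLCIHom_targetAway : RingHom.StableUnderCompositionWithLocalizationAwayTarget @IsLCIHom := by
  intro R S T _ _ _ _ s _ f hf
  exact isLCIHom_stableUnderComposition _ _ hf (isLCIHom_algebraMap.2 (isLCI_away s T))

theorem isLCIHom_propertyIsLocal : RingHom.PropertyIsLocal @IsLCIHom where
  localizationAwayPreserves := isLCIHom_awayPreserves
  ofLocalizationSpanTarget := isLCIHom_ofLocalizationSpanTarget
  ofLocalizationSpan := isLCIHom_ofLocalizationSpan
  StableUnderCompositionWithLocalizationAwayTarget := isLCIHom_targetAway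

theorem isLCIHom_sourceAway : RingHom.StableUnderCompositionWithLocalizationAwaySource @IsLCIHom := by
  intro R S T _ _ _ _ r _ f hf
  exact isLCIHom_stableUnderComposition _ _ (isLCIHom_algebraMap.2 (isLCI_away r S)) hf

/-- Affine-locally local complete intersection morphisms. -/
def LCIMorP : MorphismProperty Scheme.{u} := affineLocally @IsLCIHom

instance : HasRingHomProperty LCIMorP @IsLCIHom where
  isLocal_ringHomProperty := isLCIHom_propertyIsLocal
  eq_affineLocally' := rfl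

instance : LCIMorP.IsStableUnderComposition :=
  HasRingHomProperty.stableUnderComposition isLCIHom_stableUnderComposition

theorem lciMorP_iff {X S : Scheme.{u}} (f : X ⟶ S) :
    LCIMorP f ↔ ∀ (U : X.affineOpens) (V : S.affineOpens) (e : U.1 ≤ f ⁻¹ᵁ V.1),
      IsLCIHom (f.appLE V.1 U.1 e).hom := by
  rw [HasRingHomProperty.iff_appLE (P := LCIMorP)]
  exact ⟨fun h U V e => h V U e, fun h V U e => h U V e⟩

theorem lciMorP_iff_exists {X S : Scheme.{u}} (f : X ⟶ S) :
    LCIMorP f ↔ ∀ x : X, ∃ (V : S.affineOpens) (U : X.affineOpens) (_ : x ∈ U.1) (e : U.1 ≤ f ⁻¹ᵁ V.1),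
      IsLCIHom (f.appLE V.1 U.1 e).hom :=
  HasRingHomProperty.iff_exists_appLE isLCIHom_sourceAway

/-- Smooth morphisms. -/
theorem lciMorP_of_smooth {X S : Scheme.{u}} (f : X ⟶ S) [Smooth f] : LCIMorP f := by
  rw [lciMorP_iff]
  intro U V e
  have hsyn := (isSyntomicMor_iff f).1 (isSyntomicMor_of_smooth f) U V e
  letI := (f.appLE V.1 U.1 e).hom.toAlgebra
  exact isLCI_of_isSyntomic hsyn

/-- Koszul regular immersions. -/
theorem lciMorP_of_isRegularImmersion {Z X : Scheme.{u}} (i : Z ⟶ X) (hi : RegImm.IsRegularImmersion .koszul i) :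
    LCIMorP i := by
  rw [lciMorP_iff_exists]
  intro z
  obtain ⟨W, hzW, hc, l, hl, hker⟩ := hi.2 z
  obtain ⟨haff, hsurj⟩ := Groth.Agent.RegIdealLib.affine_and_surjective i W.2 hc
  refine ⟨W, ⟨_, haff⟩, hzW, le_rfl, ?_⟩
  rw [← Scheme.Hom.app_eq_appLE]
  letI := (i.app W.1).hom.toAlgebra
  refine isLCI_of_surjective hsurj ?_
  rw [RingHom.algebraMap_toAlgebra, hker]
  refine isKoszulRegularIdeal_of_nearGen fun p _ _ => ⟨1, (Ideal.ne_top_iff_one p).1 (Ideal.IsPrime.ne_top ‹_›), l,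
    fun L _ _ _ _ => ⟨Groth.Agent.RelDivLib.isKoszulRegularSeq_flat hl, Ideal.map_ofList _ _⟩⟩

/-- An immersion which is lci is Koszul regular. -/
theorem isRegularImmersion_of_lciMorP {Z X : Scheme.{u}} (i : Z ⟶ X) [IsImmersion i] (hi : LCIMorP i) :
    RegImm.IsRegularImmersion .koszul i := by
  refine ⟨inferInstance, fun z => ?_⟩
  let O := i.coborderRange
  obtain ⟨_, ⟨W, hW, rfl⟩, hzW, hWO⟩ :=
    X.isBasis_affineOpens.exists_subset_of_mem_open (subset_coborder ⟨z, rfl⟩ : i z ∈ (O : Set X)) O.2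
  have hc : ∀ V : X.Opens, V ≤ O → IsClosedImmersion (i ∣_ V) := by
    intro V hV
    have h1 : IsClosedImmersion i.liftCoborder := inferInstance
    have h2 : i ∣_ O = (Z.isoOfEq (U := i ⁻¹ᵁ O) (V := ⊤) (by
      ext x; simp only [TopologicalSpace.Opens.coe_top, Set.mem_univ, iff_true]
      exact subset_coborder ⟨x, rfl⟩)).hom ≫ Z.topIso.hom ≫ i.liftCoborder := by
      rw [← cancel_mono O.ι, morphismRestrict_ι]
      simp [i.liftCoborder_ι, O]
    have h3 : IsClosedImmersion (i ∣_ O) := by rw [h2]; infer_instance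
    exact IsZariskiLocalAtTarget.of_iSup_eq_top (P := @IsClosedImmersion) (fun _ : Unit => ⊤) (by simp)
      (fun _ => by
        have := IsZariskiLocalAtTarget.restrict h3 (O.ι ⁻¹ᵁ V)
        have e := morphismRestrictRestrict i O (O.ι ⁻¹ᵁ V)
        have hVV : O.ι ''ᵁ O.ι ⁻¹ᵁ V = V := by
          rw [Scheme.Hom.image_preimage_eq_opensRange_inf, Scheme.Opens.opensRange_ι, inf_eq_right.2 hV]
        have := (MorphismProperty.arrow_mk_iso_iff @IsClosedImmersion
          (e ≪≫ morphismRestrictEq i hVV)).1 this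
        exact IsZariskiLocalAtTarget.restrict this _)
  obtain ⟨haff, hsurj⟩ := Groth.Agent.RegIdealLib.affine_and_surjective i hW (hc W hWO)
  have hK : LCI.IsKoszulRegularIdeal (RingHom.ker (i.app W).hom) := by
    have hl := (lciMorP_iff i).1 hi ⟨_, haff⟩ ⟨W, hW⟩ le_rfl
    rw [← Scheme.Hom.app_eq_appLE] at hl
    letI := (i.app W).hom.toAlgebra
    exact isKoszulRegularIdeal_of_isLCI_surjective hl hsurj
  have hle : RingHom.ker (i.app W).hom ≤ (hW.primeIdealOf ⟨i z, hzW⟩).asIdeal := by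
    intro a ha
    by_contra hna
    have hmem : i z ∈ X.basicOpen a := by
      have := hW.fromSpec_primeIdealOf ⟨i z, hzW⟩
      change hW.fromSpec (hW.primeIdealOf ⟨i z, hzW⟩) = i z at this
      rw [← this]
      exact (hW.fromSpec_preimage_basicOpen a).ge hna
    have hz : z ∈ Z.basicOpen ((i.app W).hom a) := by
      rw [← i.preimage_basicOpen]
      exact hmem
    rw [RingHom.mem_ker.1 ha, Scheme.basicOpen_zero] at hz
    exact hz
  obtain ⟨g, hg, l, -, hl⟩ := exists_nearGen hK _ hle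
  have hgz : i z ∈ X.basicOpen g := by
    have := hW.fromSpec_primeIdealOf ⟨i z, hzW⟩
    change hW.fromSpec (hW.primeIdealOf ⟨i z, hzW⟩) = i z at this
    rw [← this]
    exact (hW.fromSpec_preimage_basicOpen g).ge hg
  refine ⟨⟨X.basicOpen g, hW.basicOpen g⟩, hgz, hc _ ((X.basicOpen_le g).trans hWO), ?_⟩
  letI : Algebra Γ(X, W) Γ(X, X.basicOpen g) := (X.presheaf.map (homOfLE (X.basicOpen_le g)).op).hom.toAlgebra
  haveI : IsLocalization.Away g Γ(X, X.basicOpen g) :=
    hW.isLocalization_of_eq_basicOpen g (homOfLE (X.basicOpen_le g)) rfl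
  letI : Algebra Γ(Z, i ⁻¹ᵁ W) Γ(Z, i ⁻¹ᵁ X.basicOpen g) :=
    (Z.presheaf.map (homOfLE (i.preimage_mono (X.basicOpen_le g))).op).hom.toAlgebra
  haveI : IsLocalization.Away ((i.app W).hom g) Γ(Z, i ⁻¹ᵁ X.basicOpen g) :=
    haff.isLocalization_of_eq_basicOpen _ (homOfLE (i.preimage_mono (X.basicOpen_le g))) (i.preimage_basicOpen g)
  haveI : Module.Flat Γ(X, W) Γ(X, X.basicOpen g) := IsLocalization.flat _ (Submonoid.powers g)
  obtain ⟨h₁, h₂⟩ := hl Γ(X, X.basicOpen g) (IsLocalization.Away.algebraMap_isUnit g)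
  refine ⟨_, h₁, ?_⟩
  rw [ker_map_away g (i.app W).hom (i.app (X.basicOpen g)).hom ?_, h₂]
  rw [RingHom.algebraMap_toAlgebra, RingHom.algebraMap_toAlgebra, ← CommRingCat.hom_comp, ← CommRingCat.hom_comp]
  exact congrArg CommRingCat.Hom.hom (i.naturality (homOfLE (X.basicOpen_le g)).op)

theorem isRegularImmersion_iff_lciMorP {Z X : Scheme.{u}} (i : Z ⟶ X) [IsImmersion i] :
    RegImm.IsRegularImmersion .koszul i ↔ LCIMorP i :=
  ⟨lciMorP_of_isRegularImmersion i, isRegularImmersion_of_lciMorP i⟩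

/-- Cancellation of a smooth morphism. -/
theorem lciMorP_of_comp_smooth {X Y S : Scheme.{u}} (f : X ⟶ Y) (g : Y ⟶ S) [Smooth g] (h : LCIMorP (f ≫ g)) :
    LCIMorP f := by
  rw [lciMorP_iff_exists]
  intro x
  obtain ⟨_, ⟨V, hV, rfl⟩, hxV, -⟩ :=
    S.isBasis_affineOpens.exists_subset_of_mem_open (Set.mem_univ (g (f x))) isOpen_univ
  obtain ⟨_, ⟨W, hW, rfl⟩, hxW, hWV⟩ :=
    Y.isBasis_affineOpens.exists_subset_of_mem_open (show f x ∈ ((g ⁻¹ᵁ V : Y.Opens) : Set Y) from hxV) (g ⁻¹ᵁ V).2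
  obtain ⟨_, ⟨U, hU, rfl⟩, hxU, hUW⟩ :=
    X.isBasis_affineOpens.exists_subset_of_mem_open (show x ∈ ((f ⁻¹ᵁ W : X.Opens) : Set X) from hxW) (f ⁻¹ᵁ W).2
  refine ⟨⟨W, hW⟩, ⟨U, hU⟩, hxU, hUW, ?_⟩
  have eUV : U ≤ (f ≫ g) ⁻¹ᵁ V := fun y hy => hWV (hUW hy)
  have hcomp := (lciMorP_iff _).1 h ⟨U, hU⟩ ⟨V, hV⟩ eUV
  letI : Algebra Γ(S, V) Γ(Y, W) := (g.appLE V W hWV).hom.toAlgebra
  letI : Algebra Γ(Y, W) Γ(X, U) := (f.appLE W U hUW).hom.toAlgebra
  letI : Algebra Γ(S, V) Γ(X, U) := ((f ≫ g).appLE V U eUV).hom.toAlgebra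
  haveI : IsScalarTower Γ(S, V) Γ(Y, W) Γ(X, U) := .of_algebraMap_eq' (by
    rw [RingHom.algebraMap_toAlgebra, RingHom.algebraMap_toAlgebra, RingHom.algebraMap_toAlgebra,
      ← CommRingCat.hom_comp, Scheme.Hom.appLE_comp_appLE])
  haveI : Algebra.Smooth Γ(S, V) Γ(Y, W) :=
    RingHom.smooth_algebraMap.1 (HasRingHomProperty.appLE @Smooth g ‹_› ⟨V, hV⟩ ⟨W, hW⟩ hWV)
  exact isLCI_of_smooth (A := Γ(S, V)) hcomp

theorem lciMorP_of_forall_isKoszulAt {X S : Scheme.{u}} (f : X ⟶ S) (h : ∀ x, Synt.IsKoszulAt f x) : LCIMorP f := by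
  choose U P i π hxU _ hi hπ hf using h
  refine (IsZariskiLocalAtSource.iff_of_iSup_eq_top (P := LCIMorP) U
    (top_le_iff.1 fun x _ => TopologicalSpace.Opens.mem_iSup.2 ⟨x, hxU x⟩)).2 fun x => ?_
  rw [← hf x]
  haveI := hπ x
  exact LCIMorP.comp_mem _ _ (lciMorP_of_isRegularImmersion _ (hi x)) (lciMorP_of_smooth _)

theorem isKoszulAt_of_lciMorP {X S : Scheme.{u}} (f : X ⟶ S) (h : LCIMorP f) (x : X) :
    Synt.IsKoszulAt f x := by
  obtain ⟨V, U, hxU, e, -⟩ := (lciMorP_iff_exists f).1 h x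
  have hs := (lciMorP_iff f).1 h U V e
  letI : Algebra Γ(S, V.1) Γ(X, U.1) := (f.appLE V.1 U.1 e).hom.toAlgebra
  obtain ⟨-, n, φ, hφ, hK⟩ := hs
  let C : CommRingCat.{u} := CommRingCat.of (MvPolynomial (Fin n) Γ(S, V.1))
  let φc : C ⟶ Γ(X, U.1) := CommRingCat.ofHom φ.toRingHom
  let ac : Γ(S, V.1) ⟶ C := CommRingCat.ofHom MvPolynomial.C
  haveI : Smooth (Spec.map ac) := (HasRingHomProperty.Spec_iff (P := @Smooth)).2
    (RingHom.smooth_algebraMap.2 (⟨inferInstance, inferInstance⟩ : Algebra.Smooth Γ(S, V.1) (MvPolynomial (Fin n) Γ(S, V.1))))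
  refine ⟨U.1, Spec C, U.2.isoSpec.hom ≫ Spec.map φc, Spec.map ac ≫ V.2.fromSpec, hxU, ?_,
    isRegularImmersion_iso_comp _ _ (isRegularImmersion_Spec φc hφ hK), inferInstance, ?_⟩
  · haveI : LocallyOfFiniteType f := by
      rw [HasRingHomProperty.iff_appLE (P := @LocallyOfFiniteType)]
      intro V' U' e'
      have := (lciMorP_iff f).1 h U' V' e'
      exact this.1
    infer_instance
  · have hc : ac ≫ φc = f.appLE V.1 U.1 e := CommRingCat.hom_ext φ.comp_algebraMap
    rw [Category.assoc, ← Spec.map_comp_assoc, hc, IsAffineOpen.SpecMap_appLE_fromSpec f V.2 U.2, ← Category.assoc,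
      IsAffineOpen.isoSpec_hom_fromSpec]

theorem forall_isKoszulAt_iff {X S : Scheme.{u}} (f : X ⟶ S) : (∀ x, Synt.IsKoszulAt f x) ↔ LCIMorP f :=
  ⟨lciMorP_of_forall_isKoszulAt f, isKoszulAt_of_lciMorP f⟩

theorem lciMorP_restrict_iff_isKoszulAt {X S : Scheme.{u}} (f : X ⟶ S) (x : X) :
    Synt.IsKoszulAt f x ↔ ∃ V : X.Opens, x ∈ V ∧ LCIMorP (V.ι ≫ f) := by
  constructor
  · rintro ⟨U, P, i, π, hxU, -, hi, hπ, hf⟩
    haveI := hπ
    exact ⟨U, hxU, hf ▸ LCIMorP.comp_mem _ _ (lciMorP_of_isRegularImmersion _ hi) (lciMorP_of_smooth _)⟩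
  · rintro ⟨V, hxV, h⟩
    obtain ⟨U, P, i, π, hxU, hft, hi, hπ, hf⟩ := isKoszulAt_of_lciMorP _ h ⟨x, hxV⟩
    refine ⟨V.ι ''ᵁ U, P, (Scheme.Hom.isoImage V.ι U).inv ≫ i, π, ⟨_, hxU, rfl⟩, ?_,
      isRegularImmersion_iso_comp _ i hi, hπ, ?_⟩
    · have : (V.ι ''ᵁ U).ι ≫ f = (Scheme.Hom.isoImage V.ι U).inv ≫ (U.ι ≫ V.ι ≫ f) := by
        rw [← Scheme.Hom.isoImage_inv_ι_assoc]
      rw [this]
      infer_instance
    · rw [Category.assoc, hf, Scheme.Hom.isoImage_inv_ι_assoc]

end Groth.Agent.CILib
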