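import Groth.Agent.CILib.KoszulDescent
import Groth.Agent.CILib.KoszulScheme
import Groth.Agent.PullbackMod.Flat
import Mathlib.AlgebraicGeometry.Morphisms.FlatDescent

/-!
Flat base change and fpqc descent of lci morphisms.
-/

set_option autoImplicit false
set_option linter.style.haveILetI false
set_option backward.isDefEq.respectTransparency false
set_option backward.isDefEq.respectTransparency.types false

universe u

open CategoryTheory AlgebraicGeometry Limits MorphismProperty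
open scoped TensorProduct

noncomputable section

namespace Groth.Agent.CILib

theorem isLCI_baseChange {A B A' B' : Type u} [CommRing A] [CommRing B] [CommRing A'] [CommRing B'] [Algebra A B]
    [Algebra A A'] [Algebra A' B'] [Algebra B B'] [Algebra A B'] [IsScalarTower A A' B'] [IsScalarTower A B B']
    [Algebra.IsPushout A A' B B'] [Module.Flat A A'] (h : LCI.IsLCI A B) : LCI.IsLCI A' B' := by
  obtain ⟨-, n, φ, hφ, hK⟩ := h
  obtain ⟨φ', hφ', hker⟩ := exists_baseChange_pres (A' := A') (B' := B') φ hφ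
  refine isLCI_of_pres φ' hφ' ?_
  letI : Algebra (MvPolynomial (Fin n) A) (MvPolynomial (Fin n) A') := (MvPolynomial.map (algebraMap A A')).toAlgebra
  haveI : Module.Flat (MvPolynomial (Fin n) A) (MvPolynomial (Fin n) A') := by
    rw [← RingHom.flat_algebraMap_iff]
    have h1 : (algebraMap A A').Flat := RingHom.flat_algebraMap_iff.2 inferInstance
    let P := MvPolynomial (Fin n) A
    let P' := MvPolynomial (Fin n) A'
    letI : Algebra P P' := MvPolynomial.algebraMvPolynomial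
    haveI : IsScalarTower A P P' := .of_algebraMap_eq fun a => by
      show _ = MvPolynomial.map (algebraMap A A') (algebraMap A P a)
      rw [MvPolynomial.algebraMap_eq, MvPolynomial.map_C]
      rfl
    haveI : Module.Flat P P' :=
      Module.Flat.isBaseChange (R := A) (S := P) (M := A') (N := P')
        (f := (IsScalarTower.toAlgHom A A' P').toLinearMap)
        (Algebra.IsPushout.out (R := A) (S := P) (R' := A') (S' := P'))
    exact RingHom.flat_algebraMap_iff.2 this
  rw [hker]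
  exact isKoszulRegularIdeal_map_flat (A := MvPolynomial (Fin n) A) (A' := MvPolynomial (Fin n) A') hK

theorem isLCI_of_faithfullyFlat {A B A' B' : Type u} [CommRing A] [CommRing B] [CommRing A'] [CommRing B'] [Algebra A B]
    [Algebra A A'] [Algebra A' B'] [Algebra B B'] [Algebra A B'] [IsScalarTower A A' B'] [IsScalarTower A B B']
    [Algebra.IsPushout A A' B B'] [Module.FaithfullyFlat A A'] [hft : Algebra.FiniteType A B]
    (h : LCI.IsLCI A' B') : LCI.IsLCI A B := by
  obtain ⟨n, φ, hφ⟩ := Algebra.FiniteType.iff_quotient_mvPolynomial''.1 hft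
  obtain ⟨φ', hφ', hker⟩ := exists_baseChange_pres (A' := A') (B' := B') φ hφ
  refine isLCI_of_pres φ hφ ?_
  letI : Algebra (MvPolynomial (Fin n) A) (MvPolynomial (Fin n) A') := MvPolynomial.algebraMvPolynomial
  haveI : IsScalarTower A (MvPolynomial (Fin n) A) (MvPolynomial (Fin n) A') := .of_algebraMap_eq fun a => by
    show _ = MvPolynomial.map (algebraMap A A') (algebraMap A (MvPolynomial (Fin n) A) a)
    rw [MvPolynomial.algebraMap_eq, MvPolynomial.map_C]
    rfl
  haveI : Module.FaithfullyFlat (MvPolynomial (Fin n) A) (MvPolynomial (Fin n) A') :=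
    Module.FaithfullyFlat.of_linearEquiv (MvPolynomial (Fin n) A) (MvPolynomial (Fin n) A ⊗[A] A')
      ((Algebra.IsPushout.out (R := A) (S := MvPolynomial (Fin n) A) (R' := A') (S' := MvPolynomial (Fin n) A')).equiv).symm
  have hk := isKoszulRegularIdeal_ker_of_isLCI h φ' hφ'
  rw [hker] at hk
  exact isKoszulRegularIdeal_of_faithfullyFlat (A := MvPolynomial (Fin n) A) (B := MvPolynomial (Fin n) A') hk

theorem isLCIHom_codescendsAlong : RingHom.CodescendsAlong @IsLCIHom RingHom.FaithfullyFlat := by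
  refine RingHom.CodescendsAlong.mk _ isLCIHom_respectsIso ?_
  intro R S T _ _ _ _ _ hS h
  rw [RingHom.faithfullyFlat_algebraMap_iff] at hS
  have h' : LCI.IsLCI S (S ⊗[R] T) := isLCIHom_algebraMap.1 h
  letI : Algebra T (S ⊗[R] T) := Algebra.TensorProduct.rightAlgebra
  have hft : (algebraMap R T).FiniteType :=
    RingHom.FiniteType.codescendsAlong_faithfullyFlat (R := R) (S := T) (R' := S) (S' := S ⊗[R] T)
      (RingHom.faithfullyFlat_algebraMap_iff.2 hS) (RingHom.finiteType_algebraMap.2 h'.1)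
  haveI := RingHom.finiteType_algebraMap.1 hft
  exact isLCIHom_algebraMap.2 (isLCI_of_faithfullyFlat (A := R) (B := T) (A' := S) (B' := S ⊗[R] T) h')

/-- Flat base change. -/
theorem lciMorP_baseChange {X S X' S' : Scheme.{u}} {f : X ⟶ S} {g : S' ⟶ S} {f' : X' ⟶ S'} {g' : X' ⟶ X}
    (hc : IsPullback g' f' f g) [Flat g] (hf : LCIMorP f) : LCIMorP f' := by
  rw [lciMorP_iff_exists]
  intro x
  obtain ⟨_, ⟨V, hV, rfl⟩, hxV, -⟩ :=
    S.isBasis_affineOpens.exists_subset_of_mem_open (Set.mem_univ (g (f' x))) isOpen_univ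
  obtain ⟨_, ⟨V', hV', rfl⟩, hxV', eV⟩ :=
    S'.isBasis_affineOpens.exists_subset_of_mem_open (show f' x ∈ ((g ⁻¹ᵁ V : S'.Opens) : Set S') from hxV) (g ⁻¹ᵁ V).2
  have hfx : g' x ∈ f ⁻¹ᵁ V := by
    show f (g' x) ∈ V
    rw [← Scheme.Hom.comp_apply, hc.w, Scheme.Hom.comp_apply]
    exact hxV
  obtain ⟨_, ⟨U, hU, rfl⟩, hxU, eU⟩ :=
    X.isBasis_affineOpens.exists_subset_of_mem_open (show g' x ∈ ((f ⁻¹ᵁ V : X.Opens) : Set X) from hfx) (f ⁻¹ᵁ V).2
  obtain ⟨hW, hpo⟩ := PullbackMod.isPushout_appLE hc hV hU hV' eU eV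
  refine ⟨⟨V', hV'⟩, ⟨g' ⁻¹ᵁ U ⊓ f' ⁻¹ᵁ V', hW⟩, ⟨hxU, hxV'⟩, inf_le_right, ?_⟩
  let W : X'.Opens := g' ⁻¹ᵁ U ⊓ f' ⁻¹ᵁ V'
  letI : Algebra Γ(S, V) Γ(X, U) := (f.appLE V U eU).hom.toAlgebra
  letI : Algebra Γ(S, V) Γ(S', V') := (g.appLE V V' eV).hom.toAlgebra
  letI : Algebra Γ(X, U) Γ(X', W) := (g'.appLE U W inf_le_left).hom.toAlgebra
  letI : Algebra Γ(S', V') Γ(X', W) := (f'.appLE V' W inf_le_right).hom.toAlgebra
  letI : Algebra Γ(S, V) Γ(X', W) := ((g'.appLE U W inf_le_left).hom.comp (f.appLE V U eU).hom).toAlgebra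
  haveI : IsScalarTower Γ(S, V) Γ(X, U) Γ(X', W) := .of_algebraMap_eq fun _ => rfl
  haveI : IsScalarTower Γ(S, V) Γ(S', V') Γ(X', W) := .of_algebraMap_eq' (by
    show ((f.appLE V U eU) ≫ g'.appLE U W inf_le_left).hom = ((g.appLE V V' eV) ≫ f'.appLE V' W inf_le_right).hom
    simp only [Scheme.Hom.appLE_comp_appLE, hc.w])
  haveI : Algebra.IsPushout Γ(S, V) Γ(S', V') Γ(X, U) Γ(X', W) := hpo
  haveI : Module.Flat Γ(S, V) Γ(S', V') :=
    HasRingHomProperty.appLE (P := @Flat) g ‹_› ⟨V, hV⟩ ⟨V', hV'⟩ eV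
  exact isLCI_baseChange (A := Γ(S, V)) (B := Γ(X, U)) ((lciMorP_iff f).1 hf ⟨U, hU⟩ ⟨V, hV⟩ eU)

instance lciMorP_descendsAlong : LCIMorP.DescendsAlong (@Surjective ⊓ @Flat ⊓ @QuasiCompact) := by
  apply IsZariskiLocalAtTarget.descendsAlong
  intro R X Y f g hf h
  wlog hY : ∃ S, Y = Spec S generalizing Y
  · rw [IsZariskiLocalAtSource.iff_of_openCover (P := LCIMorP) Y.affineCover]
    intro i
    have heq : pullback.fst f (Y.affineCover.f i ≫ g) =
        pullback.map _ _ _ _ (𝟙 _) (Y.affineCover.f i) (𝟙 _) (by simp) (by simp) ≫ pullback.fst f g :=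
      (pullback.lift_fst _ _ _).symm
    exact this _ (heq ▸ IsZariskiLocalAtSource.comp h _) ⟨_, rfl⟩
  obtain ⟨S, rfl⟩ := hY
  obtain ⟨⟨hsurj, hflat⟩, hqc⟩ := hf
  haveI := hsurj
  haveI := hflat
  haveI := hqc
  haveI : CompactSpace X := QuasiCompact.compactSpace_of_compactSpace f
  obtain ⟨X', p, hp₁, hp₂, hX'⟩ := X.exists_hom_isAffine_of_isZariskiLocalAtSource @Flat
  haveI := hp₁
  haveI := hp₂
  haveI := hX'
  let q : Spec Γ(X', ⊤) ⟶ X := X'.isoSpec.inv ≫ p
  have h' : LCIMorP (pullback.fst (q ≫ f) g) := by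
    rw [← pullbackRightPullbackFstIso_inv_fst f g q, LCIMorP.cancel_left_of_respectsIso]
    exact lciMorP_baseChange (IsPullback.of_hasPullback q (pullback.fst f g)).flip h
  refine of_pullback_fst_Spec_of_codescendsAlong (P := LCIMorP) (P' := @Surjective ⊓ @Flat) (Q := @IsLCIHom)
    (Q' := RingHom.FaithfullyFlat) isLCIHom_codescendsAlong (fun {R S φ} hφ => ?_)
    (fun {R S φ} => HasRingHomProperty.Spec_iff (P := LCIMorP)) (f := q ≫ f) ⟨inferInstance, inferInstance⟩ h'
  obtain ⟨hs, hfl⟩ := hφ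
  rw [RingHom.FaithfullyFlat.iff_flat_and_comap_surjective]
  exact ⟨by rwa [HasRingHomProperty.Spec_iff (P := @Flat)] at hfl, (Spec.map φ).surjective⟩

theorem lciMorP_of_isPullback {X S X' S' : Scheme.{u}} {f : X ⟶ S} {g : S' ⟶ S} {f' : X' ⟶ S'} {g' : X' ⟶ X}
    (hc : IsPullback g' f' f g) [Surjective g] [Flat g] [QuasiCompact g] (hf' : LCIMorP f') : LCIMorP f :=
  MorphismProperty.of_isPullback_of_descendsAlong (Q := @Surjective ⊓ @Flat ⊓ @QuasiCompact) hc.flip
    ⟨⟨inferInstance, inferInstance⟩, inferInstance⟩ hf'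

end Groth.Agent.CILib
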