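import Groth.Agent.CILib.Regular
import Groth.Agent.DimFormulaLib.LocalDim
import Groth.Agent.CMGraded.Glue
import Groth.Agent.CMCat.Polynomial
import Groth.Prelude.Def_RegImm

/-!
Dimension bookkeeping for complete intersection presentations over a field.
-/

set_option autoImplicit false
set_option backward.isDefEq.respectTransparency false

universe u

open IsLocalRing MvPolynomial RingTheory.Sequence

namespace Groth.Agent.CILib

variable (k : Type u) [Field k]

/-- `ht Q + trdeg κ(Q) = n` in a polynomial ring in `n` variables. -/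
theorem height_add_trdeg_mvPolynomial {n : ℕ} (Q : Ideal (MvPolynomial (Fin n) k)) [Q.IsPrime] :
    ∃ a r : ℕ, Q.height = a ∧ Algebra.trdeg k (MvPolynomial (Fin n) k ⧸ Q) = r ∧ a + r = n := by
  haveI : Q.LiesOver (⊥ : Ideal k) := ⟨((Ideal.eq_bot_or_top (Q.under k)).resolve_right
    (Ideal.IsPrime.ne_top inferInstance)).symm⟩
  obtain ⟨hq, hp, t', t, e1, e2, e3, e4, -, heq⟩ := DimFormulaLib.dim_formula (⊥ : Ideal k) Q
  obtain ⟨r, hr⟩ := DimFormulaLib.exists_nat_trdeg_quotient k (MvPolynomial (Fin n) k) Q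
  have h1 : t' = r := by
    have : Algebra.trdeg (k ⧸ (⊥ : Ideal k)) (MvPolynomial (Fin n) k ⧸ Q) =
        Algebra.trdeg k (MvPolynomial (Fin n) k ⧸ Q) :=
      DimFormulaLib.trdeg_eq_of_ringEquiv (RingEquiv.quotientBot k) (RingEquiv.refl _) fun x => by
        obtain ⟨x, rfl⟩ := Ideal.Quotient.mk_surjective x
        rfl
    rw [e3, hr] at this
    exact_mod_cast this
  have h2 : t = n := by
    rw [MvPolynomial.trdeg_of_isDomain] at e4
    simpa using e4.symm
  have h3 : hp = 0 := by
    have : (⊥ : Ideal k).height = 0 := Ideal.height_bot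
    rw [e2] at this
    exact_mod_cast this
  have := heq (DimFormulaLib.isUniversallyCatenary_field k)
  exact ⟨hq, r, e1, hr, by omega⟩

/-- `ht q + trdeg κ(q)` is at most the dimension. -/
theorem height_add_trdeg_le_dim (S : Type u) [CommRing S] [Algebra k S] [Algebra.FiniteType k S]
    (q : Ideal S) [q.IsPrime] :
    ∃ a r : ℕ, q.height = a ∧ Algebra.trdeg k (S ⧸ q) = r ∧
      ((a + r : ℕ) : WithBot ℕ∞) ≤ ringKrullDim S := by
  obtain ⟨r, hr⟩ := DimFormulaLib.exists_nat_trdeg_quotient k S q
  obtain ⟨a, ha, hl, -⟩ := DimFormulaLib.localDim_eq_height_add k S ⟨q, ‹_›⟩ r hr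
  refine ⟨a, r, ha, hr, ?_⟩
  rw [← hl, ← PrimeSpectrum.topologicalKrullDim_eq_ringKrullDim]
  refine (iInf_le _ (⟨⊤, trivial⟩ : {U : TopologicalSpace.Opens (PrimeSpectrum S) // (⟨q, ‹_›⟩ : PrimeSpectrum S) ∈ U})).trans ?_
  exact Topology.IsInducing.topologicalKrullDim_le Topology.IsInducing.subtypeVal

variable {k}

/-- For a presentation by `c` equations with dimension at most `n - c`, at every prime the equations form a
regular sequence of the local ring of affine space, with Cohen-Macaulay quotient the local ring. -/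
theorem local_data {S : Type u} [CommRing S] [Algebra k S] {n c : ℕ} (hc : c ≤ n)
    (φ : MvPolynomial (Fin n) k →ₐ[k] S) (r : Fin c → MvPolynomial (Fin n) k)
    (hφ : Function.Surjective φ) (hker : RingHom.ker φ.toRingHom = Ideal.span (Set.range r))
    (hdim : ringKrullDim S ≤ ((n - c : ℕ) : WithBot ℕ∞)) (q : Ideal S) [q.IsPrime] :
    (∃ a b : ℕ, q.height = a ∧ (q.comap φ.toRingHom).height = b ∧ a + c = b) ∧
      IsRegular (Localization.AtPrime (q.comap φ.toRingHom))
        ((List.ofFn r).map (algebraMap (MvPolynomial (Fin n) k) (Localization.AtPrime (q.comap φ.toRingHom)))) ∧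
      RingHom.ker (Localization.localRingHom (q.comap φ.toRingHom) q φ.toRingHom rfl) =
        Ideal.ofList ((List.ofFn r).map
          (algebraMap (MvPolynomial (Fin n) k) (Localization.AtPrime (q.comap φ.toRingHom)))) ∧
      LocCoh.IsCohenMacaulayLocalRing (Localization.AtPrime q) := by
  classical
  haveI : Algebra.FiniteType k S := Algebra.FiniteType.of_surjective φ hφ
  set Q := q.comap φ.toRingHom with hQ
  haveI : Q.IsPrime := Ideal.IsPrime.comap _
  set R := Localization.AtPrime Q
  set rs := (List.ofFn r).map (algebraMap (MvPolynomial (Fin n) k) R) with hrs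
  obtain ⟨b, rb, hb, hrb, hbn⟩ := height_add_trdeg_mvPolynomial k Q
  obtain ⟨a, ra, ha, hra, hle⟩ := height_add_trdeg_le_dim k S q
  have hrr : ra = rb := by
    let ψ : (MvPolynomial (Fin n) k ⧸ Q) →ₐ[k] S ⧸ q := Ideal.quotientMapₐ q φ le_rfl
    let e : (MvPolynomial (Fin n) k ⧸ Q) ≃ₐ[k] S ⧸ q := AlgEquiv.ofBijective ψ
      ⟨Ideal.quotientMap_injective (I := q) (f := φ.toRingHom), Ideal.quotientMap_surjective (H := le_rfl) (f := φ.toRingHom) hφ⟩
    have := e.trdeg_eq
    rw [hrb, hra] at this
    exact_mod_cast this.symm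
  have hac : a + c ≤ b := by
    have h1 : a + ra ≤ n - c := by exact_mod_cast hle.trans hdim
    omega
  set f := Localization.localRingHom Q q φ.toRingHom rfl with hf
  have hsurj : Function.Surjective f := CMGraded.localRingHom_surjective hφ Q q rfl
  have hkf : RingHom.ker f = Ideal.ofList rs := by
    rw [hf, CMGraded.ker_localRingHom hφ Q q rfl, hker, Ideal.map_span, hrs, Ideal.ofList]
    congr 1
    ext x
    simp [List.mem_ofFn]
    rfl
  let e : (R ⧸ Ideal.ofList rs) ≃+* Localization.AtPrime q :=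
    (Ideal.quotEquivOfEq hkf.symm).trans (RingHom.quotientKerEquivOfSurjective hsurj)
  have hm : ∀ x ∈ rs, x ∈ maximalIdeal R := by
    intro x hx
    obtain ⟨y, hy, rfl⟩ := List.mem_map.1 hx
    obtain ⟨i, rfl⟩ := List.mem_ofFn.1 hy
    refine (IsLocalization.AtPrime.to_map_mem_maximal_iff R Q (r i)).2 ?_
    show φ.toRingHom (r i) ∈ q
    have : r i ∈ RingHom.ker φ.toRingHom := hker ▸ Ideal.subset_span ⟨i, rfl⟩
    rw [RingHom.mem_ker.1 this]
    exact q.zero_mem
  have hlen : rs.length = c := by simp [hrs]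
  have hdR : ringKrullDim R = ((b : ℕ) : WithBot ℕ∞) := by
    rw [IsLocalization.AtPrime.ringKrullDim_eq_height Q, hb]; rfl
  have hdS : ringKrullDim (R ⧸ Ideal.ofList rs) = ((a : ℕ) : WithBot ℕ∞) := by
    rw [ringKrullDim_eq_of_ringEquiv e, IsLocalization.AtPrime.ringKrullDim_eq_height q, ha]; rfl
  haveI : LocCoh.IsCohenMacaulayLocalRing R := by
    haveI : LocCoh.IsCohenMacaulayRing k := by
      haveI : IsRegularLocalRing k := inferInstance
      haveI := RatliffLib.cm_of_regularLocal k
      exact CMCat.isCohenMacaulayRing_of_local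
    haveI := CMCat.isCohenMacaulayRing_mvPolynomial (R := k) n
    exact LocCoh.IsCohenMacaulayRing.isCohenMacaulayLocalRing_localization Q
  obtain ⟨hreg, hcm⟩ := isRegular_of_ringKrullDim_quotient_add_le rs hm (by
    rw [hdR, hdS, hlen]; exact_mod_cast hac)
  refine ⟨⟨a, b, ha, hb, ?_⟩, hreg, hkf, ?_⟩
  · have h := ringKrullDim_le_ringKrullDim_quotient_add_spanFinrank (Ideal.ofList rs)
      ((Ideal.span_le.2 hm).trans_eq (IsLocalRing.ringJacobson_eq_maximalIdeal R).symm)
    have h' : (Ideal.ofList rs).spanFinrank ≤ c := by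
      rw [← hlen]
      exact (Submodule.spanFinrank_span_le_ncard_of_finite rs.finite_toSet).trans
        ((by rw [List.coe_toFinset _ |>.symm, Set.ncard_coe_finset]; exact List.toFinset_card_le rs) :
          Set.ncard {x | x ∈ rs} ≤ rs.length)
    rw [hdR, hdS] at h
    have h'' : b ≤ a + (Ideal.ofList rs).spanFinrank := by exact_mod_cast h
    omega
  · haveI := hcm
    exact CMCat.isCohenMacaulayLocalRing_of_ringEquiv (A := R ⧸ Ideal.ofList rs) (B := Localization.AtPrime q) e

end Groth.Agent.CILib
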