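import Groth.Agent.CILib.RelGCI
import Groth.Agent.CILib.Dim
import Groth.Agent.DeformLib.FlatLift
import Groth.Agent.CAlgBasics.FlatAux

/-!
Relative global complete intersections are flat, and their equations form regular sequences.
-/

set_option autoImplicit false
set_option backward.isDefEq.respectTransparency false

universe u

open TensorProduct MvPolynomial RingTheory.Sequence IsLocalRing
open scoped Pointwise

namespace Groth.Agent.CILib

section BaseChange

variable {A S : Type u} [CommRing A] [CommRing S] [Algebra A S] (A' : Type u) [CommRing A'] [Algebra A A']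

/-- A regular sequence with flat successive quotients stays weakly regular after base change. -/
theorem weaklyRegular_tensor_of_flat_quotients :
    ∀ (rs : List S) (M : Type u) [AddCommGroup M] [Module A M] [Module S M] [IsScalarTower A S M],
      IsWeaklyRegular M rs →
      (∀ i, Module.Flat A (M ⧸ (Ideal.ofList (rs.take (i + 1)) • ⊤ : Submodule S M))) →
      IsWeaklyRegular (M ⊗[A] A') rs
  | [], M, _, _, _, _, _, _ => IsWeaklyRegular.nil S _
  | r :: rs, M, _, _, _, _, h, hflat => by
    rw [isWeaklyRegular_cons_iff] at h ⊢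
    obtain ⟨hr, h⟩ := h
    haveI : Module.Flat A (QuotSMulTop r M) := by
      have := hflat 0
      rw [zero_add, List.take_succ_cons, List.take_zero] at this
      exact Module.Flat.of_linearEquiv ((((Submodule.quotOfListConsSMulTopEquivQuotSMulTopInner M r []).trans
        (Submodule.quotEquivOfEqBot (Ideal.ofList ([] : List S) • (⊤ : Submodule S (QuotSMulTop r M)))
          (by rw [Ideal.ofList_nil, Submodule.bot_smul]))).restrictScalars A).symm)
    let f : M →ₗ[A] M := (LinearMap.lsmul S M r).restrictScalars A
    let g : M →ₗ[A] QuotSMulTop r M := (Submodule.mkQ (r • ⊤ : Submodule S M)).restrictScalars A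
    have hfg : Function.Exact f g := fun x => by
      simp [f, g, Submodule.Quotient.mk_eq_zero, Submodule.mem_smul_pointwise_iff_exists]
    have hg : Function.Surjective g := Submodule.mkQ_surjective _
    have hsm : ∀ z : M ⊗[A] A', r • z = f.rTensor A' z := fun z => by
      induction z using TensorProduct.induction_on with
      | zero => simp
      | tmul a b => simp [f, TensorProduct.smul_tmul']
      | add a b ha hb => rw [smul_add, map_add, ha, hb]
    have hinj := CAlgBasics.rTensor_injective_of_flat_quotient (f := f) (g := g) (N := A') hr hfg hg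
    refine ⟨fun a b hab => hinj (by rwa [← hsm, ← hsm]), ?_⟩
    let G : M ⊗[A] A' →ₗ[S] QuotSMulTop r M ⊗[A] A' :=
      AlgebraTensorModule.map (Submodule.mkQ (r • ⊤ : Submodule S M)) LinearMap.id
    have hGg : ∀ z, G z = g.rTensor A' z := fun z => by
      induction z using TensorProduct.induction_on with
      | zero => simp
      | tmul a b => simp [G, g]
      | add a b ha hb => rw [map_add, map_add, ha, hb]
    have hex := rTensor_exact A' hfg hg
    have hker : (r • ⊤ : Submodule S (M ⊗[A] A')) = LinearMap.ker G := by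
      ext z
      rw [LinearMap.mem_ker, hGg, hex z, Submodule.mem_smul_pointwise_iff_exists]
      simp only [Submodule.mem_top, true_and, hsm, Set.mem_range]
    have hGs : Function.Surjective G := fun z => by
      obtain ⟨w, hw⟩ := LinearMap.rTensor_surjective A' hg z
      exact ⟨w, by rw [hGg, hw]⟩
    let e : QuotSMulTop r (M ⊗[A] A') ≃ₗ[S] QuotSMulTop r M ⊗[A] A' :=
      (Submodule.quotEquivOfEq _ _ hker).trans (G.quotKerEquivOfSurjective hGs)
    refine (e.isWeaklyRegular_congr rs).2 (weaklyRegular_tensor_of_flat_quotients rs (QuotSMulTop r M) h fun i => ?_)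
    have h' := hflat (i + 1)
    rw [List.take_succ_cons] at h'
    exact Module.Flat.of_linearEquiv
      (((Submodule.quotOfListConsSMulTopEquivQuotSMulTopInner M r (rs.take (i + 1))).restrictScalars A).symm)

end BaseChange

section Noetherian

variable {R : Type u} [CommRing R] {n c : ℕ}

theorem isWeaklyRegular_take {M : Type*} [AddCommGroup M] [Module R M] {rs : List R}
    (h : IsWeaklyRegular M rs) (i : ℕ) : IsWeaklyRegular M (rs.take i) := by
  rw [← List.take_append_drop i rs, isWeaklyRegular_append_iff] at h
  exact h.1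

/-- The closed fibre of a local ring of affine space is a local ring of affine space over the residue field. -/
theorem exists_closedFibre_equiv (q : Ideal (MvPolynomial (Fin n) R)) [q.IsPrime] (p : Ideal R) [p.IsPrime]
    (hp : q.comap (algebraMap R (MvPolynomial (Fin n) R)) = p) :
    ∃ (Q : Ideal (MvPolynomial (Fin n) p.ResidueField)) (_ : Q.IsPrime),
      Q.comap (MvPolynomial.map (algebraMap R p.ResidueField)) = q ∧
      ∃ e : Localization.AtPrime Q ≃+* Localization.AtPrime q ⧸ p.map (algebraMap R (Localization.AtPrime q)),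
        ∀ x : MvPolynomial (Fin n) R, e (algebraMap _ _ (MvPolynomial.map (algebraMap R p.ResidueField) x)) =
          Ideal.Quotient.mk _ (algebraMap _ _ x) := by
  let P := MvPolynomial (Fin n) R
  let κ := p.ResidueField
  let m : P →+* MvPolynomial (Fin n) κ := MvPolynomial.map (algebraMap R κ)
  let χ : MvPolynomial (Fin n) κ →+* q.ResidueField :=
    MvPolynomial.eval₂Hom (Ideal.ResidueField.map p q (algebraMap R P) hp.symm) fun i => algebraMap P _ (X i)
  have hχ : χ.comp m = algebraMap P q.ResidueField := by
    refine MvPolynomial.ringHom_ext (fun a => ?_) fun i => by simp [χ, m]; rfl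
    simp only [RingHom.comp_apply, χ, m, MvPolynomial.map_C, MvPolynomial.eval₂Hom_C]
    exact Ideal.ResidueField.map_algebraMap ..
  let Q := RingHom.ker χ
  haveI : Q.IsPrime := RingHom.ker_isPrime χ
  have hQ : Q.comap m = q := by
    ext x
    rw [Ideal.mem_comap, RingHom.mem_ker, show χ (m x) = algebraMap P q.ResidueField x from RingHom.congr_fun hχ x,
      Ideal.algebraMap_residueField_eq_zero]
  refine ⟨Q, inferInstance, hQ, ?_⟩
  let S := Localization.AtPrime q
  let L := Localization.AtPrime Q
  let I : Ideal S := p.map (algebraMap R S)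
  let mk := (Ideal.Quotient.mk I).comp (algebraMap P S)
  let γ₀ : S →+* L := Localization.localRingHom q Q m hQ.symm
  have hγ : ∀ x ∈ I, γ₀ x = 0 := fun x hx => by
    refine RingHom.mem_ker.1 (Ideal.map_le_iff_le_comap.2 (fun a ha => ?_) hx)
    rw [Ideal.mem_comap, RingHom.mem_ker, IsScalarTower.algebraMap_apply R P S, Localization.localRingHom_to_map,
      MvPolynomial.algebraMap_eq]
    show algebraMap _ L (m (C a)) = 0
    rw [show m (C a) = C (algebraMap R κ a) from MvPolynomial.map_C _ _, show algebraMap R κ a = 0 from (Ideal.algebraMap_residueField_eq_zero).2 ha, map_zero, map_zero]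
  let γ : S ⧸ I →+* L := Ideal.Quotient.lift I γ₀ hγ
  let g : R →+* S ⧸ I := (Ideal.Quotient.mk I).comp (algebraMap R S)
  let j : κ →+* S ⧸ I := Ideal.ResidueField.lift p (S := S ⧸ I) g
    (fun a ha => RingHom.mem_ker.2 (Ideal.Quotient.eq_zero_iff_mem.2 (Ideal.mem_map_of_mem _ ha)))
    (fun a ha => by
      show IsUnit (Ideal.Quotient.mk I (algebraMap R S a))
      refine IsUnit.map _ ?_
      rw [IsScalarTower.algebraMap_apply R P S]
      exact IsLocalization.map_units S ⟨_, show algebraMap R P a ∈ q.primeCompl from
        fun h => ha (hp ▸ h)⟩)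
  let ν : MvPolynomial (Fin n) κ →+* S ⧸ I := MvPolynomial.eval₂Hom j fun i => mk (X i)
  have hν : ν.comp m = mk := by
    refine MvPolynomial.ringHom_ext (fun a => ?_) fun i => by simp [ν, m]; rfl
    simp only [RingHom.comp_apply, ν, m, MvPolynomial.map_C, MvPolynomial.eval₂Hom_C]
    rw [Ideal.ResidueField.lift_algebraMap]
    rfl
  have hγν : γ.comp ν = algebraMap _ L := by
    refine MvPolynomial.ringHom_ext' (Ideal.ResidueField.ringHom_ext (RingHom.ext fun a => ?_)) fun i => ?_
    · show γ (ν (C (algebraMap R κ a))) = algebraMap (MvPolynomial (Fin n) κ) L (C (algebraMap R κ a))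
      rw [show (C (algebraMap R κ a) : MvPolynomial (Fin n) κ) = m (C a) from (MvPolynomial.map_C _ _).symm, show ν (m (C a)) = mk (C a) from RingHom.congr_fun hν _]
      exact Localization.localRingHom_to_map q Q m hQ.symm _
    · show γ (ν (X i)) = _
      rw [show (X i : MvPolynomial (Fin n) κ) = m (X i) from (MvPolynomial.map_X _ _).symm, show ν (m (X i)) = mk (X i) from RingHom.congr_fun hν _]
      exact Localization.localRingHom_to_map q Q m hQ.symm _
  have hγl : IsLocalHom γ := ⟨fun z hz => by
    obtain ⟨s, rfl⟩ := Ideal.Quotient.mk_surjective z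
    exact ((isUnit_map_iff γ₀ s).1 hz).map _⟩
  let β : L →+* S ⧸ I := IsLocalization.lift (S := L) (P := S ⧸ I) (M := Q.primeCompl) (g := ν) fun g => by
    refine (isUnit_map_iff γ (ν g)).1 ?_
    rw [show γ (ν g) = algebraMap _ L g.1 from RingHom.congr_fun hγν _]
    exact IsLocalization.map_units L g
  refine ⟨RingEquiv.ofRingHom β γ ?_ ?_, fun x => ?_⟩
  · refine Ideal.Quotient.ringHom_ext (IsLocalization.ringHom_ext q.primeCompl (RingHom.ext fun x => ?_))
    show β (γ₀ (algebraMap P S x)) = mk x
    rw [Localization.localRingHom_to_map, IsLocalization.lift_eq]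
    exact RingHom.congr_fun hν x
  · refine IsLocalization.ringHom_ext Q.primeCompl (RingHom.ext fun x => ?_)
    show γ (β (algebraMap _ L x)) = algebraMap _ L x
    rw [IsLocalization.lift_eq]
    exact RingHom.congr_fun hγν x
  · show β _ = _
    rw [IsLocalization.lift_eq]
    exact RingHom.congr_fun hν x

variable (F : Fin c → MvPolynomial (Fin n) R)

theorem isWeaklyRegular_closedFibre (h : Synt.IsRelGCI R n c F) (q : Ideal (MvPolynomial (Fin n) R)) [q.IsPrime]
    (hq : Ideal.span (Set.range F) ≤ q) (p : Ideal R) [p.IsPrime]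
    (hp : q.comap (algebraMap R (MvPolynomial (Fin n) R)) = p) :
    IsWeaklyRegular (Localization.AtPrime q ⧸ p.map (algebraMap R (Localization.AtPrime q)))
      ((List.ofFn F).map (algebraMap (MvPolynomial (Fin n) R) (Localization.AtPrime q))) := by
  obtain ⟨Q, _, hQ, e, he⟩ := exists_closedFibre_equiv q p hp
  let κ := p.ResidueField
  let G := mapF κ F
  have hG : Ideal.span (Set.range G) ≤ Q := by
    rw [Ideal.span_le]
    rintro _ ⟨i, rfl⟩
    show F i ∈ Q.comap (MvPolynomial.map (algebraMap R κ))
    rw [hQ]
    exact hq (Ideal.subset_span ⟨i, rfl⟩)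
  let T := MvPolynomial (Fin n) κ ⧸ Ideal.span (Set.range G)
  let φ : MvPolynomial (Fin n) κ →ₐ[κ] T := Ideal.Quotient.mkₐ κ _
  haveI : Nontrivial T :=
    Ideal.Quotient.nontrivial_iff.2 fun h' => (‹Q.IsPrime›).ne_top (top_le_iff.1 (h' ▸ hG))
  obtain ⟨hcn, hd⟩ := (dimOK_iff.1 (dimOK_of_field h κ)) ‹_›
  haveI : (Q.map (Ideal.Quotient.mk (Ideal.span (Set.range G)))).IsPrime :=
    Ideal.map_isPrime_of_surjective Ideal.Quotient.mk_surjective (by rwa [Ideal.mk_ker])
  have hcm : (Q.map (Ideal.Quotient.mk (Ideal.span (Set.range G)))).comap φ.toRingHom = Q := by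
    show Ideal.comap (Ideal.Quotient.mk _) _ = Q
    rw [Ideal.comap_map_of_surjective _ Ideal.Quotient.mk_surjective, sup_eq_left, ← RingHom.ker_eq_comap_bot, Ideal.mk_ker]
    exact hG
  have key := (local_data hcn φ G Ideal.Quotient.mk_surjective Ideal.mk_ker hd.le
    (Q.map (Ideal.Quotient.mk (Ideal.span (Set.range G))))).2.1
  rw! [hcm] at key
  rw [← isWeaklyRegular_map_algebraMap_iff (Localization.AtPrime q ⧸ p.map (algebraMap R (Localization.AtPrime q)))
    (Localization.AtPrime q ⧸ p.map (algebraMap R (Localization.AtPrime q)))]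
  refine (e.toAddEquiv.isWeaklyRegular_congr ?_).1 key.toIsWeaklyRegular
  rw [List.map_map, List.map_ofFn, List.map_ofFn, List.forall₂_iff_get]
  refine ⟨by simp, fun i h₁ h₂ z => ?_⟩
  simp only [List.get_ofFn]
  show e (_ * z) = _ * e z
  rw [map_mul]
  congr 1
  exact he _

theorem regular_flat_of_closedFibre {R Rp S : Type u} [CommRing R] [CommRing Rp] [CommRing S] [IsLocalRing Rp]
    [IsLocalRing S] [IsNoetherianRing Rp] [IsNoetherianRing S] [Algebra R Rp] [Algebra Rp S] [Algebra R S]
    [IsScalarTower R Rp S] [IsLocalHom (algebraMap Rp S)] [Module.Flat Rp S] [Module.Flat R Rp]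
    (J : Ideal S) (hJ : (maximalIdeal Rp).map (algebraMap Rp S) = J) (rs : List S) (h : IsWeaklyRegular (S ⧸ J) rs) :
    IsWeaklyRegular S rs ∧ ∀ i, Module.Flat R (S ⧸ Ideal.ofList (rs.take i)) := by
  have hfib : ∀ i, IsWeaklyRegular ((S ⧸ (maximalIdeal Rp).map (algebraMap Rp S)) ⊗[S] S) (rs.take i) := fun i =>
    (LinearEquiv.isWeaklyRegular_congr ((TensorProduct.rid S _).trans (Submodule.quotEquivOfEq _ _ hJ)) _).2
      (isWeaklyRegular_take h i)
  refine ⟨?_, fun i => ?_⟩
  · have := (DeformLib.weaklyRegular_and_flat_of_fibre (R := Rp) (rs.take rs.length) S (hfib _)).1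
    rwa [List.take_length] at this
  · haveI := (DeformLib.weaklyRegular_and_flat_of_fibre (R := Rp) (rs.take i) S (hfib i)).2
    haveI : Module.Flat Rp (S ⧸ Ideal.ofList (rs.take i)) := Module.Flat.of_linearEquiv
      ((Submodule.quotEquivOfEq _ _ (show Ideal.ofList (rs.take i) = Ideal.ofList (rs.take i) • (⊤ : Submodule S S) by
        rw [smul_eq_mul, Ideal.mul_top])).restrictScalars Rp)
    exact Module.Flat.trans R Rp (S ⧸ Ideal.ofList (rs.take i))

theorem regular_flat_at {R P : Type u} [CommRing R] [CommRing P] [Algebra R P] [IsNoetherianRing R]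
    [IsNoetherianRing P] [Module.Flat R P] (q : Ideal P) [q.IsPrime] (p : Ideal R) [p.IsPrime]
    (hp : p = q.comap (algebraMap R P)) (rs : List (Localization.AtPrime q))
    (h : IsWeaklyRegular (Localization.AtPrime q ⧸ p.map (algebraMap R (Localization.AtPrime q))) rs) :
    IsWeaklyRegular (Localization.AtPrime q) rs ∧
      ∀ i, Module.Flat R (Localization.AtPrime q ⧸ Ideal.ofList (rs.take i)) := by
  letI : Algebra (Localization.AtPrime p) (Localization.AtPrime q) :=
    (Localization.localRingHom p q (algebraMap R P) hp).toAlgebra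
  haveI : IsScalarTower R (Localization.AtPrime p) (Localization.AtPrime q) := IsScalarTower.of_algebraMap_eq fun a =>
    (IsScalarTower.algebraMap_apply R P (Localization.AtPrime q) a).trans
      (Localization.localRingHom_to_map p q (algebraMap R P) hp a).symm
  haveI : IsLocalHom (algebraMap (Localization.AtPrime p) (Localization.AtPrime q)) :=
    Localization.isLocalHom_localRingHom p q (algebraMap R P) hp
  haveI : Module.Flat R (Localization.AtPrime q) := Module.Flat.trans R P (Localization.AtPrime q)
  haveI : Module.Flat (Localization.AtPrime p) (Localization.AtPrime q) :=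
    (Module.flat_iff_of_isLocalization (Localization.AtPrime p) p.primeCompl (Localization.AtPrime q)).2 inferInstance
  haveI : Module.Flat R (Localization.AtPrime p) := IsLocalization.flat _ p.primeCompl
  refine regular_flat_of_closedFibre (Rp := Localization.AtPrime p) _ ?_ rs h
  rw [← Localization.AtPrime.map_eq_maximalIdeal, Ideal.map_map, ← IsScalarTower.algebraMap_eq]

/-- Regularity and flatness for a noetherian base. -/
theorem regular_flat_of_noetherian [IsNoetherianRing R] (h : Synt.IsRelGCI R n c F)
    (q : Ideal (MvPolynomial (Fin n) R)) [q.IsPrime] (hq : Ideal.span (Set.range F) ≤ q) :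
    IsWeaklyRegular (Localization.AtPrime q)
        ((List.ofFn F).map (algebraMap (MvPolynomial (Fin n) R) (Localization.AtPrime q))) ∧
      ∀ i, Module.Flat R (Localization.AtPrime q ⧸ Ideal.ofList
        (((List.ofFn F).map (algebraMap (MvPolynomial (Fin n) R) (Localization.AtPrime q))).take i)) :=
  regular_flat_at q _ rfl _ (isWeaklyRegular_closedFibre F h q hq _ rfl)

end Noetherian

end Groth.Agent.CILib
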