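import Groth.Agent.CILib.NhdLocal

/-!
Covers by relative global complete intersections, and lifting them along a quotient of the base.
-/

set_option autoImplicit false
set_option backward.isDefEq.respectTransparency false

universe u

open TensorProduct

namespace Groth.Agent.CILib

/-- A syntomic algebra is covered by relative global complete intersections. -/
theorem exists_away_relGCI {R S : Type u} [CommRing R] [CommRing S] [Algebra R S] (h : Synt.IsSyntomic R S)
    (q : PrimeSpectrum S) :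
    ∃ g ∉ q.asIdeal, ∃ (n c : ℕ) (F : Fin c → MvPolynomial (Fin n) R), Synt.IsRelGCI R n c F ∧
      Nonempty (Localization.Away g ≃ₐ[R] Synt.RelGCIRing R n c F) := by
  let p : PrimeSpectrum R := PrimeSpectrum.comap (algebraMap R S) q
  let Q := PrimeSpectrum.preimageEquivFiber R S p ⟨q, rfl⟩
  have hQ : Q.asIdeal.comap (Algebra.TensorProduct.includeRight : S →ₐ[R] p.asIdeal.Fiber S).toRingHom = q.asIdeal :=
    congrArg (fun z => z.1.asIdeal) ((PrimeSpectrum.preimageEquivFiber R S p).symm_apply_apply ⟨q, rfl⟩)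
  have h1 : (1 : S) ∉ q.asIdeal := fun h => q.2.ne_top ((Ideal.eq_top_iff_one _).2 h)
  obtain ⟨hfp, hfl, hci⟩ := conditions_of_syntomic p.asIdeal q.asIdeal Q.asIdeal h1 hQ (isSyntomic_away h 1 _)
  exact exists_relGCI_of_conditions p.asIdeal q.asIdeal Q.asIdeal h1 hQ hci

theorem exists_finset_relGCI {R S : Type u} [CommRing R] [CommRing S] [Algebra R S] (h : Synt.IsSyntomic R S) :
    ∃ s : Finset S, Ideal.span (s : Set S) = ⊤ ∧ ∀ g ∈ s, ∃ (n c : ℕ) (F : Fin c → MvPolynomial (Fin n) R),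
      Synt.IsRelGCI R n c F ∧ Nonempty (Localization.Away g ≃ₐ[R] Synt.RelGCIRing R n c F) := by
  let P : Set S := {g | ∃ (n c : ℕ) (F : Fin c → MvPolynomial (Fin n) R), Synt.IsRelGCI R n c F ∧
      Nonempty (Localization.Away g ≃ₐ[R] Synt.RelGCIRing R n c F)}
  have hP : Ideal.span P = ⊤ := by
    by_contra hne
    obtain ⟨m, hm, hle⟩ := Ideal.exists_le_maximal _ hne
    obtain ⟨g, hg, hgP⟩ := exists_away_relGCI h ⟨m, hm.isPrime⟩
    exact hg (hle (Ideal.subset_span hgP))
  obtain ⟨s, hs, hs1⟩ := Submodule.mem_span_finite_of_mem_span ((Ideal.eq_top_iff_one _).1 hP)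
  exact ⟨s, (Ideal.eq_top_iff_one _).2 hs1, fun g hg => hs hg⟩

/-- The unit presentation of the zero ring. -/
theorem exists_relGCI_subsingleton (R : Type u) [CommRing R] :
    ∃ (n c : ℕ) (F : Fin c → MvPolynomial (Fin n) R), Synt.IsRelGCI R n c F ∧
      Subsingleton (Synt.RelGCIRing R n c F) := by
  have hs : Subsingleton (Synt.RelGCIRing R 1 1 fun _ => 1) :=
    Ideal.Quotient.subsingleton_iff.2 (Ideal.eq_top_of_isUnit_mem _ (Ideal.subset_span ⟨0, rfl⟩) isUnit_one)
  refine ⟨1, 1, fun _ => 1, fun p hp => ?_, hs⟩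
  haveI := hs
  haveI : Subsingleton (p.asIdeal.Fiber (Synt.RelGCIRing R 1 1 fun _ => 1)) :=
    (Algebra.TensorProduct.includeRight : Synt.RelGCIRing R 1 1 (fun _ => 1) →ₐ[R]
      p.asIdeal.Fiber (Synt.RelGCIRing R 1 1 fun _ => 1)).toRingHom.codomain_trivial
  exact (false_of_nontrivial_of_subsingleton (p.asIdeal.Fiber (Synt.RelGCIRing R 1 1 fun _ => 1))).elim

theorem exists_quotient_map_equiv {R A B : Type u} [CommRing R] [CommRing A] [CommRing B] [Algebra R A] [Algebra R B]
    (I : Ideal R) (e : A ≃ₐ[R] B) :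
    Nonempty ((A ⧸ I.map (algebraMap R A)) ≃ₐ[R] (B ⧸ I.map (algebraMap R B))) :=
  ⟨Ideal.quotientEquivAlg _ _ e (by
    rw [Ideal.map_map]
    congr 1
    exact e.toAlgHom.comp_algebraMap.symm)⟩

theorem exists_quotient_tensor_equiv {R S T : Type u} [CommRing R] [CommRing S] [CommRing T] [Algebra R S]
    (I : Ideal R) [Algebra R T] [Algebra (R ⧸ I) T] [IsScalarTower R (R ⧸ I) T] (e : (R ⧸ I) ⊗[R] S ≃ₐ[R ⧸ I] T) :
    Nonempty ((S ⧸ I.map (algebraMap R S)) ≃ₐ[R] T) :=
  ⟨(((Algebra.TensorProduct.quotIdealMapEquivTensorQuot S I).restrictScalars R).trans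
      (Algebra.TensorProduct.comm R S (R ⧸ I))).trans (e.restrictScalars R)⟩

/-- Inverting an element which is `1` modulo `I` does nothing modulo `I`. -/
theorem exists_quotient_away_equiv {R S : Type u} [CommRing R] [CommRing S] [Algebra R S] (I : Ideal R) (a : S)
    (L : Type u) [CommRing L] [Algebra R L] [Algebra S L] [IsScalarTower R S L] [IsLocalization.Away a L]
    (ha : a - 1 ∈ I.map (algebraMap R S)) :
    Nonempty ((S ⧸ I.map (algebraMap R S)) ≃ₐ[R] (L ⧸ I.map (algebraMap R L))) := by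
  let mkI : S →ₐ[R] S ⧸ I.map (algebraMap R S) := Ideal.Quotient.mkₐ R _
  have hu : mkI a = 1 := by
    show Ideal.Quotient.mk _ _ = Ideal.Quotient.mk _ 1
    exact Ideal.Quotient.eq.2 ha
  have hpow : ∀ y : Submonoid.powers a, IsUnit (mkI y) := by
    rintro ⟨_, m, rfl⟩
    rw [map_pow, hu, one_pow]
    exact isUnit_one
  let α : L →ₐ[R] S ⧸ I.map (algebraMap R S) := IsLocalization.liftAlgHom (M := Submonoid.powers a) (f := mkI) hpow
  have hα : ∀ y, α (algebraMap S L y) = mkI y := fun y => IsLocalization.lift_eq _ y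
  have hIL : (I.map (algebraMap R S)).map (algebraMap S L) = I.map (algebraMap R L) := by
    rw [Ideal.map_map, ← IsScalarTower.algebraMap_eq]
  let β : S ⧸ I.map (algebraMap R S) →ₐ[R] L ⧸ I.map (algebraMap R L) :=
    Ideal.quotientMapₐ _ (IsScalarTower.toAlgHom R S L) (Ideal.map_le_iff_le_comap.1 hIL.le)
  let γ : L ⧸ I.map (algebraMap R L) →ₐ[R] S ⧸ I.map (algebraMap R S) :=
    Ideal.Quotient.liftₐ _ α fun z hz => by
      have : I.map (algebraMap R L) ≤ RingHom.ker α.toRingHom := Ideal.map_le_iff_le_comap.2 fun r hr => by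
        show α (algebraMap R L r) = 0
        rw [AlgHom.commutes, IsScalarTower.algebraMap_apply R S]
        exact Ideal.Quotient.eq_zero_iff_mem.2 (Ideal.mem_map_of_mem _ hr)
      exact this hz
  exact ⟨AlgEquiv.ofAlgHom β γ
    (Ideal.Quotient.algHom_ext R (IsLocalization.algHom_ext (Submonoid.powers a)
      (AlgHom.ext fun y => by
        show β (α (algebraMap S L y)) = Ideal.Quotient.mk _ (algebraMap S L y)
        rw [hα]
        rfl)))
    (Ideal.Quotient.algHom_ext R (AlgHom.ext fun y => hα y))⟩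

/-- A relative global complete intersection over a quotient ring lifts. -/
theorem exists_relGCI_lift {R : Type u} [CommRing R] (I : Ideal R) {n c : ℕ} (G : Fin c → MvPolynomial (Fin n) (R ⧸ I))
    (hG : Synt.IsRelGCI (R ⧸ I) n c G) :
    ∃ (n' c' : ℕ) (F : Fin c' → MvPolynomial (Fin n') R), Synt.IsRelGCI R n' c' F ∧
      Nonempty (Synt.RelGCIRing (R ⧸ I) n c G ≃ₐ[R]
        (Synt.RelGCIRing R n' c' F ⧸ I.map (algebraMap R (Synt.RelGCIRing R n' c' F)))) := by
  classical
  rcases subsingleton_or_nontrivial (Synt.RelGCIRing (R ⧸ I) n c G) with hs | hnt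
  · obtain ⟨n', c', F, hF, hs'⟩ := exists_relGCI_subsingleton R
    refine ⟨n', c', F, hF, ⟨AlgEquiv.ofAlgHom
      { toFun := fun _ => 0, map_one' := Subsingleton.elim _ _, map_mul' := fun _ _ => Subsingleton.elim _ _,
        map_zero' := rfl, map_add' := fun _ _ => Subsingleton.elim _ _, commutes' := fun _ => Subsingleton.elim _ _ }
      { toFun := fun _ => 0, map_one' := Subsingleton.elim _ _, map_mul' := fun _ _ => Subsingleton.elim _ _,
        map_zero' := rfl, map_add' := fun _ _ => Subsingleton.elim _ _, commutes' := fun _ => Subsingleton.elim _ _ }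
      (AlgHom.ext fun _ => Subsingleton.elim _ _) (AlgHom.ext fun _ => Subsingleton.elim _ _)⟩⟩
  choose F hF using fun i => MvPolynomial.map_surjective (Ideal.Quotient.mk I) Ideal.Quotient.mk_surjective (G i)
  have hmap : mapF (R ⧸ I) F = G := funext hF
  let S := Synt.RelGCIRing R n c F
  have hcn : c ≤ n := by
    obtain ⟨m, hm⟩ := Ideal.exists_maximal (Synt.RelGCIRing (R ⧸ I) n c G)
    let p : PrimeSpectrum (R ⧸ I) := PrimeSpectrum.comap (algebraMap _ _) ⟨m, hm.isPrime⟩
    exact (hG p (PrimeSpectrum.nonempty_iff_nontrivial.1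
      ⟨PrimeSpectrum.preimageEquivFiber (R ⧸ I) _ p ⟨⟨m, hm.isPrime⟩, rfl⟩⟩)).1
  obtain ⟨J, hJ, hJ'⟩ := exists_ideal_smallLocus (R := R) (S := S) (n - c)
  have hV : ∀ q : PrimeSpectrum S, I.map (algebraMap R S) ≤ q.asIdeal → q ∈ smallLocus R (n - c) := by
    intro q hq
    let p : PrimeSpectrum R := PrimeSpectrum.comap (algebraMap R S) q
    refine mem_smallLocus_of_ringKrullDim_le p ?_ q rfl
    let K := p.asIdeal.ResidueField
    let φ : R ⧸ I →+* K := Ideal.Quotient.lift I (algebraMap R K) fun a ha => by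
      rw [Ideal.algebraMap_residueField_eq_zero]
      exact hq (Ideal.mem_map_of_mem _ ha)
    letI : Algebra (R ⧸ I) K := φ.toAlgebra
    haveI : IsScalarTower R (R ⧸ I) K := .of_algebraMap_eq fun a => rfl
    show ringKrullDim (K ⊗[R] _) ≤ _
    rw [ringKrullDim_baseChange_eq, ← mapF_mapF (R ⧸ I) K, hmap]
    rcases dimOK_of_field hG K with h | ⟨-, h⟩ <;> rw [h]
    exact bot_le
  have htop : J ⊔ I.map (algebraMap R S) = ⊤ := by
    by_contra hne
    obtain ⟨m, hm, hle⟩ := Ideal.exists_le_maximal _ hne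
    exact hJ ⟨m, hm.isPrime⟩ (hV ⟨m, hm.isPrime⟩ (le_sup_right.trans hle)) (le_sup_left.trans hle)
  obtain ⟨j, hj, i, hi, hji⟩ := Submodule.mem_sup.1 ((Ideal.eq_top_iff_one _).1 htop)
  obtain ⟨h, rfl⟩ := Ideal.Quotient.mk_surjective j
  obtain ⟨e⟩ := exists_away_equiv F h
  refine ⟨n + 1, c + 1, awayPres F h, isRelGCI_awayPres F h hcn (hJ' _ hj), ?_⟩
  obtain ⟨eL⟩ := exists_quotient_away_equiv (R := R) I (Ideal.Quotient.mk (Ideal.span (Set.range F)) h)
    (Localization.Away (Ideal.Quotient.mk (Ideal.span (Set.range F)) h)) (by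
      rw [← hji, sub_add_cancel_left]
      exact neg_mem hi)
  obtain ⟨e₂⟩ := exists_quotient_map_equiv I e
  obtain ⟨e₁⟩ := exists_quotient_tensor_equiv (S := Synt.RelGCIRing R n c F) I (hmap ▸ baseChangeEquiv (R ⧸ I) F)
  exact ⟨(e₁.symm.trans eL).trans e₂⟩

end Groth.Agent.CILib
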