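import Groth.Agent.CILib.KoszulDescent
import Groth.Agent.CILib.RelGCIQuot
import Groth.Agent.CILib.RelGCIFlat
import Groth.Agent.CILib.Scheme
import Mathlib.RingTheory.Spectrum.Prime.Chevalley

/-!
Descent of the lci property along syntomic surjections on the source.
-/

set_option autoImplicit false
set_option linter.style.haveILetI false
set_option backward.isDefEq.respectTransparency false

universe u

open MvPolynomial RingTheory.Sequence

noncomputable section

namespace Groth.Agent.CILib

/-- The equations of a relative global complete intersection stay irredundant modulo the base prime. -/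
theorem not_mem_others_of_isRelGCI {P : Type u} [CommRing P] {m c : ℕ} (F : Fin c → MvPolynomial (Fin m) P)
    (h : Synt.IsRelGCI P m c F) (q : Ideal (MvPolynomial (Fin m) P)) [q.IsPrime]
    (hq : Ideal.span (Set.range F) ≤ q) (k : Fin c) (d : MvPolynomial (Fin m) P) (hd : d ∉ q)
    (z : MvPolynomial (Fin m) P)
    (hz : z ∈ (q.comap (algebraMap P (MvPolynomial (Fin m) P))).map (algebraMap P (MvPolynomial (Fin m) P))) :
    d * F k - z ∉ Ideal.span (F '' {k}ᶜ) := by
  classical
  intro hmem
  let p := q.comap (algebraMap P (MvPolynomial (Fin m) P))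
  let L := Localization.AtPrime q
  let N := p.map (algebraMap P L)
  have hreg := isWeaklyRegular_closedFibre F h q hq p rfl
  let μ : MvPolynomial (Fin m) P →+* L ⧸ N := (Ideal.Quotient.mk N).comp (algebraMap (MvPolynomial (Fin m) P) L)
  let l : List (L ⧸ N) := (List.ofFn F).map μ
  have hl : LCI.IsKoszulRegularSeq (L ⧸ N) l := by
    refine isKoszulRegularSeq_of_isWeaklyRegular _ ?_
    have h2 := (isWeaklyRegular_map_algebraMap_iff (L ⧸ N) (L ⧸ N)
      ((List.ofFn F).map (algebraMap (MvPolynomial (Fin m) P) L))).2 hreg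
    rw [List.map_map] at h2
    exact h2
  let others : List (L ⧸ N) := ((Finset.univ.erase k).toList.map F).map μ
  have hμz : μ z = 0 := by
    refine Ideal.Quotient.eq_zero_iff_mem.2 ?_
    have := Ideal.mem_map_of_mem (algebraMap (MvPolynomial (Fin m) P) L) hz
    rw [Ideal.map_map, ← IsScalarTower.algebraMap_eq] at this
    exact this
  have hothers : Ideal.span (μ '' (F '' {k}ᶜ)) ≤ Ideal.ofList others := by
    refine Ideal.span_le.2 ?_
    rintro _ ⟨_, ⟨i, hi, rfl⟩, rfl⟩
    exact Ideal.subset_span (List.mem_map_of_mem (List.mem_map_of_mem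
      (Finset.mem_toList.2 (Finset.mem_erase.2 ⟨hi, Finset.mem_univ i⟩))))
  have hk : μ (F k) ∈ Ideal.ofList others := by
    refine hothers ?_
    rw [← Ideal.map_span]
    have h1 := Ideal.mem_map_of_mem μ hmem
    rw [map_sub, hμz, sub_zero, map_mul] at h1
    have hu : IsUnit (μ d) := (IsLocalization.map_units L (⟨d, hd⟩ : q.primeCompl)).map (Ideal.Quotient.mk N)
    exact (Ideal.unit_mul_mem_iff_mem _ hu).1 h1
  have hspan : Ideal.ofList others = Ideal.ofList l := by
    refine le_antisymm (Ideal.span_le.2 fun x hx => ?_) (Ideal.span_le.2 fun x hx => ?_)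
    · obtain ⟨y, hy, rfl⟩ := List.mem_map.1 (show x ∈ others from hx)
      obtain ⟨i, -, rfl⟩ := List.mem_map.1 hy
      exact Ideal.subset_span (List.mem_map_of_mem (List.mem_ofFn.2 ⟨i, rfl⟩))
    · obtain ⟨y, hy, rfl⟩ := List.mem_map.1 (show x ∈ l from hx)
      obtain ⟨i, rfl⟩ := List.mem_ofFn.1 hy
      by_cases hi : i = k
      · subst hi; exact hk
      · exact hothers (Ideal.subset_span ⟨_, ⟨i, hi, rfl⟩, rfl⟩)
  have hne : Ideal.ofList l ≠ ⊤ := by
    intro htop
    have hle : Ideal.ofList l ≤ (IsLocalRing.maximalIdeal L).map (Ideal.Quotient.mk N) := by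
      refine Ideal.span_le.2 fun x hx => ?_
      obtain ⟨y, hy, rfl⟩ := List.mem_map.1 (show x ∈ l from hx)
      obtain ⟨i, rfl⟩ := List.mem_ofFn.1 hy
      exact Ideal.mem_map_of_mem _ ((IsLocalization.AtPrime.to_map_mem_maximal_iff L q _).2
        (hq (Ideal.subset_span ⟨i, rfl⟩)))
    have hN : N ≤ IsLocalRing.maximalIdeal L := by
      refine Ideal.map_le_iff_le_comap.2 fun x hx => ?_
      rw [Ideal.mem_comap, IsScalarTower.algebraMap_apply P (MvPolynomial (Fin m) P) L]
      exact (IsLocalization.AtPrime.to_map_mem_maximal_iff L q _).2 hx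
    rw [htop, top_le_iff] at hle
    have := congrArg (Ideal.comap (Ideal.Quotient.mk N)) hle
    rw [Ideal.comap_map_of_surjective _ Ideal.Quotient.mk_surjective, ← RingHom.ker_eq_comap_bot, Ideal.mk_ker,
      sup_eq_left.2 hN, Ideal.comap_top] at this
    exact (IsLocalRing.maximalIdeal.isMaximal L).ne_top this
  have := length_le_of_ofList_eq hl hspan hne
  have hpos := k.isLt
  simp [l, others, Finset.card_erase_of_mem] at this
  omega

variable {A : Type u} [CommRing A]

theorem isKoszulRegularIdeal_map_base {Q P'' Cg : Type u} [CommRing Q] [CommRing P''] [CommRing Cg] [Algebra Q P'']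
    (hπ : Function.Surjective (algebraMap Q P'')) (hker : LCI.IsKoszulRegularIdeal (RingHom.ker (algebraMap Q P'')))
    (χ : P'' →+* Cg) (hK : LCI.IsKoszulRegularIdeal (RingHom.ker (χ.comp (algebraMap Q P'')))) (K₀ : Ideal Q)
    (hχ : RingHom.ker χ = K₀.map (algebraMap Q P'')) {ι : Type} [Fintype ι] (F : ι → Q)
    (hF : RingHom.ker (algebraMap Q P'') = Ideal.span (Set.range F))
    (hsep : ∀ (p' : Ideal Q) [p'.IsPrime], Ideal.span (Set.range F) ≤ p' → K₀ ≤ p' →
      ∀ k, ∀ d ∉ p', ∀ z ∈ K₀, d * F k - z ∉ Ideal.span (F '' {k}ᶜ)) :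
    LCI.IsKoszulRegularIdeal (K₀.map (algebraMap Q P'')) := by
  have hc : RingHom.ker (χ.comp (algebraMap Q P'')) = (RingHom.ker χ).comap (algebraMap Q P'') := by
    ext x
    rfl
  have hmap : (RingHom.ker (χ.comp (algebraMap Q P''))).map (algebraMap Q P'') = K₀.map (algebraMap Q P'') := by
    rw [hc, Ideal.map_comap_of_surjective _ hπ, hχ]
  have h₀ : K₀ ≤ RingHom.ker (χ.comp (algebraMap Q P'')) := by
    rw [hc, ← Ideal.map_le_iff_le_comap, hχ]
  have hle : RingHom.ker (algebraMap Q P'') ≤ RingHom.ker (χ.comp (algebraMap Q P'')) := fun x hx => by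
    rw [RingHom.mem_ker, RingHom.comp_apply, RingHom.mem_ker.1 hx, map_zero]
  rw [← hmap]
  refine isKoszulRegularIdeal_map_gen hπ hker hK hle K₀ h₀ hmap.le fun p' _ hp' => ?_
  have h1 : Ideal.span (Set.range F) ≤ p' := by
    rw [← hF]
    exact hle.trans hp'
  refine ⟨ι, inferInstance, F, fun i => ?_, fun k d hd z hz => hsep p' h1 (h₀.trans hp') k d hd z ((show p' * K₀ ≤ K₀ from Ideal.mul_le_right) hz),
    1, (Ideal.ne_top_iff_one p').1 (Ideal.IsPrime.ne_top ‹_›), fun x hx => ?_⟩
  · rw [hF]; exact Ideal.subset_span ⟨i, rfl⟩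
  · rw [one_mul, ← hF]; exact hx

theorem exists_away_of_flat {P P'' : Type u} [CommRing P] [CommRing P''] [Algebra P P''] [Module.Flat P P'']
    [Algebra.FinitePresentation P P''] (J : Ideal P) (hJ : LCI.IsKoszulRegularIdeal (J.map (algebraMap P P'')))
    (p : PrimeSpectrum P) (hp : p ∈ Set.range (PrimeSpectrum.comap (algebraMap P P''))) :
    ∃ u, u ∉ p.asIdeal ∧ LCI.IsKoszulRegularIdeal (J.map (algebraMap P (Localization.Away u))) := by
  obtain ⟨_, ⟨u, rfl⟩, hup, hu⟩ := PrimeSpectrum.isTopologicalBasis_basic_opens.exists_subset_of_mem_open hp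
    (PrimeSpectrum.isOpenMap_comap_of_hasGoingDown_of_finitePresentation (R := P) (S := P'')).isOpen_range
  refine ⟨u, hup, ?_⟩
  let Pu := Localization.Away u
  let P''u := Localization.Away (algebraMap P P'' u)
  letI : Algebra Pu P''u := (IsLocalization.Away.map Pu P''u (algebraMap P P'') u).toAlgebra
  haveI : IsScalarTower P Pu P''u := .of_algebraMap_eq fun x => by
    show algebraMap P P''u x = IsLocalization.Away.map Pu P''u (algebraMap P P'') u (algebraMap P Pu x)
    rw [IsLocalization.Away.map, IsLocalization.map_eq, ← IsScalarTower.algebraMap_apply]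
  haveI : Module.Flat P P''u := Module.Flat.trans P P'' P''u
  haveI : Module.Flat Pu P''u := (Module.flat_iff_of_isLocalization Pu (Submonoid.powers u) P''u).2 inferInstance
  haveI : Module.FaithfullyFlat Pu P''u := by
    refine Module.FaithfullyFlat.of_comap_surjective fun r => ?_
    have hru : u ∉ r.asIdeal.comap (algebraMap P Pu) := fun h =>
      r.isPrime.ne_top (Ideal.eq_top_of_isUnit_mem _ h (IsLocalization.Away.algebraMap_isUnit u))
    obtain ⟨s, hs⟩ := hu (show PrimeSpectrum.comap (algebraMap P Pu) r ∈ PrimeSpectrum.basicOpen u from hru)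
    have hsu : algebraMap P P'' u ∉ s.asIdeal := fun h =>
      hru ((SetLike.ext_iff.1 (congrArg PrimeSpectrum.asIdeal hs) u).1 h)
    have hd : Disjoint (Submonoid.powers (algebraMap P P'' u) : Set P'') s.asIdeal :=
      Set.disjoint_left.2 fun x ⟨i, hi⟩ hx =>
        hsu (s.isPrime.mem_of_pow_mem i (by rwa [show algebraMap P P'' u ^ i = x from hi]))
    haveI : (s.asIdeal.map (algebraMap P'' P''u)).IsPrime :=
      IsLocalization.isPrime_of_isPrime_disjoint (Submonoid.powers (algebraMap P P'' u)) P''u _ s.isPrime hd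
    refine ⟨⟨s.asIdeal.map (algebraMap P'' P''u), inferInstance⟩, ?_⟩
    apply PrimeSpectrum.localization_comap_injective Pu (Submonoid.powers u)
    refine Eq.trans (PrimeSpectrum.ext ?_) hs
    show ((s.asIdeal.map (algebraMap P'' P''u)).comap (algebraMap Pu P''u)).comap (algebraMap P Pu) = _
    rw [Ideal.comap_comap, ← IsScalarTower.algebraMap_eq, IsScalarTower.algebraMap_eq P P'' P''u, ← Ideal.comap_comap]
    have hcm := IsLocalization.comap_map_of_isPrime_disjoint (Submonoid.powers (algebraMap P P'' u)) P''u s.isPrime hd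
    exact congrArg (Ideal.comap (algebraMap P P'')) hcm |>.trans rfl
  refine isKoszulRegularIdeal_of_faithfullyFlat (B := P''u) ?_
  rw [Ideal.map_map, ← IsScalarTower.algebraMap_eq, IsScalarTower.algebraMap_eq P P'' P''u, ← Ideal.map_map]
  exact isKoszulRegularIdeal_map_flat hJ

theorem isKoszulRegularIdeal_of_syntomic {n : ℕ} (J : Ideal (MvPolynomial (Fin n) A)) (C : Type u) [CommRing C]
    [Algebra (MvPolynomial (Fin n) A ⧸ J) C] [Algebra A C] [IsScalarTower A (MvPolynomial (Fin n) A ⧸ J) C]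
    (hBC : Synt.IsSyntomic (MvPolynomial (Fin n) A ⧸ J) C) (hAC : LCI.IsLCI A C)
    (hsurj : Function.Surjective (PrimeSpectrum.comap (algebraMap (MvPolynomial (Fin n) A ⧸ J) C))) :
    LCI.IsKoszulRegularIdeal J := by
  classical
  let P := MvPolynomial (Fin n) A
  refine isKoszulRegularIdeal_of_away fun p _ hp => ?_
  haveI : (p.map (Ideal.Quotient.mk J)).IsPrime :=
    Ideal.map_isPrime_of_surjective Ideal.Quotient.mk_surjective (by rwa [Ideal.mk_ker])
  obtain ⟨q, hq⟩ := hsurj ⟨p.map (Ideal.Quotient.mk J), inferInstance⟩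
  obtain ⟨g, hg, m₀, c₀, G, hG, ⟨e⟩⟩ := exists_away_relGCI hBC q
  obtain ⟨m, c, F, hF, ⟨e'⟩⟩ := exists_relGCI_lift J G hG
  let Cg := Localization.Away g
  letI : Algebra P C := ((algebraMap (P ⧸ J) C).comp (Ideal.Quotient.mk J)).toAlgebra
  haveI : IsScalarTower P (P ⧸ J) C := IsScalarTower.of_algebraMap_eq' (R := P) (S := P ⧸ J) (A := C) rfl
  haveI : IsScalarTower A P C := .of_algebraMap_eq fun a => by
    rw [IsScalarTower.algebraMap_apply A (P ⧸ J) C]
    rfl
  let P'' := Synt.RelGCIRing P m c F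
  obtain ⟨ψ, hψ, hψker⟩ : ∃ ψ : P'' →ₐ[P] Cg, Function.Surjective ψ ∧ RingHom.ker ψ.toRingHom = J.map (algebraMap P P'') := by
    let E := e'.symm.trans (e.symm.restrictScalars P)
    refine ⟨E.toAlgHom.comp (Ideal.Quotient.mkₐ P _), E.surjective.comp Ideal.Quotient.mk_surjective, ?_⟩
    ext x
    show E (Ideal.Quotient.mk _ x) = 0 ↔ _
    rw [map_eq_zero_iff E E.injective, Ideal.Quotient.eq_zero_iff_mem]
  let π : MvPolynomial (Fin m) P →ₐ[P] P'' := Ideal.Quotient.mkₐ P _
  have hπ : Function.Surjective π := Ideal.Quotient.mk_surjective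
  have hCg : LCI.IsLCI A Cg := isLCI_trans (B := C) hAC (isLCI_away g Cg)
  let eQ := sumAlgEquiv A (Fin m) (Fin n)
  have hK' := isKoszulRegularIdeal_ker_of_isLCI_fintype hCg
    (((ψ.comp π).restrictScalars A).comp eQ.toAlgHom) ((hψ.comp hπ).comp eQ.surjective)
  have hK : LCI.IsKoszulRegularIdeal (RingHom.ker (ψ.comp π).toRingHom) := by
    have : RingHom.ker (ψ.comp π).toRingHom = (RingHom.ker
        (((ψ.comp π).restrictScalars A).comp eQ.toAlgHom).toRingHom).comap eQ.symm.toRingEquiv.toRingHom := by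
      ext x
      show ψ (π x) = 0 ↔ ψ (π (eQ (eQ.symm x))) = 0
      rw [eQ.apply_symm_apply]
    rw [this]
    exact isKoszulRegularIdeal_comap_equiv _ hK'
  have hP'' : Synt.IsSyntomic P P'' := isSyntomic_of_isRelGCI F hF
  have hJP'' : LCI.IsKoszulRegularIdeal (J.map (algebraMap P P'')) := by
    have hFk : RingHom.ker π.toRingHom = Ideal.span (Set.range F) := Ideal.mk_ker
    have hπlci := isKoszulRegularIdeal_ker_of_isLCI (isLCI_of_isSyntomic hP'') π hπ
    let inst : Algebra (MvPolynomial (Fin m) P) P'' := π.toRingHom.toAlgebra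
    have hcomp : (algebraMap (MvPolynomial (Fin m) P) P'').comp (algebraMap P (MvPolynomial (Fin m) P)) = algebraMap P P'' :=
      π.comp_algebraMap
    have h := @isKoszulRegularIdeal_map_base (MvPolynomial (Fin m) P) P'' Cg _ _ _ inst hπ hπlci ψ.toRingHom hK
      (J.map (algebraMap P (MvPolynomial (Fin m) P))) (by rw [hψker, Ideal.map_map, hcomp]) (Fin c) _ F hFk
      (fun p' _ hFp' hJp' k d hd z hz => not_mem_others_of_isRelGCI F hF p' hFp' k d hd z
        (Ideal.map_mono (Ideal.map_le_iff_le_comap.1 hJp') hz))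
    rwa [Ideal.map_map, hcomp] at h
  haveI := hP''.1
  haveI := hP''.2.1
  have hpim : (⟨p, inferInstance⟩ : PrimeSpectrum P) ∈ Set.range (PrimeSpectrum.comap (algebraMap P P'')) := by
    have hd : Disjoint (Submonoid.powers g : Set C) q.asIdeal := Set.disjoint_left.2 fun x ⟨i, hi⟩ hx =>
      hg (q.isPrime.mem_of_pow_mem i (by rwa [show g ^ i = x from hi]))
    haveI : (q.asIdeal.map (algebraMap C Cg)).IsPrime :=
      IsLocalization.isPrime_of_isPrime_disjoint (Submonoid.powers g) Cg _ q.isPrime hd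
    refine ⟨⟨(q.asIdeal.map (algebraMap C Cg)).comap ψ.toRingHom, Ideal.IsPrime.comap _⟩, PrimeSpectrum.ext ?_⟩
    show ((q.asIdeal.map (algebraMap C Cg)).comap ψ.toRingHom).comap (algebraMap P P'') = p
    rw [Ideal.comap_comap, show ψ.toRingHom.comp (algebraMap P P'') = algebraMap P Cg from ψ.comp_algebraMap,
      IsScalarTower.algebraMap_eq P C Cg, ← Ideal.comap_comap,
      show (q.asIdeal.map (algebraMap C Cg)).comap (algebraMap C Cg) = q.asIdeal from
        IsLocalization.comap_map_of_isPrime_disjoint (Submonoid.powers g) Cg q.isPrime hd,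
      IsScalarTower.algebraMap_eq P (P ⧸ J) C, ← Ideal.comap_comap,
      show q.asIdeal.comap (algebraMap (P ⧸ J) C) = p.map (Ideal.Quotient.mk J) from congrArg PrimeSpectrum.asIdeal hq]
    show (p.map (Ideal.Quotient.mk J)).comap (Ideal.Quotient.mk J) = p
    rw [Ideal.comap_map_of_surjective _ Ideal.Quotient.mk_surjective, ← RingHom.ker_eq_comap_bot, Ideal.mk_ker, sup_eq_left]
    exact hp
  exact exists_away_of_flat J hJP'' ⟨p, inferInstance⟩ hpim

/-- An algebra with a syntomic cover which is lci over the base is lci. -/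
theorem isLCI_of_syntomic_cover {B C : Type u} [CommRing B] [CommRing C] [Algebra A B] [Algebra B C] [Algebra A C]
    [IsScalarTower A B C] [hft : Algebra.FiniteType A B] (hBC : Synt.IsSyntomic B C) (hAC : LCI.IsLCI A C)
    (hsurj : Function.Surjective (PrimeSpectrum.comap (algebraMap B C))) : LCI.IsLCI A B := by
  obtain ⟨n, φ, hφ⟩ := Algebra.FiniteType.iff_quotient_mvPolynomial''.1 hft
  refine isLCI_of_pres φ hφ ?_
  let J := RingHom.ker φ.toRingHom
  let ε : (MvPolynomial (Fin n) A ⧸ J) ≃ₐ[A] B := Ideal.quotientKerAlgEquivOfSurjective hφ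
  letI : Algebra (MvPolynomial (Fin n) A ⧸ J) C := ((algebraMap B C).comp ε.toAlgHom.toRingHom).toAlgebra
  haveI : IsScalarTower A (MvPolynomial (Fin n) A ⧸ J) C := IsScalarTower.of_algebraMap_eq (R := A) (S := MvPolynomial (Fin n) A ⧸ J) (A := C) fun a => by
    show algebraMap A C a = algebraMap B C (ε (algebraMap A _ a))
    rw [ε.commutes, ← IsScalarTower.algebraMap_apply]
  refine isKoszulRegularIdeal_of_syntomic J C ?_ hAC ?_
  · exact isSyntomicHom_propertyIsLocal.respectsIso.2 (algebraMap B C) ε.toRingEquiv (isSyntomicHom_algebraMap.2 hBC)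
  · intro r
    obtain ⟨t, ht⟩ := hsurj (PrimeSpectrum.comap ε.symm.toRingEquiv.toRingHom r)
    refine ⟨t, ?_⟩
    apply PrimeSpectrum.ext
    ext x
    have := SetLike.ext_iff.1 (congrArg PrimeSpectrum.asIdeal ht) (ε x)
    show algebraMap B C (ε x) ∈ t.asIdeal ↔ x ∈ r.asIdeal
    simpa using this

end Groth.Agent.CILib
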