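import Groth.Agent.CILib.RelGCISyntomic
import Groth.Agent.RelDivLib.FlatSeq
import Groth.Agent.KoszulCech.Basics

/-!
Koszul regularity is local, and holds for relative global complete intersections.
-/

set_option autoImplicit false
set_option backward.isDefEq.respectTransparency false

universe u

open CategoryTheory CategoryTheory.Limits
open scoped TensorProduct

namespace Groth.Agent.CILib

theorem koszul_eq {A : Type u} [CommRing A] :
    ∀ l : List A, Koszul.koszul A l = CohIII.koszulCx (ModuleCat.of A A) l
  | [] => rfl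
  | f :: l => by
    show CochainComplex.mappingCone (f • 𝟙 (Koszul.koszul A l)) = _
    rw [koszul_eq l]
    rfl

theorem isKoszulRegularSeq_of_isWeaklyRegular {A : Type u} [CommRing A] (l : List A)
    (h : RingTheory.Sequence.IsWeaklyRegular A l) : LCI.IsKoszulRegularSeq A l := fun i hi => by
  exact (Groth.Agent.KoszulCech.isZero_of_isWeaklyRegular l A h i hi).of_iso
    ((HomologicalComplex.homologyFunctor (ModuleCat.{u} A) (ComplexShape.up ℤ) i).mapIso (eqToIso (koszul_eq l)))

theorem isKoszulRegularSeq_of_span_eq_top {A : Type u} [CommRing A] (l : List A)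
    (h : Ideal.span {a | a ∈ l} = ⊤) : LCI.IsKoszulRegularSeq A l := fun i hi => by
  refine IsZero.of_iso ?_
    ((HomologicalComplex.homologyFunctor (ModuleCat.{u} A) (ComplexShape.up ℤ) i).mapIso (eqToIso (koszul_eq l)))
  obtain ⟨H⟩ := Groth.Agent.KoszulCech.nonempty_homotopy_smul (ModuleCat.of A A) l 1 (by rw [h]; trivial)
  have h1 := H.homologyMap_eq i
  rw [one_smul, HomologicalComplex.homologyMap_id, HomologicalComplex.homologyMap_zero] at h1
  exact (IsZero.iff_id_eq_zero _).mpr h1

theorem exists_smul_eq_zero {A : Type u} [CommRing A] (M : Submonoid A) (L : Type u) [CommRing L] [Algebra A L]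
    [IsLocalization M L] (H : ModuleCat.{u} A)
    (h : IsZero ((ModuleCat.extendScalars.{u, u, u} (algebraMap A L)).obj H)) (z : H) :
    ∃ s ∈ M, s • z = 0 := by
  let N : ModuleCat.{u} L := ModuleCat.of L (L ⊗[A] H)
  let g : H ⟶ (ModuleCat.restrictScalars.{u} (algebraMap A L)).obj N := ModuleCat.ofHom
    (Y := (ModuleCat.restrictScalars.{u} (algebraMap A L)).obj N)
    { toFun := fun x => (TensorProduct.mk A L H 1 x : N)
      map_add' := fun x y => map_add _ x y
      map_smul' := fun a x => by
        rw [map_smul]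
        exact (algebraMap_smul L a (TensorProduct.mk A L H 1 x)).symm }
  have hg : g = 0 := by
    let adj := ModuleCat.extendRestrictScalarsAdj.{u, u, u} (algebraMap A L)
    rw [← (adj.homEquiv H N).apply_symm_apply g, h.eq_of_src ((adj.homEquiv H N).symm g) 0, Adjunction.homEquiv_unit,
      Functor.map_zero, comp_zero]
  obtain ⟨s, hs⟩ := (IsLocalizedModule.eq_zero_iff M (TensorProduct.mk A L H 1)).1
    (show TensorProduct.mk A L H 1 z = 0 from congrArg (fun φ => (ModuleCat.Hom.hom φ) z) hg)
  exact ⟨s.1, s.2, hs⟩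

/-- Koszul regularity can be tested in the local rings at maximal ideals. -/
theorem isKoszulRegularSeq_of_localization {A : Type u} [CommRing A] (l : List A)
    (h : ∀ (q : Ideal A) [q.IsMaximal],
      LCI.IsKoszulRegularSeq (Localization.AtPrime q) (l.map (algebraMap A (Localization.AtPrime q)))) :
    LCI.IsKoszulRegularSeq A l := by
  intro i hi
  suffices hs : Subsingleton ((Koszul.koszul A l).homology i) from ModuleCat.isZero_of_subsingleton _
  refine ⟨fun x y => sub_eq_zero.1 ?_⟩
  generalize x - y = z
  by_contra hz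
  let T := Ideal.torsionOf A ((Koszul.koszul A l).homology i) z
  obtain ⟨q, hq, hle⟩ := Ideal.exists_le_maximal T (fun htop => hz (by
    have h1 : (1 : A) ∈ T := by rw [htop]; trivial
    rw [Ideal.mem_torsionOf_iff, one_smul] at h1
    exact h1))
  let L := Localization.AtPrime q
  haveI : Module.Flat A L := IsLocalization.flat L q.primeCompl
  obtain ⟨e⟩ := Groth.Agent.RelDivLib.nonempty_koszul_extendScalars (S := L) l
  haveI : Limits.PreservesFiniteLimits (ModuleCat.extendScalars.{u, u, u} (algebraMap A L)) :=
    ModuleCat.preservesFiniteLimits_extendScalars_of_flat (RingHom.flat_algebraMap_iff.2 inferInstance)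
  have hz' : IsZero ((ModuleCat.extendScalars.{u, u, u} (algebraMap A L)).obj ((Koszul.koszul A l).homology i)) := by
    refine IsZero.of_iso (h q i hi) ?_
    exact (((Koszul.koszul A l).sc i).mapHomologyIso (ModuleCat.extendScalars.{u, u, u} (algebraMap A L))).symm ≪≫
      (HomologicalComplex.homologyFunctor (ModuleCat.{u} L) (ComplexShape.up ℤ) i).mapIso e
  obtain ⟨s, hs, hs0⟩ := exists_smul_eq_zero q.primeCompl L _ hz' z
  exact hs (hle ((Ideal.mem_torsionOf_iff z s).2 hs0))

theorem isKoszulRegularSeq_of_isRelGCI {R : Type u} [CommRing R] {n c : ℕ} (F : Fin c → MvPolynomial (Fin n) R)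
    (h : Synt.IsRelGCI R n c F) : LCI.IsKoszulRegularSeq (MvPolynomial (Fin n) R) (List.ofFn F) := by
  refine isKoszulRegularSeq_of_localization _ fun q _ => ?_
  by_cases hq : Ideal.span (Set.range F) ≤ q
  · exact isKoszulRegularSeq_of_isWeaklyRegular _ (isRegular_of_isRelGCI F h q hq).1
  · obtain ⟨x, hx, hxq⟩ := SetLike.not_le_iff_exists.1 hq
    refine isKoszulRegularSeq_of_span_eq_top _ ?_
    show Ideal.ofList _ = ⊤
    rw [ofList_map_ofFn]
    exact Ideal.eq_top_of_isUnit_mem _ (Ideal.mem_map_of_mem _ hx) (IsLocalization.map_units _ (⟨x, hxq⟩ : q.primeCompl))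

end Groth.Agent.CILib
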