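import Groth.Agent.CILib.PresNhd
import Groth.Agent.CILib.KoszulRegular
import Groth.Agent.DefSchLib.LCIRel
import Groth.Agent.SmallAlgLib.KoszulH1

/-!
Syntomic algebras are the flat local complete intersection algebras.
-/

set_option autoImplicit false
set_option backward.isDefEq.respectTransparency false

universe u

open TensorProduct RingTheory.Sequence

namespace Groth.Agent.CILib

/-- Koszul regularity on a basic open from regularity at the primes. -/
theorem isKoszulRegularSeq_away {A : Type u} [CommRing A] (a : A) (l : List A)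
    (h : ∀ (r : Ideal A) [r.IsPrime], Ideal.ofList l ≤ r → a ∉ r →
      IsWeaklyRegular (Localization.AtPrime r) (l.map (algebraMap A (Localization.AtPrime r)))) :
    LCI.IsKoszulRegularSeq (Localization.Away a) (l.map (algebraMap A (Localization.Away a))) := by
  refine isKoszulRegularSeq_of_localization _ fun m _ => ?_
  let B := Localization.Away a
  by_cases hm : Ideal.ofList (l.map (algebraMap A B)) ≤ m
  · let r := m.comap (algebraMap A B)
    haveI : r.IsPrime := Ideal.IsPrime.comap _
    have ha : a ∉ r := fun hmem =>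
      (Ideal.IsMaximal.ne_top ‹_›) (Ideal.eq_top_of_isUnit_mem m hmem (IsLocalization.Away.algebraMap_isUnit a))
    have hl : Ideal.ofList l ≤ r := Ideal.map_le_iff_le_comap.1 (le_trans (Ideal.map_ofList _ _).le hm)
    haveI : IsLocalization.AtPrime (Localization.AtPrime m) r :=
      IsLocalization.isLocalization_isLocalization_atPrime_isLocalization (Submonoid.powers a) (Localization.AtPrime m) m
    let e := IsLocalization.algEquiv r.primeCompl (Localization.AtPrime r) (Localization.AtPrime m)
    refine isKoszulRegularSeq_of_isWeaklyRegular _ ?_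
    refine (e.toRingEquiv.toAddEquiv.isWeaklyRegular_congr ?_).1 (h r hl ha)
    rw [List.map_map, List.forall₂_map_left_iff, List.forall₂_map_right_iff]
    refine List.forall₂_same.2 fun x _ z => ?_
    show e (_ * z) = _ * e z
    rw [map_mul, e.commutes, IsScalarTower.algebraMap_apply A B (Localization.AtPrime m)]
    rfl
  · obtain ⟨x, hx, hxm⟩ := SetLike.not_le_iff_exists.1 hm
    refine isKoszulRegularSeq_of_span_eq_top _ ?_
    show Ideal.ofList _ = ⊤
    rw [← Ideal.map_ofList]
    exact Ideal.eq_top_of_isUnit_mem _ (Ideal.mem_map_of_mem _ hx) (IsLocalization.map_units _ (⟨x, hxm⟩ : m.primeCompl))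

variable {R S : Type u} [CommRing R] [CommRing S] [Algebra R S]

theorem isLCI_of_isSyntomic (h : Synt.IsSyntomic R S) : LCI.IsLCI R S := by
  haveI := h.2.1
  obtain ⟨n, φ, hφ, hfg⟩ := Algebra.FinitePresentation.out (R := R) (A := S)
  refine ⟨Algebra.FiniteType.of_surjective φ hφ, n, φ, hφ, fun P hP => ?_⟩
  haveI : (P.asIdeal.map φ.toRingHom).IsPrime := Ideal.map_isPrime_of_surjective hφ hP
  have hc : (P.asIdeal.map φ.toRingHom).comap φ.toRingHom = P.asIdeal := by
    rw [Ideal.comap_map_of_surjective φ.toRingHom hφ, sup_eq_left, ← RingHom.ker_eq_comap_bot]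
    exact hP
  obtain ⟨c, F, v, hv, hF, hk, hG⟩ := exists_pres_nhd h φ hφ hfg ⟨P.asIdeal.map φ.toRingHom, ‹_›⟩
  let B := Localization.Away v
  have hvP : v ∉ P.asIdeal := fun hm => hv (Ideal.mem_map_of_mem _ hm)
  refine ⟨v, hvP, (List.ofFn F).map (algebraMap _ B), isKoszulRegularSeq_away v _ fun r _ hr hvr => ?_, ?_⟩
  · refine isWeaklyRegular_of_awayPres F v hG r ?_ hvr
    refine le_trans (Ideal.span_mono ?_) hr
    rintro _ ⟨i, rfl⟩
    exact List.mem_ofFn.2 ⟨i, rfl⟩
  · show _ = Ideal.ofList ((List.ofFn F).map (algebraMap _ B))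
    rw [ofList_map_ofFn]
    refine le_antisymm (Ideal.map_le_iff_le_comap.2 fun x hx => ?_)
      (Ideal.map_mono (Ideal.span_le.2 (by rintro _ ⟨i, rfl⟩; exact hF i)))
    show algebraMap _ B x ∈ (Ideal.span (Set.range F)).map (algebraMap _ B)
    refine (Ideal.mul_unit_mem_iff_mem _ (IsLocalization.Away.algebraMap_isUnit (S := B) v)).1 ?_
    rw [← map_mul]
    exact Ideal.mem_map_of_mem _ (hk x hx)

/-- The kernel of a local complete intersection presentation is finitely generated. -/
theorem fg_of_isKoszulRegularIdeal {A : Type u} [CommRing A] {I : Ideal A} (h : LCI.IsKoszulRegularIdeal I) : I.FG := by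
  let t : Set A := {g | (I.map (algebraMap A (Localization.Away g))).FG}
  have ht : Ideal.span t = ⊤ := by
    by_contra hne
    obtain ⟨m, hm, hle⟩ := Ideal.exists_le_maximal _ hne
    by_cases hI : I ≤ m
    · obtain ⟨g, hg, l, -, hl⟩ := h ⟨m, hm.isPrime⟩ hI
      exact hg (hle (Ideal.subset_span (show g ∈ t from (congrArg Submodule.FG hl).mpr (Submodule.fg_span l.finite_toSet))))
    · obtain ⟨g, hg, hgm⟩ := SetLike.not_le_iff_exists.1 hI
      refine hgm (hle (Ideal.subset_span (show g ∈ t from ?_)))
      show (I.map (algebraMap A (Localization.Away g))).FG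
      rw [Ideal.eq_top_of_isUnit_mem _ (Ideal.mem_map_of_mem _ hg) (IsLocalization.Away.algebraMap_isUnit g)]
      exact ⟨{1}, by simp⟩
  exact Ideal.fg_of_localizationSpan t ht fun g => g.2

/-- Modulo an ideal of the base, a Koszul regular sequence with flat quotient stays regular. -/
theorem isWeaklyRegular_quotient {L : Type u} [CommRing L] [IsLocalRing L] [Algebra R L] (p : Ideal R) (l : List L)
    (hl : LCI.IsKoszulRegularSeq L l) [Module.Flat R (L ⧸ Ideal.ofList l)]
    (hmem : ∀ x ∈ l, x ∈ IsLocalRing.maximalIdeal L) [IsNoetherianRing (L ⧸ p.map (algebraMap R L))]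
    [Nontrivial (L ⧸ p.map (algebraMap R L))] :
    IsWeaklyRegular (L ⧸ p.map (algebraMap R L)) (l.map (Ideal.Quotient.mk (p.map (algebraMap R L)))) := by
  classical
  let J := p.map (algebraMap R L)
  let A := L ⧸ J
  let f : Fin l.length → A := fun i => Ideal.Quotient.mk J (l.get i)
  haveI : IsLocalRing A := .of_surjective' (Ideal.Quotient.mk J) Ideal.Quotient.mk_surjective
  have hspan : Ideal.span (Set.range l.get) = Ideal.ofList l := by
    rw [Ideal.ofList, Set.range_list_get]
  have hrad : ∀ i, f i ∈ (⊥ : Ideal A).jacobson := fun i => by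
    rw [IsLocalRing.jacobson_eq_maximalIdeal ⊥ bot_ne_top]
    intro hu
    haveI := IsLocalHom.of_surjective (Ideal.Quotient.mk J) Ideal.Quotient.mk_surjective
    exact hmem _ (l.get_mem i) ((isUnit_map_iff (Ideal.Quotient.mk J) _).1 hu)
  have hH : CInt.KoszulH1Zero f A := fun m hm => by
    choose r hr using fun i => Ideal.Quotient.mk_surjective (m i)
    let z := ∑ i, r i * l.get i
    have hzI : z ∈ Ideal.ofList l := Ideal.sum_mem _ fun i _ => Ideal.mul_mem_left _ _ (Ideal.subset_span (l.get_mem i))
    have hzJ : z ∈ J := by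
      rw [← Ideal.Quotient.eq_zero_iff_mem]
      simp only [z, map_sum, map_mul, hr]
      rw [← hm]
      exact Finset.sum_congr rfl fun i _ => by rw [smul_eq_mul, mul_comm]
    have hz2 : z ∈ J • Submodule.span L (Set.range l.get) := by
      show z ∈ J • (Ideal.span (Set.range l.get) : Submodule L L)
      rw [hspan]
      exact inf_map_le_map_mul p _ ⟨hzJ, hzI⟩
    obtain ⟨a, haJ, ha⟩ := (Submodule.mem_ideal_smul_span_iff_exists_sum J l.get z).1 hz2
    let q : Fin l.length →₀ L := Finsupp.equivFunOnFinite.symm r - a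
    have hq : q ∈ LinearMap.ker (Finsupp.linearCombination L l.get) := by
      rw [LinearMap.mem_ker, map_sub, sub_eq_zero, Finsupp.linearCombination_apply, Finsupp.linearCombination_apply, ha,
        Finsupp.sum_fintype]
      · rfl
      · exact fun i => zero_mul _
    have hm' : m = fun i => Ideal.Quotient.mk J (q i) := funext fun i => by
      show m i = Ideal.Quotient.mk J (r i - a i)
      rw [map_sub, hr, Ideal.Quotient.eq_zero_iff_mem.2 (haJ i), sub_zero]
    rw [hm']
    have hq' : q ∈ CotTLib.trivR l.get := DefSchLib.ker_le_trivR_of_isKoszulRegularSeq hl hq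
    clear hm' hq
    generalize q = w at hq'
    induction hq' using Submodule.span_induction with
    | mem y hy =>
      obtain ⟨x, x', rfl⟩ := hy
      have e : (fun i => Ideal.Quotient.mk J
          ((Finsupp.linearCombination L l.get x • x' - Finsupp.linearCombination L l.get x' • x) i)) =
          ∑ i : Fin l.length, ∑ j : Fin l.length, (f j • (Pi.single i (Ideal.Quotient.mk J (x j * x' i)) : Fin l.length → A)
            - f i • (Pi.single j (Ideal.Quotient.mk J (x j * x' i)) : Fin l.length → A)) := by
        funext k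
        simp [Finsupp.linearCombination_apply, Finsupp.sum_fintype, Finset.sum_apply, Pi.single_apply, Finset.mul_sum,
          Finset.sum_mul, Finset.sum_sub_distrib, f]
        congr 1 <;> exact Finset.sum_congr rfl fun _ _ => by ring
      rw [e]
      exact Submodule.sum_mem _ fun i _ => Submodule.sum_mem _ fun j _ => Submodule.subset_span ⟨i, j, _, rfl⟩
    | zero => simp only [Finsupp.zero_apply, map_zero]; exact zero_mem _
    | add y y' _ _ hy hy' =>
      have := Submodule.add_mem _ hy hy'
      convert this using 1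
      funext i
      simp
    | smul c y _ hy =>
      have := Submodule.smul_mem _ (Ideal.Quotient.mk J c) hy
      convert this using 1
      funext i
      simp
  have := SmallAlgLib.isWeaklyRegular_of_koszulH1Zero (I := (⊥ : Ideal A).jacobson)
    (SmallAlgLib.noDivisible_of_isHausdorff fun _ _ => IsHausdorff.of_le_jacobson _ _ le_rfl) f hrad hH
  rwa [show List.ofFn f = l.map (Ideal.Quotient.mk J) from List.ext_getElem (by simp) fun i _ _ => by simp [f]] at this

/-- In a local ring, a Koszul regular ideal is generated by a Koszul regular sequence. -/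
theorem exists_list_atPrime {A : Type u} [CommRing A] {I : Ideal A} (hI : LCI.IsKoszulRegularIdeal I) (r : Ideal A)
    [r.IsPrime] (hr : I ≤ r) :
    ∃ l : List (Localization.AtPrime r), LCI.IsKoszulRegularSeq (Localization.AtPrime r) l ∧
      I.map (algebraMap A (Localization.AtPrime r)) = Ideal.ofList l := by
  obtain ⟨g, hg, l, hl, hlK⟩ := hI ⟨r, inferInstance⟩ hr
  have hle : Submonoid.powers g ≤ r.primeCompl := by
    rintro _ ⟨m, rfl⟩ hm
    exact hg ((‹r.IsPrime›).mem_of_pow_mem m hm)
  letI : Algebra (Localization.Away g) (Localization.AtPrime r) :=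
    (IsLocalization.lift (M := Submonoid.powers g) (g := algebraMap A (Localization.AtPrime r))
      fun y => IsLocalization.map_units (Localization.AtPrime r) (⟨y.1, hle y.2⟩ : r.primeCompl)).toAlgebra
  haveI : IsScalarTower A (Localization.Away g) (Localization.AtPrime r) := .of_algebraMap_eq fun x =>
    (IsLocalization.lift_eq (M := Submonoid.powers g) (g := algebraMap A (Localization.AtPrime r)) _ x).symm
  haveI : IsLocalization (r.primeCompl.map (algebraMap A (Localization.Away g))) (Localization.AtPrime r) :=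
    IsLocalization.isLocalization_of_submonoid_le (Localization.Away g) _ (Submonoid.powers g) r.primeCompl hle
  haveI : Module.Flat (Localization.Away g) (Localization.AtPrime r) :=
    IsLocalization.flat _ (r.primeCompl.map (algebraMap A (Localization.Away g)))
  refine ⟨_, Groth.Agent.RelDivLib.isKoszulRegularSeq_flat (S := Localization.AtPrime r) hl, ?_⟩
  rw [IsScalarTower.algebraMap_eq A (Localization.Away g) (Localization.AtPrime r), ← Ideal.map_map, hlK,
    ← Ideal.map_ofList]

/-- Cutting out the closed fibre by a regular sequence. -/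
theorem exists_regular_of_flat {L T : Type u} [CommRing L] [IsLocalRing L] [Algebra R L] [CommRing T] [IsLocalRing T]
    [IsNoetherianRing T] (p : Ideal R) (l : List L) (hl : LCI.IsKoszulRegularSeq L l) (K : Ideal L)
    (hK : K = Ideal.ofList l) (hKm : K ≤ IsLocalRing.maximalIdeal L) [Module.Flat R (L ⧸ K)]
    (e : T ≃+* L ⧸ p.map (algebraMap R L)) :
    ∃ rs : List T, IsWeaklyRegular T rs ∧
      Ideal.ofList rs = (K.map (Ideal.Quotient.mk (p.map (algebraMap R L)))).map e.symm.toRingHom := by
  subst hK
  haveI : IsNoetherianRing (L ⧸ p.map (algebraMap R L)) := isNoetherianRing_of_ringEquiv _ e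
  haveI : Nontrivial (L ⧸ p.map (algebraMap R L)) := e.symm.toEquiv.nontrivial
  have hreg := isWeaklyRegular_quotient p l hl fun x hx => hKm (Ideal.subset_span hx)
  refine ⟨(l.map (Ideal.Quotient.mk (p.map (algebraMap R L)))).map e.symm, ?_, ?_⟩
  · refine (e.symm.toAddEquiv.isWeaklyRegular_congr ?_).1 hreg
    rw [List.forall₂_map_right_iff]
    exact List.forall₂_same.2 fun x _ z => map_mul e.symm x z
  · rw [Ideal.map_ofList, Ideal.map_ofList]
    rfl

/-- The local rings of a flat quotient are flat. -/
theorem flat_atPrime_quotient_map {P : Type u} [CommRing P] [Algebra R P] (φ : P →ₐ[R] S) (hφ : Function.Surjective φ)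
    [Module.Flat R S] (q : Ideal S) [q.IsPrime] [(q.comap φ.toRingHom).IsPrime] :
    Module.Flat R (Localization.AtPrime (q.comap φ.toRingHom) ⧸
      (RingHom.ker φ.toRingHom).map (algebraMap P (Localization.AtPrime (q.comap φ.toRingHom)))) := by
  haveI : Module.Flat R (Localization.AtPrime q) := Module.Flat.trans R S _
  let π : Localization.AtPrime (q.comap φ.toRingHom) →ₐ[R] Localization.AtPrime q :=
    { toRingHom := Localization.localRingHom (q.comap φ.toRingHom) q φ.toRingHom rfl
      commutes' := fun a => by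
        show Localization.localRingHom (q.comap φ.toRingHom) q φ.toRingHom rfl _ = _
        rw [IsScalarTower.algebraMap_apply R P (Localization.AtPrime (q.comap φ.toRingHom)),
          Localization.localRingHom_to_map, IsScalarTower.algebraMap_apply R S (Localization.AtPrime q), ← φ.commutes]
        rfl }
  exact Module.Flat.of_linearEquiv ((Ideal.quotientEquivAlgOfEq R (CMGraded.ker_localRingHom hφ _ q rfl).symm).trans
    (Ideal.quotientKerAlgEquivOfSurjective (f := π) (CMGraded.localRingHom_surjective hφ _ q rfl))).toLinearEquiv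

/-- The fibre local rings of a flat local complete intersection algebra are complete intersections. -/
theorem isCIOver_fibre_of_isKoszulRegularIdeal {n : ℕ} (φ : MvPolynomial (Fin n) R →ₐ[R] S)
    (hφ : Function.Surjective φ) (hK : LCI.IsKoszulRegularIdeal (RingHom.ker φ.toRingHom)) [Module.Flat R S]
    (p : Ideal R) [p.IsPrime] (Q : Ideal (p.Fiber S)) [Q.IsPrime] :
    Synt.IsCIOver p.ResidueField (Localization.AtPrime Q) := by
  obtain ⟨ψ, hψ, hkerψ, hψm⟩ := exists_fibre_presentation p φ hφ
  haveI : (Q.comap (Algebra.TensorProduct.includeRight : S →ₐ[R] p.Fiber S).toRingHom).IsPrime := Ideal.IsPrime.comap _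
  haveI : ((Q.comap (Algebra.TensorProduct.includeRight : S →ₐ[R] p.Fiber S).toRingHom).comap φ.toRingHom).IsPrime :=
    Ideal.IsPrime.comap _
  obtain ⟨r, hr⟩ : ∃ r, r = (Q.comap (Algebra.TensorProduct.includeRight : S →ₐ[R] p.Fiber S).toRingHom).comap φ.toRingHom :=
    ⟨_, rfl⟩
  have hfl := flat_atPrime_quotient_map φ hφ (Q.comap (Algebra.TensorProduct.includeRight : S →ₐ[R] p.Fiber S).toRingHom)
  rw! [← hr] at hfl
  haveI := hfl
  haveI : r.IsPrime := hr ▸ inferInstance
  have hKr : RingHom.ker φ.toRingHom ≤ r := fun x hx => by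
    rw [hr, Ideal.mem_comap, show φ.toRingHom x = 0 from hx]
    exact zero_mem _
  obtain ⟨l, hl, hlK⟩ := exists_list_atPrime hK r hKr
  have hp' : r.comap (algebraMap R (MvPolynomial (Fin n) R)) = p := by
    rw [hr]
    ext a
    simp only [Ideal.mem_comap]
    show (Algebra.TensorProduct.includeRight : S →ₐ[R] p.Fiber S) (φ (algebraMap R _ a)) ∈ Q ↔ a ∈ p
    rw [φ.commutes, AlgHom.commutes]
    exact (SetLike.ext_iff.1 (Ideal.LiesOver.over (P := Q) (p := p)) a).symm
  obtain ⟨Q', _, hQ', e, he⟩ := exists_closedFibre_equiv r p hp'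
  haveI : (Q.comap ψ.toRingHom).IsPrime := Ideal.IsPrime.comap _
  have hQQ : Q.comap ψ.toRingHom = Q' := by
    refine eq_of_comap_map_eq p _ _ ?_
    rw [hQ', hr]
    ext x
    show ψ (MvPolynomial.map _ x) ∈ Q ↔ _
    rw [hψm]
    rfl
  refine (isCIOver_atPrime_iff ψ hψ Q).2 ?_
  subst hQQ
  obtain ⟨rs, hw, hrs⟩ := exists_regular_of_flat p l hl _ hlK
    ((Ideal.map_mono hKr).trans (Localization.AtPrime.map_eq_maximalIdeal (I := r)).le) e
  haveI := regularLocal_mvPolynomial (Q.comap ψ.toRingHom)
  have hk : RingHom.ker (Localization.localRingHom (Q.comap ψ.toRingHom) Q ψ.toRingHom rfl) = Ideal.ofList rs := by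
    rw [CMGraded.ker_localRingHom hψ _ Q rfl, hkerψ, hrs, Ideal.map_map, Ideal.map_map, Ideal.map_map]
    congr 1
    exact RingHom.ext fun x => (e.eq_symm_apply).2 (he x)
  refine cutBy_of_isRegular _ (CMGraded.localRingHom_surjective hψ _ Q rfl) rs ⟨hw, fun htop => ?_⟩ hk
  rw [smul_eq_mul, Ideal.mul_top] at htop
  exact RingHom.ker_ne_top _ (hk.trans htop.symm)

theorem isSyntomic_iff_flat_and_isLCI : Synt.IsSyntomic R S ↔ Module.Flat R S ∧ LCI.IsLCI R S := by
  refine ⟨fun h => ⟨h.1, isLCI_of_isSyntomic h⟩, ?_⟩
  rintro ⟨hfl, -, n, φ, hφ, hK⟩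
  have hfg := fg_of_isKoszulRegularIdeal hK
  refine ⟨hfl, Algebra.FinitePresentation.of_surjective hφ hfg, fun p => ?_⟩
  haveI : Algebra.FiniteType R S := Algebra.FiniteType.of_surjective φ hφ
  exact isLCIOver_of_forall_maximal fun m _ => isCIOver_fibre_of_isKoszulRegularIdeal φ hφ hK p.asIdeal m

end Groth.Agent.CILib
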