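import Groth.Agent.CILib.Nbhd

/-!
Local complete intersection algebras through their local rings.
-/

set_option autoImplicit false
set_option backward.isDefEq.respectTransparency false

universe u

open IsLocalRing MvPolynomial

namespace Groth.Agent.CILib

variable {k : Type u} [Field k] {S : Type u} [CommRing S] [Algebra k S]

theorem isCIOver_atPrime_of_away (q : Ideal S) [q.IsPrime] {g : S} (hg : g ∉ q)
    (h : ∀ (P : Ideal (Localization.Away g)) [P.IsPrime], P.comap (algebraMap S (Localization.Away g)) = q →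
      Synt.IsCIOver k (Localization.AtPrime P)) :
    Synt.IsCIOver k (Localization.AtPrime q) := by
  let T := Localization.Away g
  have hd : Disjoint (Submonoid.powers g : Set S) q := Set.disjoint_left.2 fun x ⟨m, hm⟩ hx =>
    hg (‹q.IsPrime›.mem_of_pow_mem m (show g ^ m ∈ q by rwa [show g ^ m = x from hm]))
  haveI : (q.map (algebraMap S T)).IsPrime := IsLocalization.isPrime_of_isPrime_disjoint _ T q ‹_› hd
  have hc : (q.map (algebraMap S T)).comap (algebraMap S T) = q :=
    IsLocalization.comap_map_of_isPrime_disjoint (Submonoid.powers g) T ‹_› hd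
  have hci := h (q.map (algebraMap S T)) hc
  haveI : ((q.map (algebraMap S T)).comap (algebraMap S T)).IsPrime := Ideal.IsPrime.comap _
  haveI : IsLocalization.AtPrime (Localization.AtPrime (q.map (algebraMap S T))) q := by
    have := IsLocalization.isLocalization_isLocalization_atPrime_isLocalization (Submonoid.powers g)
      (Localization.AtPrime (q.map (algebraMap S T))) (q.map (algebraMap S T))
    convert this
    exact hc.symm
  exact isCIOver_congr ((IsLocalization.algEquiv q.primeCompl (Localization.AtPrime (q.map (algebraMap S T)))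
    (Localization.AtPrime q)).restrictScalars k) hci

theorem isCIOver_atPrime_of_isLCIOver (h : Synt.IsLCIOver k S) (q : Ideal S) [q.IsPrime] :
    Synt.IsCIOver k (Localization.AtPrime q) := by
  obtain ⟨g, hg, hci⟩ := h.2 ⟨q, ‹_›⟩
  exact isCIOver_atPrime_of_away q hg fun P _ _ => isCIOver_of_isGlobalCI hci P

theorem exists_away_of_isCIOver [Algebra.FiniteType k S] (q : Ideal S) [q.IsPrime]
    (h : Synt.IsCIOver k (Localization.AtPrime q)) : ∃ g : S, g ∉ q ∧ Synt.IsGlobalCI k (Localization.Away g) := by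
  obtain ⟨n, φ, hφ⟩ := Algebra.FiniteType.iff_quotient_mvPolynomial''.1 ‹Algebra.FiniteType k S›
  haveI : (q.comap φ.toRingHom).IsPrime := Ideal.IsPrime.comap _
  exact exists_away_isGlobalCI φ hφ q ((isCIOver_atPrime_iff φ hφ q).1 h)

theorem isCIOver_atPrime_iff_away [Algebra.FiniteType k S] (q : Ideal S) [q.IsPrime] :
    (Synt.IsCIOver k (Localization.AtPrime q) ↔ ∃ g : S, g ∉ q ∧ Synt.IsLCIOver k (Localization.Away g)) ∧
      (Synt.IsCIOver k (Localization.AtPrime q) ↔
        ∃ g : S, g ∉ q ∧ Synt.IsGlobalCI k (Localization.Away g)) := by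
  refine ⟨⟨fun h => ?_, fun ⟨g, hg, h⟩ => ?_⟩, ⟨exists_away_of_isCIOver q, fun ⟨g, hg, h⟩ => ?_⟩⟩
  · obtain ⟨g, hg, hci⟩ := exists_away_of_isCIOver q h
    exact ⟨g, hg, isLCIOver_of_isGlobalCI hci⟩
  · exact isCIOver_atPrime_of_away q hg fun P _ _ => isCIOver_atPrime_of_isLCIOver h P
  · exact isCIOver_atPrime_of_away q hg fun P _ _ => isCIOver_of_isGlobalCI h P

theorem isLCIOver_of_forall_maximal [Algebra.FiniteType k S]
    (h : ∀ (m : Ideal S) [m.IsMaximal], Synt.IsCIOver k (Localization.AtPrime m)) : Synt.IsLCIOver k S := by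
  refine ⟨inferInstance, fun p => ?_⟩
  obtain ⟨m, hm, hpm⟩ := p.asIdeal.exists_le_maximal p.2.ne_top
  obtain ⟨g, hg, hci⟩ := exists_away_of_isCIOver m (h m)
  exact ⟨g, fun hgp => hg (hpm hgp), hci⟩

end Groth.Agent.CILib
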