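import Groth.Agent.CILib.GlobalCI

/-!
Syntomic ring maps: transport, localisation on source and target, locality.
-/

set_option autoImplicit false
set_option backward.isDefEq.respectTransparency false

universe u

open TensorProduct MvPolynomial

namespace Groth.Agent.CILib

section FieldIso

variable {k k' : Type u} [Field k] [Field k'] {S S' : Type u} [CommRing S] [CommRing S'] [Algebra k S]
  [Algebra k' S']

theorem isGlobalCI_of_semiequiv (σ : k ≃+* k') (ε : S ≃+* S')
    (hcomp : ∀ a, ε (algebraMap k S a) = algebraMap k' S' (σ a)) (h : Synt.IsGlobalCI k S) :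
    Synt.IsGlobalCI k' S' := by
  rcases h with h | ⟨n, c, hc, φ, r, hφ, hker, hd⟩
  · exact Or.inl ε.symm.injective.subsingleton
  let m := MvPolynomial.mapEquiv (Fin n) σ
  let φ' : MvPolynomial (Fin n) k' →ₐ[k'] S' := MvPolynomial.aeval fun i => ε (φ (X i))
  have key : ∀ x, φ' (m x) = ε (φ x) := by
    intro x
    have : φ'.toRingHom.comp m.toRingHom = ε.toRingHom.comp φ.toRingHom := by
      refine MvPolynomial.ringHom_ext (fun a => ?_) (fun i => ?_)
      · simp [m, φ', hcomp]
      · simp [m, φ']
    exact RingHom.congr_fun this x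
  have keyInv : ∀ y, φ' y = ε (φ (m.symm y)) := fun y => by
    rw [← key, m.apply_symm_apply]
  refine Or.inr ⟨n, c, hc, φ', m ∘ r, fun s => ?_, ?_, ?_⟩
  · obtain ⟨x, hx⟩ := hφ (ε.symm s)
    exact ⟨m x, by rw [key, hx, ε.apply_symm_apply]⟩
  · rw [Set.range_comp, ← Ideal.map_span, ← hker]
    ext y
    rw [RingHom.mem_ker]
    refine ⟨fun hy => ?_, fun hy => ?_⟩
    · rw [← m.apply_symm_apply y]
      refine Ideal.mem_map_of_mem m ?_
      rw [RingHom.mem_ker]
      exact ε.injective (by rw [map_zero]; exact (keyInv y).symm.trans hy)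
    · obtain ⟨x, hx, rfl⟩ := (Ideal.mem_map_iff_of_surjective m m.surjective).1 hy
      show φ' (m x) = 0
      rw [key, show φ x = 0 from hx, map_zero]
  · rw [← hd]; exact (ringKrullDim_eq_of_ringEquiv ε).symm

theorem isLCIOver_of_semiequiv (σ : k ≃+* k') (ε : S ≃+* S')
    (hcomp : ∀ a, ε (algebraMap k S a) = algebraMap k' S' (σ a)) (h : Synt.IsLCIOver k S) :
    Synt.IsLCIOver k' S' := by
  haveI := h.1
  refine ⟨?_, fun p => ?_⟩
  · rw [← RingHom.finiteType_algebraMap]
    have h1 : RingHom.FiniteType (ε.toRingHom.comp (algebraMap k S)) :=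
      RingHom.FiniteType.comp (RingHom.FiniteType.of_surjective _ ε.surjective) (RingHom.finiteType_algebraMap.2 h.1)
    rw [show ε.toRingHom.comp (algebraMap k S) = (algebraMap k' S').comp σ.toRingHom from RingHom.ext hcomp] at h1
    exact RingHom.FiniteType.of_comp_finiteType h1
  · obtain ⟨g, hg, hci⟩ := h.2 (p.comap ε.toRingHom)
    refine ⟨ε g, hg, ?_⟩
    letI : Algebra S (Localization.Away (ε g)) := ((algebraMap S' (Localization.Away (ε g))).comp ε.toRingHom).toAlgebra
    haveI : IsLocalization.Away g (Localization.Away (ε g)) := by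
      have := IsLocalization.isLocalization_of_base_ringEquiv (Submonoid.powers (ε g)) (Localization.Away (ε g)) ε.symm
      rw [Submonoid.map_powers] at this
      rw [ε.symm_apply_apply] at this
      exact this
    let ε' := (IsLocalization.algEquiv (Submonoid.powers g) (Localization.Away g) (Localization.Away (ε g))).toRingEquiv
    refine isGlobalCI_of_semiequiv σ ε' (fun a => ?_) hci
    show (IsLocalization.algEquiv (Submonoid.powers g) (Localization.Away g) (Localization.Away (ε g)))
      (algebraMap k (Localization.Away g) a) = _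
    rw [IsScalarTower.algebraMap_apply k S (Localization.Away g), AlgEquiv.commutes]
    show algebraMap S' (Localization.Away (ε g)) (ε (algebraMap k S a)) = _
    rw [hcomp]
    rfl

end FieldIso

section LCILocal

variable {k : Type u} [Field k]

theorem isLCIOver_of_subsingleton (S : Type u) [CommRing S] [Algebra k S] [Subsingleton S] :
    Synt.IsLCIOver k S :=
  isLCIOver_of_isGlobalCI (Or.inl ‹_›)

/-- Being a local complete intersection over a field is local. -/
theorem isLCIOver_of_span (S : Type u) [CommRing S] [Algebra k S] (s : Set S) (hs : Ideal.span s = ⊤)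
    (hft : Algebra.FiniteType k S) (h : ∀ g ∈ s, Synt.IsLCIOver k (Localization.Away g)) :
    Synt.IsLCIOver k S := by
  refine ⟨hft, fun p => ?_⟩
  obtain ⟨g, hgs, hgp⟩ : ∃ g ∈ s, g ∉ p.asIdeal := by
    by_contra hne
    push Not at hne
    exact p.2.ne_top (top_le_iff.1 (hs.symm.le.trans (Ideal.span_le.2 hne)))
  let T := Localization.Away g
  have hd : Disjoint (Submonoid.powers g : Set S) p.asIdeal := Set.disjoint_left.2 fun x ⟨m, hm⟩ hx =>
    hgp (p.2.mem_of_pow_mem m (show g ^ m ∈ p.asIdeal by rwa [show g ^ m = x from hm]))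
  haveI hP : (p.asIdeal.map (algebraMap S T)).IsPrime :=
    IsLocalization.isPrime_of_isPrime_disjoint _ T p.asIdeal p.2 hd
  obtain ⟨y, hy, hci⟩ := (h g hgs).2 ⟨p.asIdeal.map (algebraMap S T), hP⟩
  obtain ⟨⟨f, ⟨_, m, rfl⟩⟩, rfl⟩ := IsLocalization.mk'_surjective (Submonoid.powers g) y
  have hf : f ∉ p.asIdeal := fun hf => hy (by
    show IsLocalization.mk' T f (⟨g ^ m, m, rfl⟩ : Submonoid.powers g) ∈ _
    rw [IsLocalization.mk'_eq_mul_mk'_one]
    exact Ideal.mul_mem_right _ _ (Ideal.mem_map_of_mem _ hf))
  refine ⟨g * f, p.2.mul_notMem hgp hf, ?_⟩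
  let U := Localization.Away (IsLocalization.mk' T f (⟨g ^ m, m, rfl⟩ : Submonoid.powers g))
  have hass : Associated (algebraMap S T f) (IsLocalization.mk' T f (⟨g ^ m, m, rfl⟩ : Submonoid.powers g)) := by
    obtain ⟨v, hv⟩ := IsLocalization.map_units T (⟨g ^ m, m, rfl⟩ : Submonoid.powers g)
    refine ⟨v⁻¹, ?_⟩
    rw [Units.mul_inv_eq_iff_eq_mul, hv, IsLocalization.mk'_spec]
  haveI : IsLocalization.Away (algebraMap S T f) U :=
    IsLocalization.Away.of_associated (r := IsLocalization.mk' T f (⟨g ^ m, m, rfl⟩ : Submonoid.powers g)) hass.symm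
  haveI : IsLocalization.Away (g * f) U := IsLocalization.Away.mul' T U g f
  exact isGlobalCI_congr ((IsLocalization.algEquiv (Submonoid.powers (g * f)) U
    (Localization.Away (g * f))).restrictScalars k) hci

end LCILocal

section Fibre

variable {R : Type u} [CommRing R]

theorem isSyntomic_congr {S T : Type u} [CommRing S] [CommRing T] [Algebra R S] [Algebra R T] (e : S ≃ₐ[R] T)
    (h : Synt.IsSyntomic R S) : Synt.IsSyntomic R T := by
  obtain ⟨h1, h2, h3⟩ := h
  refine ⟨Module.Flat.of_linearEquiv e.symm.toLinearEquiv, Algebra.FinitePresentation.equiv e, fun p => ?_⟩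
  exact isLCIOver_congr (Algebra.TensorProduct.congr AlgEquiv.refl e) (h3 p)

/-- The fibre of a localisation is a localisation of the fibre. -/
theorem exists_fibre_away_equiv {S : Type u} [CommRing S] [Algebra R S] (K : Type u) [CommRing K] [Algebra R K]
    (g : S) (T : Type u) [CommRing T] [Algebra R T] [Algebra S T] [IsScalarTower R S T]
    [IsLocalization.Away g T] :
    Nonempty (Localization.Away ((1 : K) ⊗ₜ[R] g) ≃ₐ[K] K ⊗[R] T) := by
  let B' := K ⊗[R] S
  letI : Algebra S B' := Algebra.TensorProduct.rightAlgebra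
  haveI : IsScalarTower R S B' := .of_algebraMap_eq fun r => by
    show algebraMap R (K ⊗[R] S) r = (1 : K) ⊗ₜ[R] algebraMap R S r
    rw [Algebra.TensorProduct.algebraMap_apply, Algebra.algebraMap_eq_smul_one,
      Algebra.algebraMap_eq_smul_one, smul_tmul]
  let C := B' ⊗[S] T
  haveI : IsLocalization.Away ((1 : K) ⊗ₜ[R] g) C := by
    have h := IsLocalization.tensor (S := B') (A := T) (Submonoid.powers g)
    unfold IsLocalization.Away
    have hp : Algebra.algebraMapSubmonoid B' (Submonoid.powers g) = Submonoid.powers ((1 : K) ⊗ₜ[R] g) :=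
      Submonoid.map_powers _ _
    rwa [← hp]
  exact ⟨((IsLocalization.algEquiv (Submonoid.powers ((1 : K) ⊗ₜ[R] g)) _ C).restrictScalars K).trans
    (Algebra.IsPushout.cancelBaseChangeAlg R K S B' T)⟩

theorem isSyntomic_away {S : Type u} [CommRing S] [Algebra R S] (h : Synt.IsSyntomic R S) (g : S)
    (T : Type u) [CommRing T] [Algebra R T] [Algebra S T] [IsScalarTower R S T] [IsLocalization.Away g T] :
    Synt.IsSyntomic R T := by
  obtain ⟨h1, h2, h3⟩ := h
  haveI := h1
  haveI := h2
  haveI : Module.Flat S T := IsLocalization.flat T (Submonoid.powers g)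
  haveI : IsScalarTower R S T := ‹_›
  haveI : Algebra.FinitePresentation S T := IsLocalization.Away.finitePresentation g
  refine ⟨Module.Flat.trans R S T, Algebra.FinitePresentation.trans R S T, fun p => ?_⟩
  obtain ⟨e⟩ := exists_fibre_away_equiv (R := R) p.asIdeal.ResidueField g T
  exact isLCIOver_congr e (isLCIOver_away (h3 p) ((1 : p.asIdeal.ResidueField) ⊗ₜ[R] g) _)

theorem isSyntomic_of_span {S : Type u} [CommRing S] [Algebra R S] (s : Set S) (hs : Ideal.span s = ⊤)
    (h : ∀ g ∈ s, Synt.IsSyntomic R (Localization.Away g)) : Synt.IsSyntomic R S := by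
  have hflat : Module.Flat R S := by
    haveI : ∀ g : s, Module.Flat R (Localization.Away g.1) := fun g => (h g.1 g.2).1
    exact Module.flat_of_isLocalized_span S S s hs (fun g : s => Localization.Away g.1)
      (fun g => Algebra.linearMap S (Localization.Away g.1)) fun g => inferInstance
  have hfp : Algebra.FinitePresentation R S := by
    rw [← RingHom.finitePresentation_algebraMap]
    refine RingHom.finitePresentation_ofLocalizationSpanTarget _ s hs fun g => ?_
    rw [← IsScalarTower.algebraMap_eq R S (Localization.Away g.1)]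
    exact RingHom.finitePresentation_algebraMap.2 (h g.1 g.2).2.1
  refine ⟨hflat, hfp, fun p => ?_⟩
  let K := p.asIdeal.ResidueField
  refine isLCIOver_of_span (K ⊗[R] S) ((fun g : S => (1 : K) ⊗ₜ[R] g) '' s) ?_ inferInstance ?_
  · have := congrArg (Ideal.map (Algebra.TensorProduct.includeRight : S →ₐ[R] K ⊗[R] S).toRingHom) hs
    rw [Ideal.map_span, Ideal.map_top] at this
    exact this
  · rintro _ ⟨g, hg, rfl⟩
    obtain ⟨e⟩ := exists_fibre_away_equiv (R := R) K g (Localization.Away g)
    exact isLCIOver_congr e.symm ((h g hg).2.2 p)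

end Fibre

section Base

variable {R R' S : Type u} [CommRing R] [CommRing R'] [CommRing S] [Algebra R R'] [Algebra R' S] [Algebra R S]
  [IsScalarTower R R' S]

/-- Fibres over a localisation of the base are fibres over the base. -/
theorem isLCIOver_fibre_iff (M : Submonoid R) [IsLocalization M R'] (P : Ideal R') [P.IsPrime]
    (p : Ideal R) [p.IsPrime] (hp : p = P.comap (algebraMap R R')) :
    Synt.IsLCIOver p.ResidueField (p.Fiber S) ↔ Synt.IsLCIOver P.ResidueField (P.Fiber S) := by
  let f : p.ResidueField →+* P.ResidueField := Ideal.ResidueField.map p P (algebraMap R R') hp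
  let σ : p.ResidueField ≃+* P.ResidueField :=
    RingEquiv.ofBijective f ((RingHom.surjectiveOnStalks_of_isLocalization (R := R) (S := R') M).residueFieldMap_bijective p P hp)
  let σA : p.ResidueField ≃ₐ[R] P.ResidueField := AlgEquiv.ofRingEquiv (f := σ) fun r => by
    show Ideal.ResidueField.map p P (algebraMap R R') hp (algebraMap R p.ResidueField r) = _
    rw [Ideal.ResidueField.map_algebraMap, ← IsScalarTower.algebraMap_apply]
  haveI : TensorProduct.CompatibleSMul R R' P.ResidueField S := IsLocalization.tensorProduct_compatibleSMul M R' _ _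
  let ε : p.Fiber S ≃ₐ[R] P.Fiber S :=
    (Algebra.TensorProduct.congr σA AlgEquiv.refl).trans
      ((Algebra.TensorProduct.equivOfCompatibleSMul R R' R' P.ResidueField S).symm.restrictScalars R)
  have hε : ∀ a, ε.toRingEquiv (algebraMap p.ResidueField (p.Fiber S) a) =
      algebraMap P.ResidueField (P.Fiber S) (σ a) := by
    intro a
    simp [ε, σA, σ, Algebra.TensorProduct.algebraMap_apply]
    rfl
  refine ⟨isLCIOver_of_semiequiv σ ε.toRingEquiv hε, isLCIOver_of_semiequiv σ.symm ε.toRingEquiv.symm fun b => ?_⟩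
  apply ε.toRingEquiv.injective
  rw [RingEquiv.apply_symm_apply, hε, RingEquiv.apply_symm_apply]

theorem isSyntomic_base_away (r : R) [IsLocalization.Away r R'] :
    Synt.IsSyntomic R' S ↔ Synt.IsSyntomic R S := by
  constructor
  · rintro ⟨h1, h2, h3⟩
    haveI : Module.Flat R R' := IsLocalization.flat R' (Submonoid.powers r)
    haveI : Algebra.FinitePresentation R R' := IsLocalization.Away.finitePresentation r
    refine ⟨Module.Flat.trans R R' S, Algebra.FinitePresentation.trans R R' S, fun p => ?_⟩
    by_cases hr : r ∈ p.asIdeal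
    · haveI : Subsingleton (p.asIdeal.ResidueField ⊗[R] S) := by
        refine subsingleton_of_zero_eq_one ?_
        have hu : IsUnit ((1 : p.asIdeal.ResidueField) ⊗ₜ[R] algebraMap R S r) := by
          refine IsUnit.map (Algebra.TensorProduct.includeRight : S →ₐ[R] p.asIdeal.ResidueField ⊗[R] S) ?_
          rw [IsScalarTower.algebraMap_apply R R' S]
          exact (IsLocalization.Away.algebraMap_isUnit r).map _
        have h0 : (1 : p.asIdeal.ResidueField) ⊗ₜ[R] algebraMap R S r = (0 : p.asIdeal.ResidueField ⊗[R] S) := by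
          rw [Algebra.algebraMap_eq_smul_one, ← smul_tmul, ← Algebra.algebraMap_eq_smul_one,
            Ideal.algebraMap_residueField_eq_zero.2 hr, zero_tmul]
        rw [h0] at hu
        exact isUnit_zero_iff.1 hu
      exact isLCIOver_of_subsingleton _
    · have hd : Disjoint (Submonoid.powers r : Set R) p.asIdeal := Set.disjoint_left.2 fun x ⟨m, hm⟩ hx =>
        hr (p.2.mem_of_pow_mem m (show r ^ m ∈ p.asIdeal by rwa [show r ^ m = x from hm]))
      haveI : (p.asIdeal.map (algebraMap R R')).IsPrime := IsLocalization.isPrime_of_isPrime_disjoint (Submonoid.powers r) R' p.asIdeal p.2 hd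
      exact (isLCIOver_fibre_iff (R := R) (R' := R') (S := S) (Submonoid.powers r) (p.asIdeal.map (algebraMap R R')) p.asIdeal
        (IsLocalization.comap_map_of_isPrime_disjoint (Submonoid.powers r) R' p.2 hd).symm).2
        (h3 ⟨p.asIdeal.map (algebraMap R R'), inferInstance⟩)
  · rintro ⟨h1, h2, h3⟩
    haveI : Algebra.FiniteType R R' := IsLocalization.finiteType_of_monoid_fg (Submonoid.powers r) R'
    haveI := h2
    refine ⟨(Module.flat_iff_of_isLocalization (R := R) R' (Submonoid.powers r) S).2 h1,
      Algebra.FinitePresentation.of_restrict_scalars_finitePresentation R R' S, fun P => ?_⟩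
    haveI : (P.asIdeal.comap (algebraMap R R')).IsPrime := Ideal.IsPrime.comap _
    exact (isLCIOver_fibre_iff (Submonoid.powers r) P.asIdeal (P.asIdeal.comap (algebraMap R R')) rfl).1
      (h3 ⟨P.asIdeal.comap (algebraMap R R'), inferInstance⟩)

end Base

end Groth.Agent.CILib
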