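import Groth.Agent.CILib.RelGCISyntomic
import Groth.Agent.CILib.Syntomic

/-!
Finite algebras with square presentations.
-/

set_option autoImplicit false
set_option backward.isDefEq.respectTransparency false

universe u

open TensorProduct Polynomial

namespace Groth.Agent.CILib

variable {A : Type u} [CommRing A]

/-- `B` has a presentation with as many equations as generators. -/
def HasSquarePres (A B : Type u) [CommRing A] [CommRing B] [Algebra A B] : Prop :=
  ∃ (n : ℕ) (F : Fin n → MvPolynomial (Fin n) A), Nonempty (B ≃ₐ[A] Synt.RelGCIRing A n n F)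

theorem isRelGCI_of_finite {n : ℕ} (F : Fin n → MvPolynomial (Fin n) A)
    [Module.Finite A (Synt.RelGCIRing A n n F)] : Synt.IsRelGCI A n n F := by
  intro p hp
  refine ⟨le_rfl, ?_⟩
  haveI : Module.Finite p.asIdeal.ResidueField (p.asIdeal.Fiber (Synt.RelGCIRing A n n F)) := inferInstance
  haveI : IsArtinianRing (p.asIdeal.Fiber (Synt.RelGCIRing A n n F)) :=
    isArtinian_of_tower p.asIdeal.ResidueField inferInstance
  rw [Nat.sub_self, Nat.cast_zero]
  exact (ringKrullDimZero_iff_ringKrullDim_eq_zero).1 ((isArtinianRing_iff_isNoetherianRing_krullDimLE_zero (R := p.asIdeal.Fiber (Synt.RelGCIRing A n n F))).1 inferInstance).2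

theorem isSyntomic_of_hasSquarePres {B : Type u} [CommRing B] [Algebra A B] [Module.Finite A B]
    (h : HasSquarePres A B) : Synt.IsSyntomic A B := by
  obtain ⟨n, F, ⟨e⟩⟩ := h
  haveI : Module.Finite A (Synt.RelGCIRing A n n F) := Module.Finite.equiv e.toLinearEquiv
  exact isSyntomic_congr e.symm (isSyntomic_of_isRelGCI F (isRelGCI_of_finite F))

theorem hasSquarePres_self : HasSquarePres A A :=
  ⟨0, Fin.elim0, ⟨(AlgEquiv.ofBijective (Algebra.ofId A (Synt.RelGCIRing A 0 0 Fin.elim0))
    (by
      refine ⟨fun a b hab => ?_, fun x => ?_⟩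
      · have h : Ideal.Quotient.mk (Ideal.span (Set.range (Fin.elim0 : Fin 0 → MvPolynomial (Fin 0) A))) (MvPolynomial.C a) =
            Ideal.Quotient.mk _ (MvPolynomial.C b) := hab
        rw [Ideal.Quotient.eq, Set.range_eq_empty, Ideal.span_empty, Ideal.mem_bot, sub_eq_zero] at h
        exact MvPolynomial.C_injective _ _ h
      · obtain ⟨p, rfl⟩ := Ideal.Quotient.mk_surjective x
        exact ⟨p.coeff 0, congrArg _ (MvPolynomial.eq_C_of_isEmpty p).symm⟩))⟩⟩

/-- Adjoining a root keeps a square presentation. -/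
theorem hasSquarePres_adjoinRoot {B : Type u} [CommRing B] [Algebra A B] (h : HasSquarePres A B) (Q : B[X]) :
    HasSquarePres A (AdjoinRoot Q) := by
  obtain ⟨n, F, ⟨e⟩⟩ := h
  let π : MvPolynomial (Fin n) A →ₐ[A] B := e.symm.toAlgHom.comp (Ideal.Quotient.mkₐ A _)
  have hπ : Function.Surjective π := e.symm.surjective.comp Ideal.Quotient.mk_surjective
  have hkπ : RingHom.ker π.toRingHom = Ideal.span (Set.range F) := by
    ext x
    rw [RingHom.mem_ker]
    show e.symm (Ideal.Quotient.mk _ x) = 0 ↔ _
    rw [map_eq_zero_iff _ e.symm.injective, Ideal.Quotient.eq_zero_iff_mem]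
  obtain ⟨Q₀, hQ₀⟩ := Polynomial.map_surjective π.toRingHom hπ Q
  let E := MvPolynomial.finSuccEquiv A n
  let G : Fin (n + 1) → MvPolynomial (Fin (n + 1)) A :=
    Fin.cons (E.symm Q₀) fun i => E.symm (C (F i))
  let ψ : MvPolynomial (Fin (n + 1)) A →ₐ[A] AdjoinRoot Q :=
    ((Ideal.Quotient.mkₐ A (Ideal.span {Q})).comp (Polynomial.mapAlgHom π)).comp E.toAlgHom
  have hψ : Function.Surjective ψ :=
    (Ideal.Quotient.mk_surjective.comp (Polynomial.map_surjective π.toRingHom hπ)).comp E.surjective
  have hker : RingHom.ker ψ.toRingHom = Ideal.span (Set.range G) := by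
    have h1 : RingHom.ker ψ.toRingHom =
        ((Ideal.span {Q}).comap (Polynomial.mapRingHom π.toRingHom)).comap E.toRingEquiv.toRingHom := by
      ext x
      simp only [RingHom.mem_ker, Ideal.mem_comap]
      exact Ideal.Quotient.eq_zero_iff_mem
    have h2 : (Ideal.span {Q}).comap (Polynomial.mapRingHom π.toRingHom) =
        Ideal.span {Q₀} ⊔ (Ideal.span (Set.range F)).map C := by
      have hQ : Ideal.span {Q} = (Ideal.span {Q₀}).map (Polynomial.mapRingHom π.toRingHom) := by
        rw [Ideal.map_span, Set.image_singleton, coe_mapRingHom, hQ₀]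
      rw [hQ, Ideal.comap_map_of_surjective _ (Polynomial.map_surjective π.toRingHom hπ), ← RingHom.ker_eq_comap_bot,
        Polynomial.ker_mapRingHom, hkπ]
    rw [h1, h2, Ideal.map_span, ← Ideal.span_union]
    show Ideal.comap E.toRingEquiv _ = _
    rw [← Ideal.map_symm, Ideal.map_span]
    congr 1
    rw [show Set.range G = insert (E.symm Q₀) (Set.range fun i => E.symm (C (F i))) from Fin.range_cons _ _,
      Set.singleton_union, Set.image_insert_eq, ← Set.range_comp, ← Set.range_comp]
    rfl
  exact ⟨n + 1, G, ⟨((Ideal.quotientKerAlgEquivOfSurjective hψ).symm.trans (Ideal.quotientEquivAlgOfEq A hker))⟩⟩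

/-- A monic polynomial splits over a finite free algebra with a square presentation. -/
theorem exists_splitting_aux (d : ℕ) :
    ∀ (B : Type u) [CommRing B] [Algebra A B] [Module.Finite A B] [Module.Free A B] [Module.FaithfullyFlat A B],
      HasSquarePres A B → ∀ Q : B[X], Q.Monic → Q.natDegree = d →
        ∃ (A' : Type u) (_ : CommRing A') (_ : Algebra A A'),
          HasSquarePres A A' ∧ Module.Finite A A' ∧ Module.Free A A' ∧ Module.FaithfullyFlat A A' ∧
            ∃ (f : B →ₐ[A] A') (s : Multiset A'), Q.map f.toRingHom = (s.map fun b => X - C b).prod := by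
  induction d with
  | zero =>
    intro B _ _ hfin hfree hff hB Q hQ hd
    refine ⟨B, inferInstance, inferInstance, hB, hfin, hfree, hff, AlgHom.id A B, 0, ?_⟩
    rw [hQ.natDegree_eq_zero.1 hd]
    simp
  | succ d ih =>
    intro B _ _ hfin hfree hff hB Q hQ hd
    haveI : Nontrivial B := by
      by_contra hn
      haveI := not_nontrivial_iff_subsingleton.1 hn
      rw [Subsingleton.elim Q 1, natDegree_one] at hd
      omega
    let B' := AdjoinRoot Q
    haveI : Module.Free B B' := hQ.free_adjoinRoot
    haveI : Module.Finite B B' := hQ.finite_adjoinRoot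
    haveI : Nontrivial B' := by
      haveI : Nonempty (Fin (AdjoinRoot.powerBasis' hQ).dim) := ⟨⟨0, by rw [AdjoinRoot.powerBasis'_dim, hd]; omega⟩⟩
      exact (AdjoinRoot.powerBasis' hQ).basis.repr.toEquiv.nontrivial
    haveI : Module.Finite A B' := Module.Finite.trans B B'
    haveI : Module.Free A B' := Module.Free.trans (S := B)
    haveI : Module.FaithfullyFlat A B' := Module.FaithfullyFlat.trans A B B'
    let r : B' := AdjoinRoot.root Q
    let Q1 := Q.map (algebraMap B B')
    have hmon : Q1.Monic := hQ.map _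
    have hroot : (X - C r) * (Q1 /ₘ (X - C r)) = Q1 :=
      Polynomial.mul_divByMonic_eq_iff_isRoot.2 (AdjoinRoot.isRoot_root Q)
    have hd' : (Q1 /ₘ (X - C r)).natDegree = d := by
      rw [natDegree_divByMonic _ (monic_X_sub_C r), natDegree_X_sub_C, hQ.natDegree_map, hd]
      omega
    obtain ⟨A', _, _, h1, h2, h3, h4, f, s, hs⟩ := ih B' (hasSquarePres_adjoinRoot hB Q) _
      ((monic_X_sub_C r).of_mul_monic_left (hroot.symm ▸ hmon)) hd'
    refine ⟨A', inferInstance, inferInstance, h1, h2, h3, h4, f.comp (IsScalarTower.toAlgHom A B B'), f r ::ₘ s, ?_⟩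
    rw [show (f.comp (IsScalarTower.toAlgHom A B B')).toRingHom = f.toRingHom.comp (algebraMap B B') from rfl,
      ← Polynomial.map_map, show Q.map (algebraMap B B') = Q1 from rfl, ← hroot, Polynomial.map_mul, hs, Multiset.map_cons,
      Multiset.prod_cons]
    simp

theorem exists_splitting (P : A[X]) (hP : P.Monic) :
    ∃ (A' : Type u) (_ : CommRing A') (_ : Algebra A A'),
      Synt.IsSyntomic A A' ∧ Module.Finite A A' ∧ Module.Free A A' ∧ Module.FaithfullyFlat A A' ∧
        ∃ s : Multiset A', P.map (algebraMap A A') = (s.map fun b => X - C b).prod := by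
  obtain ⟨A', _, _, h1, h2, h3, h4, f, s, hs⟩ := exists_splitting_aux P.natDegree A hasSquarePres_self P hP rfl
  refine ⟨A', inferInstance, inferInstance, isSyntomic_of_hasSquarePres h1, h2, h3, h4, s, ?_⟩
  rw [← hs, show f.toRingHom = algebraMap A A' from f.comp_algebraMap]

end Groth.Agent.CILib
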