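import Groth.Agent.CILib.KoszulPres
import Groth.Agent.CILib.Scheme
import Groth.Agent.CILib.Square

/-!
Calculus of local complete intersection ring maps.
-/

set_option autoImplicit false
set_option linter.style.haveILetI false
set_option backward.isDefEq.respectTransparency false

universe u

open MvPolynomial

noncomputable section

namespace Groth.Agent.CILib

section Ideals

variable {A : Type u} [CommRing A]

theorem isKoszulRegularIdeal_map_flat {A' : Type u} [CommRing A'] [Algebra A A'] [Module.Flat A A'] {I : Ideal A}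
    (hI : LCI.IsKoszulRegularIdeal I) : LCI.IsKoszulRegularIdeal (I.map (algebraMap A A')) := by
  refine isKoszulRegularIdeal_of_nearGen fun p _ hp => ?_
  haveI : (p.comap (algebraMap A A')).IsPrime := Ideal.IsPrime.comap _
  obtain ⟨g, hg, l, -, hl⟩ := exists_nearGen hI (p.comap (algebraMap A A')) (Ideal.map_le_iff_le_comap.1 hp)
  refine ⟨algebraMap A A' g, hg, l.map (algebraMap A A'), fun L _ _ _ hu => ?_⟩
  letI : Algebra A L := ((algebraMap A' L).comp (algebraMap A A')).toAlgebra
  haveI : IsScalarTower A A' L := .of_algebraMap_eq' rfl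
  haveI : Module.Flat A L := Module.Flat.trans A A' L
  obtain ⟨h₁, h₂⟩ := hl L hu
  have hm : (l.map (algebraMap A A')).map (algebraMap A' L) = l.map (algebraMap A L) := by
    rw [List.map_map]; rfl
  rw [hm, Ideal.map_map]
  exact ⟨h₁, h₂⟩

/-- Koszul regularity of an ideal is local. -/
theorem isKoszulRegularIdeal_of_away {I : Ideal A}
    (h : ∀ (p : Ideal A) [p.IsPrime], I ≤ p → ∃ g, g ∉ p ∧
      LCI.IsKoszulRegularIdeal (I.map (algebraMap A (Localization.Away g)))) :
    LCI.IsKoszulRegularIdeal I := by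
  refine isKoszulRegularIdeal_of_nearGen fun p _ hp => ?_
  obtain ⟨g, hg, hI⟩ := h p hp
  let A' := Localization.Away g
  have hdisj : Disjoint (Submonoid.powers g : Set A) (p : Set A) := by
    rw [Set.disjoint_left]
    rintro _ ⟨n, rfl⟩ hn
    exact hg ((‹p.IsPrime›).mem_of_pow_mem n hn)
  haveI hpr : (p.map (algebraMap A A')).IsPrime :=
    IsLocalization.isPrime_of_isPrime_disjoint (Submonoid.powers g) A' p ‹_› hdisj
  have hcm := IsLocalization.comap_map_of_isPrime_disjoint (Submonoid.powers g) A' ‹p.IsPrime› hdisj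
  obtain ⟨w, hw, l, hlI, hl⟩ := exists_nearGen hI (p.map (algebraMap A A')) (Ideal.map_mono hp)
  have hnum : ∀ x : A', ∃ (a : A) (v : A'), IsUnit v ∧ algebraMap A A' a = x * v := fun x => by
    obtain ⟨⟨a, s⟩, hs⟩ := IsLocalization.surj (Submonoid.powers g) x
    exact ⟨a, _, IsLocalization.map_units A' s, hs.symm⟩
  choose num v hv hnum using hnum
  have hw' : num w ∉ p := fun hmem => by
    have hm := Ideal.mem_map_of_mem (algebraMap A A') hmem
    rw [hnum, Ideal.mul_unit_mem_iff_mem _ (hv w)] at hm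
    exact hw hm
  refine ⟨g * num w, fun hmem => ((‹p.IsPrime›).mem_or_mem hmem).elim hg hw', l.map num, fun L _ _ _ hu => ?_⟩
  rw [map_mul] at hu
  letI : Algebra A' L := (IsLocalization.Away.lift g (isUnit_of_mul_isUnit_left hu)).toAlgebra
  haveI : IsScalarTower A A' L :=
    .of_algebraMap_eq fun x => (IsLocalization.Away.lift_eq g (isUnit_of_mul_isUnit_left hu) x).symm
  haveI : Module.Flat A' L := (Module.flat_iff_of_isLocalization A' (Submonoid.powers g) L).2 inferInstance
  have hcomm : ∀ x, algebraMap A L (num x) = algebraMap A' L x * algebraMap A' L (v x) := fun x => by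
    rw [IsScalarTower.algebraMap_apply A A' L, hnum, map_mul]
  obtain ⟨h₁, h₂⟩ := hl L (isUnit_of_mul_isUnit_left (hcomm w ▸ isUnit_of_mul_isUnit_right hu))
  have heq : Ideal.ofList ((l.map num).map (algebraMap A L)) = Ideal.ofList (l.map (algebraMap A' L)) := by
    refine le_antisymm (Ideal.span_le.2 fun y hy => ?_) (Ideal.span_le.2 fun y hy => ?_)
    · obtain ⟨a, ha, rfl⟩ := List.mem_map.1 (show y ∈ (l.map num).map (algebraMap A L) from hy)
      obtain ⟨x, hx, rfl⟩ := List.mem_map.1 ha
      rw [SetLike.mem_coe, hcomm]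
      exact Ideal.mul_mem_right _ _ (Ideal.subset_span (List.mem_map_of_mem hx))
    · obtain ⟨x, hx, rfl⟩ := List.mem_map.1 (show y ∈ l.map (algebraMap A' L) from hy)
      rw [SetLike.mem_coe, ← Ideal.mul_unit_mem_iff_mem _ ((hv x).map (algebraMap A' L)), ← hcomm]
      exact Ideal.subset_span (List.mem_map_of_mem (List.mem_map_of_mem hx))
  refine ⟨isKoszulRegularSeq_of_ofList_eq h₁ heq (by simp), ?_⟩
  rw [heq, ← h₂, IsScalarTower.algebraMap_eq A A' L, Ideal.map_map]

end Ideals

section LCI

variable {A B C : Type u} [CommRing A] [CommRing B] [CommRing C] [Algebra A B]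

theorem isKoszulRegularIdeal_ker_of_isLCI (h : LCI.IsLCI A B) {n : ℕ} (β : MvPolynomial (Fin n) A →ₐ[A] B)
    (hβ : Function.Surjective β) : LCI.IsKoszulRegularIdeal (RingHom.ker β.toRingHom) := by
  obtain ⟨-, m, α, hα, hK⟩ := h
  exact isKoszulRegularIdeal_ker_of_ker α hα β hβ hK

theorem isLCI_of_pres {σ : Type} [Fintype σ] (φ : MvPolynomial σ A →ₐ[A] B) (hφ : Function.Surjective φ)
    (hK : LCI.IsKoszulRegularIdeal (RingHom.ker φ.toRingHom)) : LCI.IsLCI A B := by
  let e := renameEquiv A (Fintype.equivFin σ).symm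
  refine ⟨Algebra.FiniteType.of_surjective φ hφ, _, φ.comp e.toAlgHom, hφ.comp e.surjective, ?_⟩
  have : RingHom.ker (φ.comp e.toAlgHom).toRingHom = (RingHom.ker φ.toRingHom).comap e.toRingEquiv.toRingHom := rfl
  rw [this]
  exact isKoszulRegularIdeal_comap_equiv _ hK

theorem isKoszulRegularIdeal_ker_of_isLCI_fintype (h : LCI.IsLCI A B) {σ : Type} [Fintype σ]
    (φ : MvPolynomial σ A →ₐ[A] B) (hφ : Function.Surjective φ) : LCI.IsKoszulRegularIdeal (RingHom.ker φ.toRingHom) := by
  let e := renameEquiv A (Fintype.equivFin σ)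
  have hk := isKoszulRegularIdeal_ker_of_isLCI h (φ.comp e.symm.toAlgHom) (hφ.comp e.symm.surjective)
  have : RingHom.ker φ.toRingHom =
      (RingHom.ker (φ.comp e.symm.toAlgHom).toRingHom).comap e.toRingEquiv.toRingHom := by
    ext x
    show φ x = 0 ↔ φ (e.symm (e x)) = 0
    rw [e.symm_apply_apply]
  rw [this]
  exact isKoszulRegularIdeal_comap_equiv _ hk

theorem isLCI_of_surjective (hs : Function.Surjective (algebraMap A B))
    (hK : LCI.IsKoszulRegularIdeal (RingHom.ker (algebraMap A B))) : LCI.IsLCI A B := by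
  let e := isEmptyAlgEquiv A (Fin 0)
  refine isLCI_of_pres ((Algebra.ofId A B).comp e.toAlgHom) (hs.comp e.surjective) ?_
  exact isKoszulRegularIdeal_comap_equiv e.toRingEquiv hK

theorem isKoszulRegularIdeal_of_isLCI_surjective (h : LCI.IsLCI A B) (hs : Function.Surjective (algebraMap A B)) :
    LCI.IsKoszulRegularIdeal (RingHom.ker (algebraMap A B)) := by
  let e := isEmptyAlgEquiv A (Fin 0)
  have hk := isKoszulRegularIdeal_ker_of_isLCI h ((Algebra.ofId A B).comp e.toAlgHom) (hs.comp e.surjective)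
  have : RingHom.ker (algebraMap A B) =
      (RingHom.ker ((Algebra.ofId A B).comp e.toAlgHom).toRingHom).comap e.symm.toRingEquiv.toRingHom := by
    ext x
    show algebraMap A B x = 0 ↔ algebraMap A B (e (e.symm x)) = 0
    rw [e.apply_symm_apply]
  rw [this]
  exact isKoszulRegularIdeal_comap_equiv _ hk

theorem isLCI_away (g : A) (L : Type u) [CommRing L] [Algebra A L] [IsLocalization.Away g L] : LCI.IsLCI A L := by
  have h0 : Synt.IsSyntomic A A := isSyntomic_of_hasSquarePres hasSquarePres_self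
  exact isLCI_of_isSyntomic (isSyntomic_away h0 g L)

variable [Algebra A C] [Algebra B C] [IsScalarTower A B C]

omit [Algebra A C] [Algebra B C] [IsScalarTower A B C] in
/-- The presentation of a polynomial ring over a presented algebra. -/
theorem exists_sumPres {σ τ : Type} (φ : MvPolynomial σ A →ₐ[A] B) (hφ : Function.Surjective φ) :
    ∃ χ : MvPolynomial (τ ⊕ σ) A →ₐ[A] MvPolynomial τ B, Function.Surjective χ ∧
      RingHom.ker χ.toRingHom = (RingHom.ker φ.toRingHom).map (rename Sum.inr : MvPolynomial σ A →ₐ[A] _).toRingHom ∧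
      (LCI.IsKoszulRegularIdeal (RingHom.ker φ.toRingHom) → LCI.IsKoszulRegularIdeal (RingHom.ker χ.toRingHom)) := by
  let e := sumAlgEquiv A τ σ
  let μ : MvPolynomial τ (MvPolynomial σ A) →ₐ[A] MvPolynomial τ B := MvPolynomial.mapAlgHom φ
  have hμ : RingHom.ker μ.toRingHom = (RingHom.ker φ.toRingHom).map MvPolynomial.C := MvPolynomial.ker_map φ.toRingHom
  have hker : RingHom.ker (μ.comp e.toAlgHom).toRingHom = (RingHom.ker μ.toRingHom).comap e.toRingEquiv.toRingHom := rfl
  refine ⟨μ.comp e.toAlgHom, (MvPolynomial.map_surjective φ.toRingHom hφ).comp e.surjective, ?_, fun hK => ?_⟩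
  · rw [hker, hμ]
    have hcomp : (rename Sum.inr : MvPolynomial σ A →ₐ[A] MvPolynomial (τ ⊕ σ) A).toRingHom =
        e.symm.toRingEquiv.toRingHom.comp MvPolynomial.C := by
      refine MvPolynomial.ringHom_ext (fun a => ?_) fun i => ?_
      · show rename Sum.inr (C a) = e.symm (C (C a))
        rw [rename_C, e.eq_symm_apply]
        simp [e]
      · show rename Sum.inr (X i) = e.symm (C (X i))
        rw [rename_X, e.eq_symm_apply]
        simp [e]
    rw [hcomp, ← Ideal.map_map]
    exact (Ideal.map_comap_of_equiv e.symm.toRingEquiv).symm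
  · rw [hker, hμ]
    exact isKoszulRegularIdeal_comap_equiv _
      (isKoszulRegularIdeal_map_flat (A := MvPolynomial σ A) (A' := MvPolynomial τ (MvPolynomial σ A)) hK)

/-- Local complete intersection algebras compose. -/
theorem isLCI_trans (hAB : LCI.IsLCI A B) (hBC : LCI.IsLCI B C) : LCI.IsLCI A C := by
  obtain ⟨-, n, φ, hφ, hJ⟩ := hAB
  obtain ⟨-, m, ψ, hψ, hI⟩ := hBC
  obtain ⟨χ, hχ, -, hχK⟩ := exists_sumPres (τ := Fin m) φ hφ
  refine isLCI_of_pres ((ψ.restrictScalars A).comp χ) (hψ.comp hχ) ?_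
  letI := χ.toRingHom.toAlgebra
  exact isKoszulRegularIdeal_comap (A := MvPolynomial (Fin m ⊕ Fin n) A) (C := MvPolynomial (Fin m) B) hχ (hχK hJ) hI

/-- Cancellation of a standard smooth algebra. -/
theorem isLCI_of_isStandardSmooth [Algebra.IsStandardSmooth A B] (h : LCI.IsLCI A C) : LCI.IsLCI B C := by
  classical
  haveI hBC : Algebra.FiniteType B C := Algebra.FiniteType.of_restrictScalars_finiteType A B C (hA := h.1)
  obtain ⟨m, ψ, hψ⟩ := Algebra.FiniteType.iff_quotient_mvPolynomial''.1 hBC
  obtain ⟨ι, σ, _, _, ⟨P₀⟩⟩ := (‹Algebra.IsStandardSmooth A B›).out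
  obtain ⟨n, ⟨ei⟩⟩ := Finite.exists_equiv_fin ι
  obtain ⟨c, ⟨es⟩⟩ := Finite.exists_equiv_fin σ
  let P := P₀.reindex ei.symm es.symm
  let φ : MvPolynomial (Fin n) A →ₐ[A] B := MvPolynomial.aeval P.val
  have hφ : Function.Surjective φ := P.aeval_val_surjective
  have hJ : RingHom.ker φ.toRingHom = Ideal.span (Set.range P.relation) := by
    rw [P.span_range_relation_eq_ker, P.ker_eq_ker_aeval_val]
    rfl
  obtain ⟨χ, hχ, hχker, hχK⟩ := exists_sumPres (τ := Fin m) φ hφ
  have hK := isKoszulRegularIdeal_ker_of_isLCI_fintype h ((ψ.restrictScalars A).comp χ) (hψ.comp hχ)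
  have hB : LCI.IsLCI A B := isLCI_of_isSyntomic (isSyntomic_of_isStandardSmooth A B)
  refine isLCI_of_pres ψ hψ ?_
  letI := χ.toRingHom.toAlgebra
  have hKmap : RingHom.ker ψ.toRingHom = (RingHom.ker ((ψ.restrictScalars A).comp χ).toRingHom).map χ.toRingHom :=
    (Ideal.map_comap_of_surjective χ.toRingHom hχ _).symm
  rw [hKmap]
  refine isKoszulRegularIdeal_map (A := MvPolynomial (Fin m ⊕ Fin n) A) (C := MvPolynomial (Fin m) B) hχ
    (hχK (isKoszulRegularIdeal_ker_of_isLCI hB φ hφ)) hK (fun x hx => ?_) fun p _ hp => ?_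
  · show ψ (χ x) = 0
    rw [show χ x = 0 from hx, map_zero]
  · let r : MvPolynomial (Fin n) A →ₐ[A] MvPolynomial (Fin m ⊕ Fin n) A := rename Sum.inr
    have hχp : RingHom.ker χ.toRingHom ≤ p := le_trans (fun x hx => by
      show ψ (χ x) = 0
      rw [show χ x = 0 from hx, map_zero]) hp
    have hgJ : ∀ i, r (P.relation i) ∈ RingHom.ker χ.toRingHom := fun i =>
      hχker ▸ Ideal.mem_map_of_mem r.toRingHom (hJ ▸ Ideal.subset_span ⟨i, rfl⟩)
    refine ⟨Fin c, inferInstance, fun i => r (P.relation i), hgJ, ?_, 1,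
      (Ideal.ne_top_iff_one p).1 (Ideal.IsPrime.ne_top ‹_›), fun x hx => ?_⟩
    · refine sep_of_det _ p (fun i => hχp (hgJ i)) (fun i => pderiv (Sum.inr (P.map i))) ?_
      let M : Matrix (Fin c) (Fin c) (MvPolynomial (Fin n) A) := Matrix.of fun i j => pderiv (P.map i) (P.relation j)
      have hM : (Matrix.of fun i j => pderiv (Sum.inr (P.map i)) (r (P.relation j))) = r.toRingHom.mapMatrix M := by
        refine Matrix.ext fun i j => ?_
        exact MvPolynomial.pderiv_rename (R := A) (f := (Sum.inr : Fin n → Fin m ⊕ Fin n)) Sum.inr_injective (P.map i) (P.relation j)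
      have hdet : (r.toRingHom.mapMatrix M).det = r M.det := (r.toRingHom.map_det M).symm
      rw [hM, hdet]
      intro hmem
      have hM' : P.jacobiMatrix = M := by
        ext i j
        rw [P.jacobiMatrix_apply]
        rfl
      have hu : IsUnit (φ M.det) := by
        have hj := P.jacobian_isUnit
        rw [P.jacobian_eq_jacobiMatrix_det, hM', P.algebraMap_eq] at hj
        exact hj
      obtain ⟨v, hv⟩ := hu.exists_left_inv
      obtain ⟨v', rfl⟩ := hφ v
      have h1 : r (v' * M.det - 1) ∈ p := hχp (hχker ▸ Ideal.mem_map_of_mem r.toRingHom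
        (by show φ (v' * M.det - 1) = 0; rw [map_sub, map_mul, hv, map_one, sub_self]))
      have h2 : r (v' * M.det) ∈ p := by rw [map_mul]; exact Ideal.mul_mem_left _ _ hmem
      have h3 := p.sub_mem h2 h1
      rw [← map_sub, sub_sub_cancel, map_one] at h3
      exact Ideal.IsPrime.ne_top ‹_› ((Ideal.eq_top_iff_one p).2 h3)
    · rw [one_mul]
      have hx' : x ∈ RingHom.ker χ.toRingHom := hx
      rw [hχker, hJ, Ideal.map_span, ← Set.range_comp] at hx'
      exact hx'

/-- Being a local complete intersection is local on the target. -/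
theorem isLCI_of_span {R S : Type u} [CommRing R] [CommRing S] [Algebra R S] (s : Set S) (hs : Ideal.span s = ⊤)
    (h : ∀ g ∈ s, LCI.IsLCI R (Localization.Away g)) : LCI.IsLCI R S := by
  haveI hft : Algebra.FiniteType R S := by
    rw [← RingHom.finiteType_algebraMap]
    refine RingHom.finiteType_ofLocalizationSpanTarget _ s hs fun g => ?_
    rw [← IsScalarTower.algebraMap_eq R S (Localization.Away g.1), RingHom.finiteType_algebraMap]
    exact (h g g.2).1
  obtain ⟨n, φ, hφ⟩ := Algebra.FiniteType.iff_quotient_mvPolynomial''.1 hft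
  refine isLCI_of_pres φ hφ (isKoszulRegularIdeal_of_away fun p _ hp => ?_)
  letI := φ.toRingHom.toAlgebra
  haveI : IsScalarTower R (MvPolynomial (Fin n) R) S := .of_algebraMap_eq fun x => (φ.commutes x).symm
  have hJp : RingHom.ker (algebraMap (MvPolynomial (Fin n) R) S) ≤ p := hp
  haveI : (p.map (algebraMap (MvPolynomial (Fin n) R) S)).IsPrime := Ideal.map_isPrime_of_surjective hφ hJp
  obtain ⟨g, hg, hgp⟩ : ∃ g ∈ s, g ∉ p.map (algebraMap (MvPolynomial (Fin n) R) S) := by
    by_contra hcon
    push Not at hcon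
    exact Ideal.IsPrime.ne_top ‹(p.map _).IsPrime› (top_le_iff.1 (hs ▸ Ideal.span_le.2 hcon))
  obtain ⟨g', rfl⟩ := hφ g
  refine ⟨g', fun hmem => hgp (Ideal.mem_map_of_mem _ hmem), ?_⟩
  obtain ⟨alg, htow, hsur, hker⟩ := exists_away_quot (A := MvPolynomial (Fin n) R) (C := S) hφ g'
  letI := alg
  haveI := htow
  let P' := Localization.Away g'
  let S' := Localization.Away (algebraMap (MvPolynomial (Fin n) R) S g')
  haveI : IsScalarTower R P' S' := .of_algebraMap_eq fun x => by
    rw [IsScalarTower.algebraMap_apply R (MvPolynomial (Fin n) R) P', ← IsScalarTower.algebraMap_apply _ P' S',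
      IsScalarTower.algebraMap_apply (MvPolynomial (Fin n) R) S S', ← IsScalarTower.algebraMap_apply R _ S,
      ← IsScalarTower.algebraMap_apply R S S']
  haveI : Algebra.IsStandardSmooth R (MvPolynomial (Fin n) R) := by
    rw [Algebra.IsStandardSmooth.iff_exists_basis_kaehlerDifferential]
    refine ⟨inferInstance, _, KaehlerDifferential.mvPolynomialBasis R (Fin n), ?_⟩
    rintro _ ⟨i, rfl⟩
    exact ⟨MvPolynomial.X i, (KaehlerDifferential.mvPolynomialBasis_apply R (Fin n) i).symm⟩
  haveI : Algebra.IsStandardSmooth (MvPolynomial (Fin n) R) P' := Algebra.IsStandardSmooth.localization_away g'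
  haveI : Algebra.IsStandardSmooth R P' := Algebra.IsStandardSmooth.trans R (MvPolynomial (Fin n) R) P'
  have := isKoszulRegularIdeal_of_isLCI_surjective (isLCI_of_isStandardSmooth (A := R) (B := P') (C := S') (h _ hg)) hsur
  rwa [hker] at this

/-- Cancellation of a smooth algebra. -/
theorem isLCI_of_smooth [Algebra.Smooth A B] (h : LCI.IsLCI A C) : LCI.IsLCI B C := by
  obtain ⟨s, hs, hst⟩ := RingHom.smooth_iff_locally_isStandardSmooth.1 (RingHom.smooth_algebraMap.2 ‹Algebra.Smooth A B›)
  refine isLCI_of_span (algebraMap B C '' s) (by rw [← Ideal.map_span, hs, Ideal.map_top]) ?_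
  rintro _ ⟨b, hb, rfl⟩
  let B' := Localization.Away b
  let C' := Localization.Away (algebraMap B C b)
  haveI : Algebra.IsStandardSmooth A B' := by
    have := hst b hb
    rw [← IsScalarTower.algebraMap_eq A B B'] at this
    exact RingHom.isStandardSmooth_algebraMap.1 this
  letI : Algebra B' C' := (IsLocalization.Away.map B' C' (algebraMap B C) b).toAlgebra
  haveI : IsScalarTower B B' C' := .of_algebraMap_eq fun x => by
    show algebraMap B C' x = IsLocalization.Away.map B' C' (algebraMap B C) b (algebraMap B B' x)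
    rw [IsLocalization.Away.map, IsLocalization.map_eq, ← IsScalarTower.algebraMap_apply]
  haveI : IsScalarTower A B' C' := .of_algebraMap_eq fun x => by
    rw [IsScalarTower.algebraMap_apply A B B', ← IsScalarTower.algebraMap_apply B B' C',
      ← IsScalarTower.algebraMap_apply A B C']
  exact isLCI_trans (B := B') (isLCI_away b B')
    (isLCI_of_isStandardSmooth (A := A) (isLCI_trans (A := A) (B := C) h (isLCI_away (algebraMap B C b) C')))

end LCI

end Groth.Agent.CILib
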