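import Groth.Agent.CILib.NhdLocal
import Groth.Agent.RegHomLib.Basic
import Groth.Agent.CILib.LCIPoint

/-!
Flat maps between smooth algebras have complete intersection fibres.
-/

set_option autoImplicit false
set_option backward.isDefEq.respectTransparency false

universe u

open IsLocalRing TensorProduct

namespace Groth.Agent.CILib

theorem ringKrullDim_eq_add_of_flat {R S : Type u} [CommRing R] [CommRing S] [IsLocalRing R] [IsLocalRing S]
    [IsNoetherianRing R] [IsNoetherianRing S] [Algebra R S] [IsLocalHom (algebraMap R S)] [Module.Flat R S] :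
    ringKrullDim S = ringKrullDim R + ringKrullDim (S ⧸ (maximalIdeal R).map (algebraMap R S)) := by
  let I := (maximalIdeal R).map (algebraMap R S)
  have hI : I ≤ maximalIdeal S := IsLocalRing.map_maximalIdeal_le _
  haveI : Nontrivial (S ⧸ I) := Ideal.Quotient.nontrivial_iff.2 fun h =>
    (maximalIdeal.isMaximal S).ne_top (top_le_iff.1 (h ▸ hI))
  haveI : IsLocalRing (S ⧸ I) := .of_surjective' _ Ideal.Quotient.mk_surjective
  haveI : (maximalIdeal S).LiesOver (maximalIdeal R) := ⟨(IsLocalRing.maximalIdeal_comap (algebraMap R S)).symm⟩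
  have h := Ideal.height_eq_height_add_of_liesOver_of_hasGoingDown (maximalIdeal R) (maximalIdeal S)
  have hmap : (maximalIdeal S).map (Ideal.Quotient.mk I) = maximalIdeal (S ⧸ I) :=
    IsLocalRing.eq_maximalIdeal (Ideal.IsMaximal.map_of_surjective_of_ker_le Ideal.Quotient.mk_surjective
      (by rw [Ideal.mk_ker]; exact hI))
  rw [hmap] at h
  rw [← maximalIdeal_height_eq_ringKrullDim, ← maximalIdeal_height_eq_ringKrullDim,
    ← maximalIdeal_height_eq_ringKrullDim, h]
  rfl

theorem ringKrullDim_atPrime_eq_add {A B : Type u} [CommRing A] [CommRing B] [Algebra A B] [IsNoetherianRing A]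
    [IsNoetherianRing B] [Module.Flat A B] (q : Ideal B) [q.IsPrime] (p : Ideal A) [p.IsPrime]
    (hp : p = q.comap (algebraMap A B)) :
    ringKrullDim (Localization.AtPrime q) = ringKrullDim (Localization.AtPrime p) +
      ringKrullDim (Localization.AtPrime q ⧸ p.map (algebraMap A (Localization.AtPrime q))) := by
  letI : Algebra (Localization.AtPrime p) (Localization.AtPrime q) :=
    (Localization.localRingHom p q (algebraMap A B) hp).toAlgebra
  haveI : IsScalarTower A (Localization.AtPrime p) (Localization.AtPrime q) := IsScalarTower.of_algebraMap_eq fun a =>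
    (IsScalarTower.algebraMap_apply A B (Localization.AtPrime q) a).trans
      (Localization.localRingHom_to_map p q (algebraMap A B) hp a).symm
  haveI : IsLocalHom (algebraMap (Localization.AtPrime p) (Localization.AtPrime q)) :=
    Localization.isLocalHom_localRingHom p q (algebraMap A B) hp
  haveI : Module.Flat A (Localization.AtPrime q) := Module.Flat.trans A B (Localization.AtPrime q)
  haveI : Module.Flat (Localization.AtPrime p) (Localization.AtPrime q) :=
    (Module.flat_iff_of_isLocalization (Localization.AtPrime p) p.primeCompl (Localization.AtPrime q)).2 inferInstance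
  rw [ringKrullDim_eq_add_of_flat (R := Localization.AtPrime p) (S := Localization.AtPrime q),
    ← Localization.AtPrime.map_eq_maximalIdeal, Ideal.map_map, ← IsScalarTower.algebraMap_eq]

theorem cutBy_atPrime_of_regular {k P B : Type u} [Field k] [CommRing P] [CommRing B] [Algebra k P] [Algebra k B]
    [Algebra.FiniteType k P] [IsRegularRing P] [IsRegularRing B] (φ : P →ₐ[k] B) (hφ : Function.Surjective φ)
    (q : Ideal B) [q.IsPrime] [(q.comap φ.toRingHom).IsPrime] :
    CutBy (Localization.localRingHom (q.comap φ.toRingHom) q φ.toRingHom rfl) := by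
  haveI : IsRegularLocalRing (Localization.AtPrime (q.comap φ.toRingHom)) :=
    IsRegularRing.isRegularLocalRing_localization _
  haveI : IsRegularLocalRing (Localization.AtPrime q) := IsRegularRing.isRegularLocalRing_localization _
  haveI : Algebra.FiniteType k B := Algebra.FiniteType.of_surjective φ hφ
  haveI : Algebra.EssFiniteType k (Localization.AtPrime (q.comap φ.toRingHom)) :=
    Algebra.EssFiniteType.comp k P _
  haveI : Algebra.EssFiniteType k (Localization.AtPrime q) := Algebra.EssFiniteType.comp k B _
  let π : Localization.AtPrime (q.comap φ.toRingHom) →ₐ[k] Localization.AtPrime q :=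
    { toRingHom := Localization.localRingHom (q.comap φ.toRingHom) q φ.toRingHom rfl
      commutes' := fun a => by
        show Localization.localRingHom (q.comap φ.toRingHom) q φ.toRingHom rfl _ = _
        rw [IsScalarTower.algebraMap_apply k P, Localization.localRingHom_to_map,
          IsScalarTower.algebraMap_apply k B (Localization.AtPrime q), ← φ.commutes]
        rfl }
  refine (cutBy_iff_cutBy π (AlgHom.id k (Localization.AtPrime q)) (CMGraded.localRingHom_surjective hφ _ q rfl)
    Function.surjective_id).2 ⟨0, ⟨Fin.elim0, ?_⟩, ?_⟩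
  · rw [Set.range_eq_empty, Ideal.span_empty]
    exact (RingHom.injective_iff_ker_eq_bot _).1 Function.injective_id
  · rw [Nat.cast_zero, add_zero]

/-- The fibre of a flat map between regular algebras is a complete intersection. -/
theorem isCIOver_fibre_of_regular {k A B : Type u} [Field k] [CommRing A] [CommRing B] [Algebra k A] [Algebra k B]
    [Algebra A B] [IsScalarTower k A B] [Algebra.FiniteType k A] [Algebra.FiniteType A B] [Module.Flat A B]
    [IsRegularRing A] [IsRegularRing B] (p : Ideal A) [p.IsPrime] (Q : Ideal (p.Fiber B)) [Q.IsPrime] :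
    Synt.IsCIOver p.ResidueField (Localization.AtPrime Q) := by
  obtain ⟨n, φ, hφ⟩ := Algebra.FiniteType.iff_quotient_mvPolynomial''.1 ‹Algebra.FiniteType A B›
  haveI : Algebra.Smooth A (MvPolynomial (Fin n) A) := ⟨inferInstance, inferInstance⟩
  haveI : IsRegularRing (MvPolynomial (Fin n) A) := RegHomLib.isRegularRing_of_smooth A (MvPolynomial (Fin n) A)
  haveI : Algebra.FiniteType k (MvPolynomial (Fin n) A) := Algebra.FiniteType.trans ‹Algebra.FiniteType k A› inferInstance
  let q := Q.comap (Algebra.TensorProduct.includeRight : B →ₐ[A] p.Fiber B).toRingHom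
  haveI : q.IsPrime := Ideal.IsPrime.comap _
  have hp : p = q.comap (algebraMap A B) := by
    ext r
    show r ∈ p ↔ (Algebra.TensorProduct.includeRight : B →ₐ[A] p.Fiber B) (algebraMap A B r) ∈ Q
    rw [AlgHom.commutes]
    exact SetLike.ext_iff.1 (Ideal.LiesOver.over (P := Q) (p := p)) r
  haveI : (q.comap φ.toRingHom).IsPrime := Ideal.IsPrime.comap _
  have hp' : (q.comap φ.toRingHom).comap (algebraMap A (MvPolynomial (Fin n) A)) = p := by
    ext a
    show φ (algebraMap A (MvPolynomial (Fin n) A) a) ∈ q ↔ _
    rw [φ.commutes, hp]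
    rfl
  have hcut : CutBy (Localization.localRingHom (q.comap φ.toRingHom) q φ.toRingHom rfl) :=
    cutBy_atPrime_of_regular (k := k) (φ.restrictScalars k) hφ q
  obtain ⟨c, ⟨f, hf⟩, hd⟩ := hcut
  obtain ⟨ψ, hψ, hkerψ, hψm⟩ := exists_fibre_presentation p φ hφ
  haveI : (Q.comap ψ.toRingHom).IsPrime := Ideal.IsPrime.comap _
  have hQ' : (Q.comap ψ.toRingHom).comap (MvPolynomial.map (algebraMap A p.ResidueField)) = q.comap φ.toRingHom := by
    ext x
    show ψ (MvPolynomial.map _ x) ∈ Q ↔ ((1 : p.ResidueField) ⊗ₜ[A] φ x) ∈ Q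
    rw [hψm]
  obtain ⟨Q'', _, hQ'', e, he⟩ := exists_closedFibre_equiv (q.comap φ.toRingHom) p hp'
  obtain rfl : Q'' = Q.comap ψ.toRingHom := eq_of_comap_map_eq p _ _ (hQ''.trans hQ'.symm)
  refine (isCIOver_atPrime_iff ψ hψ Q).2 ⟨c, ?_, ?_⟩
  · let L := Localization.AtPrime (Q.comap ψ.toRingHom)
    let P' := Localization.AtPrime (q.comap φ.toRingHom)
    let m : P' →+* L := Localization.localRingHom (q.comap φ.toRingHom) (Q.comap ψ.toRingHom)
      (MvPolynomial.map (algebraMap A p.ResidueField)) hQ'.symm
    refine ⟨fun i => m (f i), ?_⟩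
    have hk : RingHom.ker (Localization.localRingHom (q.comap φ.toRingHom) q φ.toRingHom rfl) =
        Ideal.span (Set.range f) := hf
    rw [CMGraded.ker_localRingHom hφ _ q rfl] at hk
    rw [CMGraded.ker_localRingHom hψ _ Q rfl, hkerψ, show Set.range (fun i => m (f i)) = m '' Set.range f from Set.range_comp m f,
      ← Ideal.map_span, ← hk, Ideal.map_map, Ideal.map_map]
    congr 1
    exact RingHom.ext fun x => (Localization.localRingHom_to_map _ _ _ hQ'.symm x).symm
  · have h1 := ringKrullDim_atPrime_eq_add (q.comap φ.toRingHom) p hp'.symm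
    have h2 := ringKrullDim_atPrime_eq_add q p hp
    rw [← ringKrullDim_eq_of_ringEquiv (S := Localization.AtPrime (q.comap φ.toRingHom) ⧸ p.map (algebraMap A (Localization.AtPrime (q.comap φ.toRingHom)))) e] at h1
    obtain ⟨eQ⟩ : Nonempty (Localization.AtPrime Q ≃+* Localization.AtPrime q ⧸ p.map (algebraMap A (Localization.AtPrime q))) :=
      ⟨((Ideal.Fiber.algEquivAux₂ p Q).toRingEquiv).trans (Ideal.quotEquivOfEq (by
        rw [Ideal.map_map, ← IsScalarTower.algebraMap_eq]; rfl))⟩
    rw [← ringKrullDim_eq_of_ringEquiv eQ] at h2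
    have hd' : ringKrullDim (Localization.AtPrime (q.comap φ.toRingHom)) =
        ringKrullDim (Localization.AtPrime q) + (c : WithBot ℕ∞) := hd
    rw [h1, h2, add_assoc] at hd'
    haveI : Algebra.FiniteType p.ResidueField (p.Fiber B) := Algebra.FiniteType.of_surjective ψ hψ
    haveI : IsNoetherianRing (p.Fiber B) := Algebra.FiniteType.isNoetherianRing p.ResidueField _
    haveI : IsNoetherianRing A := Algebra.FiniteType.isNoetherianRing k A
    obtain ⟨a, ha⟩ := exists_nat_ringKrullDim' (Localization.AtPrime p)
    obtain ⟨b, hb⟩ := exists_nat_ringKrullDim' (Localization.AtPrime (Q.comap ψ.toRingHom))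
    obtain ⟨b', hb'⟩ := exists_nat_ringKrullDim' (Localization.AtPrime Q)
    rw [ha, hb, hb'] at hd'
    rw [hb, hb']
    have : a + b = a + (b' + c) := by exact_mod_cast hd'
    exact_mod_cast (by omega : b = b' + c)

end Groth.Agent.CILib

namespace Groth.Agent.CILib

section Reduce

attribute [local instance] Algebra.TensorProduct.rightAlgebra

theorem isLCIOver_fibre_of_smooth {R A B : Type u} [CommRing R] [CommRing A] [CommRing B] [Algebra R A] [Algebra R B]
    [Algebra A B] [IsScalarTower R A B] [Algebra.Smooth R A] [Algebra.Smooth R B] [Module.Flat A B] (p : Ideal A) [p.IsPrime] :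
    Synt.IsLCIOver p.ResidueField (p.Fiber B) := by
  let r := p.comap (algebraMap R A)
  haveI : r.IsPrime := Ideal.IsPrime.comap _
  let k := r.ResidueField
  let A' := k ⊗[R] A
  haveI : IsScalarTower R A A' := .of_algebraMap_eq fun x => by
    show algebraMap R (k ⊗[R] A) x = (1 : k) ⊗ₜ[R] algebraMap R A x
    rw [Algebra.TensorProduct.algebraMap_apply, Algebra.algebraMap_eq_smul_one, Algebra.algebraMap_eq_smul_one, smul_tmul]
  let B' := A' ⊗[A] B
  haveI : IsScalarTower k A' B' := inferInstance
  haveI : Algebra.FiniteType A B := Algebra.FiniteType.of_restrictScalars_finiteType R A B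
  haveI : IsRegularRing A' := RegHomLib.isRegularRing_of_smooth k A'
  haveI : IsRegularRing (k ⊗[R] B) := RegHomLib.isRegularRing_of_smooth k (k ⊗[R] B)
  haveI : IsRegularRing B' :=
    IsRegularRing.of_ringEquiv (R := k ⊗[R] B) (Algebra.IsPushout.cancelBaseChangeAlg R k A A' B).symm.toRingEquiv
  let φk : k →+* p.ResidueField := Ideal.ResidueField.map r p (algebraMap R A) rfl
  let χ : A' →+* p.ResidueField := (Algebra.TensorProduct.lift
    (show k →ₐ[R] p.ResidueField from
      { toRingHom := φk
        commutes' := fun x => by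
          show φk (algebraMap R k x) = _
          rw [Ideal.ResidueField.map_algebraMap, IsScalarTower.algebraMap_apply R A p.ResidueField] })
    (IsScalarTower.toAlgHom R A p.ResidueField) fun _ _ => Commute.all _ _).toRingHom
  have hχ : ∀ a, χ ((1 : k) ⊗ₜ[R] a) = algebraMap A p.ResidueField a := fun a => by
    show Algebra.TensorProduct.lift _ _ _ ((1 : k) ⊗ₜ[R] a) = _
    rw [Algebra.TensorProduct.lift_tmul, map_one, one_mul]
    rfl
  let p' : Ideal A' := RingHom.ker χ
  haveI : p'.IsPrime := RingHom.ker_isPrime χ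
  let σ₀ : p'.ResidueField →+* p.ResidueField := Ideal.ResidueField.lift p' χ le_rfl
    (fun x hx => isUnit_iff_ne_zero.2 fun h0 => hx (RingHom.mem_ker.2 h0))
  have hσ₀ : ∀ x, σ₀ (algebraMap A' p'.ResidueField x) = χ x := fun x => Ideal.ResidueField.lift_algebraMap ..
  have hsurj : Function.Surjective σ₀ := by
    intro y
    obtain ⟨u, ⟨v, hv⟩, rfl⟩ := IsLocalization.exists_mk'_eq (nonZeroDivisors (A ⧸ p)) y
    obtain ⟨u, rfl⟩ := Ideal.Quotient.mk_surjective u
    obtain ⟨v, rfl⟩ := Ideal.Quotient.mk_surjective v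
    refine ⟨algebraMap A' p'.ResidueField ((1 : k) ⊗ₜ[R] u) / algebraMap A' p'.ResidueField ((1 : k) ⊗ₜ[R] v), ?_⟩
    rw [map_div₀, hσ₀, hσ₀, hχ, hχ, IsFractionRing.mk'_eq_div, IsScalarTower.algebraMap_apply A (A ⧸ p) p.ResidueField,
      IsScalarTower.algebraMap_apply A (A ⧸ p) p.ResidueField, Ideal.Quotient.algebraMap_eq]
  let σ : p'.ResidueField ≃+* p.ResidueField := RingEquiv.ofBijective σ₀ ⟨σ₀.injective, hsurj⟩
  haveI : IsScalarTower A A' p'.ResidueField := inferInstance
  let σA : p'.ResidueField ≃ₐ[A] p.ResidueField := AlgEquiv.ofRingEquiv (f := σ) fun a => by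
    show σ₀ (algebraMap A p'.ResidueField a) = algebraMap A p.ResidueField a
    rw [IsScalarTower.algebraMap_apply A A' p'.ResidueField, hσ₀]
    exact hχ a
  have h : Synt.IsLCIOver p'.ResidueField (p'.Fiber B') := by
    haveI : Algebra.FiniteType p'.ResidueField (p'.Fiber B') := inferInstance
    exact isLCIOver_of_forall_maximal fun Q _ => isCIOver_fibre_of_regular (k := k) p' Q
  let ε₁ : p'.Fiber B' ≃ₐ[p'.ResidueField] p'.ResidueField ⊗[A] B :=
    Algebra.TensorProduct.cancelBaseChange A A' p'.ResidueField p'.ResidueField B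
  refine isLCIOver_of_semiequiv σ (ε₁.toRingEquiv.trans
    (Algebra.TensorProduct.congr σA (AlgEquiv.refl : B ≃ₐ[A] B)).toRingEquiv) (fun a => ?_) h
  rw [RingEquiv.trans_apply, show ε₁.toRingEquiv (algebraMap p'.ResidueField (p'.Fiber B') a) = _ from ε₁.commutes a]
  show Algebra.TensorProduct.congr σA AlgEquiv.refl (algebraMap _ _ a) = _
  rw [Algebra.TensorProduct.algebraMap_apply, Algebra.TensorProduct.algebraMap_apply, Algebra.TensorProduct.congr_apply,
    Algebra.TensorProduct.map_tmul]
  rfl

theorem isSyntomic_of_flat_of_smooth (R A B : Type u) [CommRing R] [CommRing A] [CommRing B] [Algebra R A] [Algebra R B]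
    [Algebra A B] [IsScalarTower R A B] [Algebra.Smooth R A] [Algebra.Smooth R B] [Module.Flat A B] :
    Synt.IsSyntomic A B :=
  ⟨inferInstance, Algebra.FinitePresentation.of_restrict_scalars_finitePresentation R A B,
    fun p => isLCIOver_fibre_of_smooth (R := R) p.asIdeal⟩

end Reduce

end Groth.Agent.CILib
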