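import Groth.Agent.CILib.LCIFlat
import Groth.Agent.CMFlatLib.Fibre
import Groth.Agent.Comodule.ChevalleyLocal

/-!
Flat quotients of smooth algebras by Koszul regular sequences are syntomic.
-/

set_option autoImplicit false
set_option backward.isDefEq.respectTransparency false

universe u

open IsLocalRing TensorProduct

namespace Groth.Agent.CILib

/-- The local ring of the fibre is a quotient of the local ring, along the canonical map. -/
theorem exists_fibreLocal_equiv {A B : Type u} [CommRing A] [CommRing B] [Algebra A B] (p : Ideal A) [p.IsPrime]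
    (q : Ideal B) [q.IsPrime] (hqp : q.comap (algebraMap A B) = p) (Q : Ideal (p.Fiber B)) [Q.IsPrime]
    (hQ : Q.comap (Algebra.TensorProduct.includeRight : B →ₐ[A] p.Fiber B).toRingHom = q) :
    ∃ e : Localization.AtPrime Q ≃+* Localization.AtPrime q ⧸ p.map (algebraMap A (Localization.AtPrime q)),
      ∀ x : B, e (algebraMap (p.Fiber B) (Localization.AtPrime Q) ((1 : p.ResidueField) ⊗ₜ[A] x)) =
        Ideal.Quotient.mk _ (algebraMap B (Localization.AtPrime q) x) := by
  let ι : B →+* p.Fiber B := (Algebra.TensorProduct.includeRight : B →ₐ[A] p.Fiber B).toRingHom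
  let φ := Localization.localRingHom q Q ι hQ.symm
  have hone : ∀ a : A, ι (algebraMap A B a) = algebraMap A (p.Fiber B) a := fun a =>
    (Algebra.TensorProduct.includeRight : B →ₐ[A] p.Fiber B).commutes a
  have hnotq : ∀ r ∉ p, algebraMap A B r ∉ q := fun r hr h => hr (hqp.le h)
  have hclear : ∀ z : p.Fiber B, ∃ r ∉ p, ∃ b : B, ι (algebraMap A B r) * z = ι b := fun z => by
    obtain ⟨r, hr, b, e⟩ := Ideal.Fiber.exists_smul_eq_one_tmul p z
    refine ⟨r, hr, b, ?_⟩
    rw [hone, ← Algebra.smul_def, e]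
    rfl
  have hmemQ : ∀ b : B, ι b ∈ Q ↔ b ∈ q := fun b => by rw [← hQ]; rfl
  have hsurj : Function.Surjective φ := fun z => by
    obtain ⟨x, ⟨s, hs⟩, rfl⟩ := IsLocalization.exists_mk'_eq Q.primeCompl z
    obtain ⟨r, hr, b, hb⟩ := hclear x
    obtain ⟨r', hr', b', hb'⟩ := hclear s
    have hb'q : b' ∉ q := fun h => by
      have h1 : ι (algebraMap A B r') * s ∈ Q := hb' ▸ (hmemQ b').2 h
      rcases Ideal.IsPrime.mem_or_mem inferInstance h1 with h2 | h2
      · exact hnotq r' hr' ((hmemQ _).1 h2)
      · exact hs h2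
    refine ⟨IsLocalization.mk' _ (b * algebraMap A B r') (⟨b' * algebraMap A B r, fun h =>
      ((inferInstance : q.IsPrime).mem_or_mem h).elim hb'q (hnotq r hr)⟩ : q.primeCompl), ?_⟩
    rw [Localization.localRingHom_mk']
    refine IsLocalization.mk'_eq_of_eq ?_
    show ι (b' * algebraMap A B r) * x = s * ι (b * algebraMap A B r')
    rw [map_mul, map_mul, ← hb, ← hb']
    ring
  have hker : RingHom.ker φ = p.map (algebraMap A (Localization.AtPrime q)) := by
    rw [IsScalarTower.algebraMap_eq A B (Localization.AtPrime q), ← Ideal.map_map]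
    refine le_antisymm (fun z hz => ?_) (Ideal.map_le_iff_le_comap.2 (Ideal.map_le_iff_le_comap.2 fun a ha => ?_))
    · obtain ⟨b, ⟨s, hs⟩, rfl⟩ := IsLocalization.exists_mk'_eq q.primeCompl z
      rw [RingHom.mem_ker, Localization.localRingHom_mk', IsLocalization.mk'_eq_zero_iff] at hz
      obtain ⟨⟨u, hu⟩, hu0⟩ := hz
      obtain ⟨r, hr, b', hb'⟩ := hclear u
      have hb'q : b' ∉ q := fun h => by
        have h1 : ι (algebraMap A B r) * u ∈ Q := hb' ▸ (hmemQ b').2 h
        rcases Ideal.IsPrime.mem_or_mem inferInstance h1 with h2 | h2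
        · exact hnotq r hr ((hmemQ _).1 h2)
        · exact hu h2
      have h0 : ι (b' * b) = 0 := by rw [map_mul, ← hb', mul_assoc, hu0, mul_zero]
      obtain ⟨r', hr', hmem⟩ := QFCoverLib.exists_mul_mem_of_tmul_eq_zero p (z := b' * b) h0
      rw [IsLocalization.mk'_mem_map_algebraMap_iff]
      exact ⟨algebraMap A B r' * b', fun h => ((inferInstance : q.IsPrime).mem_or_mem h).elim (hnotq r' hr') hb'q,
        by rw [mul_assoc]; exact hmem⟩
    · show φ (algebraMap B (Localization.AtPrime q) (algebraMap A B a)) = 0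
      rw [Localization.localRingHom_to_map, hone, IsScalarTower.algebraMap_apply A p.ResidueField (p.Fiber B),
        Ideal.algebraMap_residueField_eq_zero.2 ha, map_zero, map_zero]
  let e₀ := (Ideal.quotEquivOfEq hker.symm).trans (RingHom.quotientKerEquivOfSurjective hsurj)
  refine ⟨e₀.symm, fun x => ?_⟩
  rw [RingEquiv.symm_apply_eq]
  show _ = φ (algebraMap B (Localization.AtPrime q) x)
  rw [Localization.localRingHom_to_map]
  rfl

/-- A flat quotient of a smooth algebra by a Koszul regular sequence is syntomic. -/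
theorem isSyntomic_of_smooth_quotient {R C B : Type u} [CommRing R] [CommRing C] [CommRing B] [Algebra R C]
    [Algebra R B] [Algebra.Smooth R C] (ρ : C →ₐ[R] B) (hρ : Function.Surjective ρ) (l : List C)
    (hl : LCI.IsKoszulRegularSeq C l) (hker : RingHom.ker ρ.toRingHom = Ideal.ofList l) [Module.Flat R B] :
    Synt.IsSyntomic R B := by
  haveI : Algebra.FiniteType R B := Algebra.FiniteType.of_surjective ρ hρ
  refine ⟨inferInstance, Algebra.FinitePresentation.of_surjective hρ (hker ▸ Submodule.fg_span l.finite_toSet),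
    fun p => isLCIOver_of_forall_maximal fun Q _ => ?_⟩
  let K := p.asIdeal.ResidueField
  let ρK : p.asIdeal.Fiber C →ₐ[K] p.asIdeal.Fiber B := Algebra.TensorProduct.map (AlgHom.id K K) ρ
  have hρK : Function.Surjective ρK := by
    show Function.Surjective (TensorProduct.map (LinearMap.id : K →ₗ[R] K) ρ.toLinearMap)
    exact TensorProduct.map_surjective Function.surjective_id hρ
  have hkerK : RingHom.ker ρK.toRingHom = (RingHom.ker ρ.toRingHom).map
      (Algebra.TensorProduct.includeRight : C →ₐ[R] p.asIdeal.Fiber C).toRingHom :=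
    Algebra.TensorProduct.lTensor_ker ρ hρ
  haveI : (Q.comap ρK.toRingHom).IsPrime := Ideal.IsPrime.comap _
  haveI : ((Q.comap (Algebra.TensorProduct.includeRight : B →ₐ[R] p.asIdeal.Fiber B).toRingHom).comap ρ.toRingHom).IsPrime :=
    haveI : (Q.comap (Algebra.TensorProduct.includeRight : B →ₐ[R] p.asIdeal.Fiber B).toRingHom).IsPrime :=
      Ideal.IsPrime.comap _
    Ideal.IsPrime.comap _
  haveI : (Q.comap (Algebra.TensorProduct.includeRight : B →ₐ[R] p.asIdeal.Fiber B).toRingHom).IsPrime :=
    Ideal.IsPrime.comap _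
  haveI hfl := flat_atPrime_quotient_map ρ hρ (Q.comap (Algebra.TensorProduct.includeRight : B →ₐ[R] p.asIdeal.Fiber B).toRingHom)
  have hr : (Q.comap ρK.toRingHom).comap (Algebra.TensorProduct.includeRight : C →ₐ[R] p.asIdeal.Fiber C).toRingHom =
      (Q.comap (Algebra.TensorProduct.includeRight : B →ₐ[R] p.asIdeal.Fiber B).toRingHom).comap ρ.toRingHom := by
    ext x
    show ρK ((1 : K) ⊗ₜ[R] x) ∈ Q ↔ ((1 : K) ⊗ₜ[R] ρ x) ∈ Q
    rfl
  have hp : ((Q.comap (Algebra.TensorProduct.includeRight : B →ₐ[R] p.asIdeal.Fiber B).toRingHom).comap ρ.toRingHom).comap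
      (algebraMap R C) = p.asIdeal := by
    ext a
    show (Algebra.TensorProduct.includeRight : B →ₐ[R] p.asIdeal.Fiber B) (ρ (algebraMap R C a)) ∈ Q ↔ a ∈ p.asIdeal
    rw [ρ.commutes, AlgHom.commutes]
    exact (SetLike.ext_iff.1 (Ideal.LiesOver.over (P := Q) (p := p.asIdeal)) a).symm
  obtain ⟨e, he⟩ := exists_fibreLocal_equiv p.asIdeal _ hp (Q.comap ρK.toRingHom) hr
  have hkr : RingHom.ker ρ.toRingHom ≤
      (Q.comap (Algebra.TensorProduct.includeRight : B →ₐ[R] p.asIdeal.Fiber B).toRingHom).comap ρ.toRingHom :=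
    fun x hx => by rw [Ideal.mem_comap, show ρ.toRingHom x = 0 from hx]; exact zero_mem _
  haveI : Algebra.FiniteType K (p.asIdeal.Fiber C) := inferInstance
  haveI := Comodule.ChevalleyLocal.isRegularLocalRing_of_smooth K (Q.comap ρK.toRingHom)
  haveI : Module.Flat C (Localization.AtPrime ((Q.comap (Algebra.TensorProduct.includeRight : B →ₐ[R] p.asIdeal.Fiber B).toRingHom).comap ρ.toRingHom)) := IsLocalization.flat (Localization.AtPrime ((Q.comap (Algebra.TensorProduct.includeRight : B →ₐ[R] p.asIdeal.Fiber B).toRingHom).comap ρ.toRingHom))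
    ((Q.comap (Algebra.TensorProduct.includeRight : B →ₐ[R] p.asIdeal.Fiber B).toRingHom).comap ρ.toRingHom).primeCompl
  obtain ⟨rs, hw, hrs⟩ := exists_regular_of_flat p.asIdeal (l.map (algebraMap C (Localization.AtPrime ((Q.comap (Algebra.TensorProduct.includeRight : B →ₐ[R] p.asIdeal.Fiber B).toRingHom).comap ρ.toRingHom))))
    (Groth.Agent.RelDivLib.isKoszulRegularSeq_flat (S := (Localization.AtPrime ((Q.comap (Algebra.TensorProduct.includeRight : B →ₐ[R] p.asIdeal.Fiber B).toRingHom).comap ρ.toRingHom))) hl) ((RingHom.ker ρ.toRingHom).map (algebraMap C (Localization.AtPrime ((Q.comap (Algebra.TensorProduct.includeRight : B →ₐ[R] p.asIdeal.Fiber B).toRingHom).comap ρ.toRingHom))))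
    (by rw [hker, Ideal.map_ofList]) ((Ideal.map_mono hkr).trans (Localization.AtPrime.map_eq_maximalIdeal
      (I := (Q.comap (Algebra.TensorProduct.includeRight : B →ₐ[R] p.asIdeal.Fiber B).toRingHom).comap ρ.toRingHom)).le) (T := Localization.AtPrime (Q.comap ρK.toRingHom)) e
  let π : Localization.AtPrime (Q.comap ρK.toRingHom) →ₐ[K] Localization.AtPrime Q :=
    { toRingHom := Localization.localRingHom (Q.comap ρK.toRingHom) Q ρK.toRingHom rfl
      commutes' := fun a => by
        show Localization.localRingHom (Q.comap ρK.toRingHom) Q ρK.toRingHom rfl _ = _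
        rw [IsScalarTower.algebraMap_apply K (p.asIdeal.Fiber C) (Localization.AtPrime (Q.comap ρK.toRingHom)),
          Localization.localRingHom_to_map, IsScalarTower.algebraMap_apply K (p.asIdeal.Fiber B) (Localization.AtPrime Q),
          ← ρK.commutes]
        rfl }
  haveI : Algebra.EssFiniteType K (Localization.AtPrime (Q.comap ρK.toRingHom)) :=
    Algebra.EssFiniteType.comp K (p.asIdeal.Fiber C) _
  have hπ : Function.Surjective π := CMGraded.localRingHom_surjective hρK (Q.comap ρK.toRingHom) Q rfl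
  refine (isCIOver_iff_cutBy (k := K) (S := Localization.AtPrime Q) (R := Localization.AtPrime (Q.comap ρK.toRingHom)) π hπ).2 ?_
  have hk : RingHom.ker π.toRingHom = Ideal.ofList rs := by
    show RingHom.ker (Localization.localRingHom (Q.comap ρK.toRingHom) Q ρK.toRingHom rfl) = _
    rw [CMGraded.ker_localRingHom hρK _ Q rfl, hkerK, hrs, Ideal.map_map, Ideal.map_map, Ideal.map_map]
    congr 1
    exact RingHom.ext fun x => (e.eq_symm_apply).2 (he x)
  refine cutBy_of_isRegular _ (CMGraded.localRingHom_surjective hρK _ Q rfl) rs ⟨hw, fun htop => ?_⟩ hk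
  rw [smul_eq_mul, Ideal.mul_top] at htop
  exact RingHom.ker_ne_top _ (hk.trans htop.symm)

end Groth.Agent.CILib
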