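import Groth.Agent.CILib.KoszulCalc
import Groth.Agent.CILib.LCIFlat

/-!
Koszul-regular ideals under a quotient by a Koszul-regular ideal: composition and cancellation.
-/

set_option autoImplicit false
set_option linter.style.haveILetI false
set_option backward.isDefEq.respectTransparency false

universe u

open CategoryTheory

noncomputable section

namespace Groth.Agent.CILib

variable {A : Type u} [CommRing A]

/-- `l` is a Koszul-regular list of generators of `I` over every flat algebra inverting `g`. -/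
def NearGen (I : Ideal A) (g : A) (l : List A) : Prop :=
  ∀ (L : Type u) [CommRing L] [Algebra A L] [Module.Flat A L], IsUnit (algebraMap A L g) →
    LCI.IsKoszulRegularSeq L (l.map (algebraMap A L)) ∧ I.map (algebraMap A L) = Ideal.ofList (l.map (algebraMap A L))

theorem NearGen.mul {I : Ideal A} {g : A} {l : List A} (h : NearGen I g l) (b : A) : NearGen I (g * b) l :=
  fun L _ _ _ hu => h L (isUnit_of_mul_isUnit_left (by rwa [← map_mul]))

theorem exists_nearGen {I : Ideal A} (hI : LCI.IsKoszulRegularIdeal I) (p : Ideal A) [p.IsPrime] (hp : I ≤ p) :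
    ∃ g, g ∉ p ∧ ∃ l : List A, (∀ a ∈ l, a ∈ I) ∧ NearGen I g l := by
  obtain ⟨g, hg, l, hl, hlI⟩ := hI ⟨p, inferInstance⟩ hp
  let L₀ := Localization.Away g
  have hsel : ∀ x : L₀, ∃ a : A, x ∈ Ideal.span {y | y ∈ l} →
      a ∈ I ∧ ∃ v : L₀, IsUnit v ∧ algebraMap A L₀ a = v * x := by
    intro x
    by_cases hx : x ∈ Ideal.span {y | y ∈ l}
    · obtain ⟨⟨a, s⟩, hs⟩ := (IsLocalization.mem_map_algebraMap_iff (Submonoid.powers g) L₀).1 (hlI.symm ▸ hx)
      exact ⟨a.1, fun _ => ⟨a.2, algebraMap A L₀ s.1, IsLocalization.map_units L₀ s, by rw [← hs, mul_comm]⟩⟩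
    · exact ⟨0, fun h => absurd h hx⟩
  choose num hnum using hsel
  have hnum' : ∀ x ∈ l, num x ∈ I ∧ ∃ v : L₀, IsUnit v ∧ algebraMap A L₀ (num x) = v * x :=
    fun x hx => hnum x (Ideal.subset_span hx)
  let l' := (l.map num).map (algebraMap A L₀)
  have hspan : Ideal.ofList l' = Ideal.ofList l := by
    refine le_antisymm (Ideal.span_le.2 fun y hy => ?_) (Ideal.span_le.2 fun x hx => ?_)
    · obtain ⟨a, ha, rfl⟩ := List.mem_map.1 (show y ∈ l' from hy)
      obtain ⟨x, hx, rfl⟩ := List.mem_map.1 ha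
      obtain ⟨-, v, -, he⟩ := hnum' x hx
      rw [SetLike.mem_coe, he]
      exact Ideal.mul_mem_left _ _ (Ideal.subset_span hx)
    · obtain ⟨-, v, hv, he⟩ := hnum' x hx
      rw [SetLike.mem_coe, ← Ideal.unit_mul_mem_iff_mem _ hv, ← he]
      exact Ideal.subset_span (List.mem_map_of_mem (List.mem_map_of_mem hx))
  have hl' : LCI.IsKoszulRegularSeq L₀ l' := isKoszulRegularSeq_of_ofList_eq hl hspan (by simp [l'])
  refine ⟨g, hg, l.map num, fun a ha => ?_, fun L _ _ _ hu => ?_⟩
  · obtain ⟨x, hx, rfl⟩ := List.mem_map.1 ha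
    exact (hnum' x hx).1
  · letI : Algebra L₀ L := (IsLocalization.Away.lift g hu).toAlgebra
    haveI : IsScalarTower A L₀ L := .of_algebraMap_eq fun x => (IsLocalization.Away.lift_eq g hu x).symm
    haveI : Module.Flat L₀ L := (Module.flat_iff_of_isLocalization L₀ (Submonoid.powers g) L).2 inferInstance
    have hcomp : (l.map num).map (algebraMap A L) = l'.map (algebraMap L₀ L) := by
      simp only [l', List.map_map]
      exact List.map_congr_left fun x _ => IsScalarTower.algebraMap_apply A L₀ L (num x)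
    rw [hcomp]
    refine ⟨Groth.Agent.RelDivLib.isKoszulRegularSeq_flat hl', ?_⟩
    rw [IsScalarTower.algebraMap_eq A L₀ L, ← Ideal.map_map, hlI, ← Ideal.map_ofList]
    exact congrArg _ hspan.symm

theorem isKoszulRegularIdeal_of_nearGen {I : Ideal A}
    (h : ∀ (p : Ideal A) [p.IsPrime], I ≤ p → ∃ g, g ∉ p ∧ ∃ l : List A, NearGen I g l) :
    LCI.IsKoszulRegularIdeal I := by
  intro p hp
  obtain ⟨g, hg, l, hl⟩ := h p.asIdeal hp
  haveI : Module.Flat A (Localization.Away g) := IsLocalization.flat _ (Submonoid.powers g)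
  obtain ⟨h₁, h₂⟩ := hl (Localization.Away g) (IsLocalization.Away.algebraMap_isUnit g)
  exact ⟨g, hg, _, h₁, h₂⟩

/-- A finitely generated ideal locally generated by elements is generated by them nearby. -/
theorem exists_mul_mem_of_fg {I J : Ideal A} (hI : I.FG) (p : Ideal A) [p.IsPrime]
    (h : ∀ x ∈ I, ∃ c ∉ p, c * x ∈ J) : ∃ c ∉ p, ∀ x ∈ I, c * x ∈ J := by
  classical
  obtain ⟨t, rfl⟩ := hI
  induction t using Finset.induction_on with
  | empty => exact ⟨1, (Ideal.ne_top_iff_one p).1 (Ideal.IsPrime.ne_top ‹_›), fun x hx => by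
      simp only [Finset.coe_empty, Submodule.span_empty, Submodule.mem_bot] at hx
      simp [hx]⟩
  | @insert a t _ ih =>
    obtain ⟨c₁, hc₁, h₁⟩ := ih fun x hx => h x (Submodule.span_mono (by simp) hx)
    obtain ⟨c₂, hc₂, h₂⟩ := h a (Submodule.subset_span (by simp))
    refine ⟨c₁ * c₂, fun hmem => ((‹p.IsPrime›).mem_or_mem hmem).elim hc₁ hc₂, fun x hx => ?_⟩
    rw [Finset.coe_insert, Submodule.mem_span_insert] at hx
    obtain ⟨r, z, hz, rfl⟩ := hx
    rw [mul_add, smul_eq_mul, show c₁ * c₂ * (r * a) = c₁ * r * (c₂ * a) by ring,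
      show c₁ * c₂ * z = c₂ * (c₁ * z) by ring]
    exact add_mem (Ideal.mul_mem_left _ _ h₂) (Ideal.mul_mem_left _ _ (h₁ z hz))

/-- No element lies in the ideal of the others. -/
def Irred {ι : Type} (f : ι → A) : Prop := ∀ k, f k ∉ Ideal.span (f '' {k}ᶜ)

/-- In a local ring an irredundant family is no longer than any generating family. -/
theorem card_le_of_irred [IsLocalRing A] {ι : Type} [Fintype ι] (f : ι → A) (hf : Irred f) (l : List A)
    (h : Ideal.span (Set.range f) = Ideal.ofList l) : Fintype.card ι ≤ l.length := by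
  classical
  have hl : Ideal.ofList l = Ideal.span (Set.range l.get) := by
    unfold Ideal.ofList
    congr 1
    ext x
    simp [List.mem_iff_get]
  rw [hl] at h
  have h1 : ∀ i, ∃ M : Fin l.length → A, ∑ j, M j * l.get j = f i := fun i => by
    obtain ⟨c, hc⟩ := Ideal.mem_span_range_iff_exists_fun.1 (h ▸ Ideal.subset_span ⟨i, rfl⟩ :
      f i ∈ Ideal.span (Set.range l.get))
    exact ⟨c, hc⟩
  have h2 : ∀ j, ∃ N : ι → A, ∑ k, N k * f k = l.get j := fun j => by
    obtain ⟨c, hc⟩ := Ideal.mem_span_range_iff_exists_fun.1 (h.symm ▸ Ideal.subset_span ⟨j, rfl⟩ :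
      l.get j ∈ Ideal.span (Set.range f))
    exact ⟨c, hc⟩
  choose M hM using h1
  choose N hN using h2
  let P : Matrix ι ι A := Matrix.of M * Matrix.of N
  have hP : ∀ i, ∑ k, P i k * f k = f i := fun i => by
    calc ∑ k, P i k * f k = ∑ k, ∑ j, M i j * (N j k * f k) := by
          refine Finset.sum_congr rfl fun k _ => ?_
          simp only [P, Matrix.mul_apply, Matrix.of_apply, Finset.sum_mul, mul_assoc]
      _ = ∑ j, M i j * ∑ k, N j k * f k := by rw [Finset.sum_comm]; simp only [Finset.mul_sum]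
      _ = f i := by simp only [hN, hM]
  have hm : ∀ i k, IsLocalRing.residue A (P i k) = (1 : Matrix ι ι (IsLocalRing.ResidueField A)) i k := by
    intro i k
    by_contra hne
    have hu : IsUnit ((1 : Matrix ι ι A) i k - P i k) := by
      refine (IsLocalRing.residue_ne_zero_iff_isUnit _).1 ?_
      rw [map_sub, sub_ne_zero]
      refine fun he => hne ?_
      rw [← he]
      by_cases hik : i = k
      · subst hik; simp
      · simp [Matrix.one_apply_ne hik]
    apply hf k
    rw [← Ideal.unit_mul_mem_iff_mem _ hu]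
    have hz : ∑ x, ((1 : Matrix ι ι A) i x - P i x) * f x = 0 := by
      simp only [sub_mul, Finset.sum_sub_distrib, hP, Matrix.one_apply, ite_mul, one_mul, zero_mul,
        Finset.sum_ite_eq, Finset.mem_univ, if_true, sub_self]
    rw [← Finset.add_sum_erase _ _ (Finset.mem_univ k), add_eq_zero_iff_eq_neg] at hz
    rw [hz]
    refine neg_mem (Ideal.sum_mem _ fun x hx => Ideal.mul_mem_left _ _ (Ideal.subset_span ⟨x, ?_, rfl⟩))
    exact (Finset.ne_of_mem_erase hx)
  let φ := IsLocalRing.residue A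
  have hmat : ((Matrix.of M).map φ) * ((Matrix.of N).map φ) = (1 : Matrix ι ι (IsLocalRing.ResidueField A)) := by
    rw [← Matrix.map_mul]
    exact Matrix.ext hm
  have := Matrix.rank_mul_le_left ((Matrix.of M).map φ) ((Matrix.of N).map φ)
  rw [hmat, Matrix.rank_one] at this
  exact this.trans ((Matrix.rank_le_card_width _).trans (by simp))

/-- No element is locally in the ideal of the others plus the square of the prime. -/
def Sep {ι : Type} (f : ι → A) (p : Ideal A) : Prop :=
  ∀ k, ∀ c ∉ p, c * f k ∉ Ideal.span (f '' {k}ᶜ) ⊔ p ^ 2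

/-- Derivations with invertible Jacobian separate. -/
theorem sep_of_det {R : Type u} [CommRing R] [Algebra R A] {ι : Type} [Fintype ι] [DecidableEq ι] (f : ι → A)
    (p : Ideal A) [p.IsPrime] (hf : ∀ i, f i ∈ p) (D : ι → Derivation R A A)
    (hdet : (Matrix.of fun i k => D i (f k)).det ∉ p) : Sep f p := by
  intro k c hc hmem
  obtain ⟨y, hy, z, hz, hyz⟩ := Submodule.mem_sup.1 hmem
  let φ := Ideal.Quotient.mk p
  have hz' : ∀ i, φ (D i z) = 0 := fun i => by
    refine Ideal.Quotient.eq_zero_iff_mem.2 ?_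
    rw [pow_two] at hz
    clear hyz hmem
    induction hz using Submodule.mul_induction_on' with
    | mem_mul_mem a ha b hb =>
      rw [Derivation.leibniz, smul_eq_mul, smul_eq_mul]
      exact add_mem (Ideal.mul_mem_right _ _ ha) (Ideal.mul_mem_right _ _ hb)
    | add a _ b _ ha hb => rw [map_add]; exact add_mem ha hb
  have hy' : ∃ a : ι → A, a k = 0 ∧ y = ∑ x, a x * f x := by
    refine Submodule.span_induction (p := fun y _ => ∃ a : ι → A, a k = 0 ∧ y = ∑ x, a x * f x) ?_
      ⟨0, rfl, by simp⟩ ?_ ?_ hy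
    · rintro _ ⟨x, hx, rfl⟩
      exact ⟨Pi.single x 1, Pi.single_eq_of_ne (Ne.symm hx) _, by simp [Pi.single_apply, ite_mul]⟩
    · rintro _ _ _ _ ⟨a, ha, rfl⟩ ⟨b, hb, rfl⟩
      exact ⟨a + b, by simp [ha, hb], by simp [add_mul, Finset.sum_add_distrib]⟩
    · rintro r _ _ ⟨a, ha, rfl⟩
      exact ⟨r • a, by simp [ha], by simp [Finset.mul_sum, mul_assoc]⟩
  obtain ⟨a, hak, rfl⟩ := hy'
  let v : ι → A ⧸ p := fun x => φ ((if x = k then c else 0) - a x)
  let Mp : Matrix ι ι (A ⧸ p) := (Matrix.of fun i x => D i (f x)).map φ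
  have hf0 : ∀ x, φ (f x) = 0 := fun x => Ideal.Quotient.eq_zero_iff_mem.2 (hf x)
  have hMv : Mp.mulVec v = 0 := by
    ext i
    have h0 := congrArg (fun w => φ (D i w)) hyz
    simp only [map_add, hz', add_zero, map_sum, Derivation.leibniz, smul_eq_mul, map_mul, hf0, zero_mul] at h0
    simp only [Matrix.mulVec, dotProduct, Mp, Matrix.map_apply, Matrix.of_apply, v, map_sub, mul_sub,
      Finset.sum_sub_distrib, Pi.zero_apply, sub_eq_zero, apply_ite φ, map_zero, mul_ite, mul_zero,
      Finset.sum_ite_eq', Finset.mem_univ, if_true]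
    rw [mul_comm, ← h0]
    exact Finset.sum_congr rfl fun x _ => mul_comm _ _
  have hd : Mp.det • v = 0 := by
    have := congrArg (Mp.adjugate.mulVec) hMv
    rwa [Matrix.mulVec_mulVec, Matrix.adjugate_mul, Matrix.smul_mulVec, Matrix.one_mulVec, Matrix.mulVec_zero] at this
  have hk := congrFun hd k
  simp only [Pi.smul_apply, smul_eq_mul, v, if_true, hak, sub_zero, Pi.zero_apply, Mp, ← RingHom.map_det,
    ← RingHom.mapMatrix_apply, ← map_mul, φ, Ideal.Quotient.eq_zero_iff_mem] at hk
  exact ((‹p.IsPrime›).mem_or_mem hk).elim hdet hc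

/-- Clearing denominators in a span over the local ring. -/
theorem exists_mul_mem_of_localization {M : Submonoid A} {L : Type u} [CommRing L] [Algebra A L]
    [IsLocalization M L] {J : Ideal A} {x : A} (hx : algebraMap A L x ∈ J.map (algebraMap A L)) :
    ∃ c ∈ M, c * x ∈ J := by
  obtain ⟨⟨a, s⟩, hs⟩ := (IsLocalization.mem_map_algebraMap_iff M L).1 hx
  rw [← map_mul, IsLocalization.eq_iff_exists M L] at hs
  obtain ⟨c, hc⟩ := hs
  refine ⟨c.1 * s.1, M.mul_mem c.2 s.2, ?_⟩
  rw [show c.1 * s.1 * x = c.1 * (x * s.1) by ring, hc]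
  exact Ideal.mul_mem_left _ _ a.2

/-- An irredundant family of generators of a finitely generated ideal near a prime. -/
theorem exists_irred {I : Ideal A} (hI : I.FG) (p : Ideal A) [p.IsPrime] :
    ∃ (n : ℕ) (f : Fin n → A), (∀ i, f i ∈ I) ∧ (∀ k, ∀ c ∉ p, c * f k ∉ Ideal.span (f '' {k}ᶜ)) ∧
      ∃ c ∉ p, ∀ x ∈ I, c * x ∈ Ideal.span (Set.range f) := by
  classical
  let Q : ℕ → Prop := fun n => ∃ f : Fin n → A, (∀ i, f i ∈ I) ∧
    ∃ c ∉ p, ∀ x ∈ I, c * x ∈ Ideal.span (Set.range f)
  have hQ : ∃ n, Q n := by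
    obtain ⟨n, f, hf⟩ := Submodule.fg_iff_exists_fin_generating_family.1 hI
    exact ⟨n, f, fun i => hf ▸ Submodule.subset_span ⟨i, rfl⟩, 1, (Ideal.ne_top_iff_one p).1
      (Ideal.IsPrime.ne_top ‹_›), fun x hx => by rw [one_mul]; exact (congrArg (x ∈ ·) hf).mpr hx⟩
  obtain ⟨f, hf, c₀, hc₀, hgen⟩ := Nat.find_spec hQ
  refine ⟨_, f, hf, fun k c hc hk => ?_, c₀, hc₀, hgen⟩
  obtain ⟨n, hn⟩ : ∃ n, Nat.find hQ = n + 1 := ⟨Nat.find hQ - 1, by have := k.isLt; omega⟩
  have hmin := Nat.find_min hQ (show n < Nat.find hQ by omega)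
  apply hmin
  let e : Fin n → Fin (Nat.find hQ) := fun i => Fin.cast hn.symm ((Fin.cast hn k).succAbove i)
  refine ⟨f ∘ e, fun i => hf _, c * c₀, fun h => ((‹p.IsPrime›).mem_or_mem h).elim hc hc₀, fun x hx => ?_⟩
  have hsub : f '' {k}ᶜ ⊆ Set.range (f ∘ e) := by
    rintro _ ⟨j, hj, rfl⟩
    obtain ⟨i, hi⟩ := Fin.exists_succAbove_eq (x := Fin.cast hn j) (y := Fin.cast hn k)
      (fun h => hj (Fin.cast_injective _ h))
    exact ⟨i, by simp [e, hi]⟩
  have hle : ∀ y ∈ Ideal.span (Set.range f), c * y ∈ Ideal.span (Set.range (f ∘ e)) := by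
    intro y hy
    refine Submodule.span_induction (p := fun y _ => c * y ∈ Ideal.span (Set.range (f ∘ e))) ?_
      (by simp) (fun a b _ _ ha hb => by rw [mul_add]; exact add_mem ha hb)
      (fun r a _ ha => by rw [smul_eq_mul, mul_left_comm]; exact Ideal.mul_mem_left _ _ ha) hy
    rintro _ ⟨j, rfl⟩
    by_cases hj : j = k
    · subst hj
      exact Ideal.span_mono hsub hk
    · exact Ideal.mul_mem_left _ _ (Ideal.subset_span (hsub ⟨j, hj, rfl⟩))
  rw [mul_assoc]
  exact hle _ (hgen x hx)

theorem ofList_ofFn {ι : Type} [Fintype ι] (f : ι → A) :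
    Ideal.ofList ((Finset.univ : Finset ι).toList.map f) = Ideal.span (Set.range f) := by
  unfold Ideal.ofList
  congr 1
  ext x
  simp

/-- Separated generators joined with lifts of irredundant generators of the quotient are irredundant. -/
theorem card_le_of_sep {C : Type u} [CommRing C] (π : A →+* C) (p : Ideal A) [p.IsPrime]
    {ι κ : Type} [Fintype ι] [Fintype κ] (gf : ι → A) (hf : κ → A) (hgπ : ∀ i, π (gf i) = 0)
    (hsep : ∀ k, ∀ c ∉ p, ∀ b : κ → A, (∀ j, b j ∈ p) → c * gf k - ∑ j, b j * hf j ∉ Ideal.span (gf '' {k}ᶜ))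
    (hirr : ∀ k, ∀ c ∉ p, π (c * hf k) ∉ Ideal.span ((π ∘ hf) '' {k}ᶜ))
    (l : List A) (he : ∀ x ∈ l, ∃ c ∉ p, c * x ∈ Ideal.span (Set.range (Sum.elim gf hf)))
    (he' : ∀ x, (x ∈ Set.range gf ∨ x ∈ Set.range hf) → ∃ c ∉ p, c * x ∈ Ideal.ofList l) :
    Fintype.card ι + Fintype.card κ ≤ l.length := by
  classical
  let L := Localization.AtPrime p
  let F : ι ⊕ κ → L := algebraMap A L ∘ Sum.elim gf hf
  have hspan : Ideal.span (Set.range F) = Ideal.ofList (l.map (algebraMap A L)) := by
    rw [Set.range_comp, ← Ideal.map_span, ← Ideal.map_ofList]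
    have key : ∀ {J : Ideal A} {x : A}, (∃ c ∉ p, c * x ∈ J) → algebraMap A L x ∈ J.map (algebraMap A L) := by
      rintro J x ⟨c, hc, hcx⟩
      have := Ideal.mem_map_of_mem (algebraMap A L) hcx
      rwa [map_mul, Ideal.unit_mul_mem_iff_mem _
        (IsLocalization.map_units L (⟨c, hc⟩ : p.primeCompl))] at this
    refine le_antisymm (Ideal.map_le_iff_le_comap.2 (Ideal.span_le.2 ?_))
      (Ideal.map_le_iff_le_comap.2 (Ideal.span_le.2 fun x hx => key (he x hx)))
    rintro _ ⟨i | i, rfl⟩
    · exact key (he' _ (Or.inl ⟨i, rfl⟩))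
    · exact key (he' _ (Or.inr ⟨i, rfl⟩))
  have hF : Irred F := by
    intro k hk
    rw [show F '' {k}ᶜ = algebraMap A L '' (Sum.elim gf hf '' {k}ᶜ) from Set.image_comp _ _ _,
      ← Ideal.map_span] at hk
    obtain ⟨c, hc, hcx⟩ := exists_mul_mem_of_localization (M := p.primeCompl) hk
    rcases k with k | k
    · have hsplit : Ideal.span (Sum.elim gf hf '' {Sum.inl k}ᶜ) ≤
          Ideal.span (gf '' {k}ᶜ) ⊔ Ideal.span (Set.range hf) := by
        refine Ideal.span_le.2 ?_
        rintro _ ⟨i | i, hi, rfl⟩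
        · exact Ideal.mem_sup_left (Ideal.subset_span ⟨i, fun h => hi (congrArg Sum.inl h), rfl⟩)
        · exact Ideal.mem_sup_right (Ideal.subset_span ⟨i, rfl⟩)
      obtain ⟨y, hy, z, hz, hyz⟩ := Submodule.mem_sup.1 (hsplit hcx)
      obtain ⟨b, hb⟩ := Ideal.mem_span_range_iff_exists_fun.1 hz
      have hy0 : π y = 0 := by
        refine Submodule.span_induction (p := fun y _ => π y = 0) ?_ (map_zero π)
          (fun a b _ _ ha hb => by rw [map_add, ha, hb, add_zero])
          (fun r a _ ha => by rw [smul_eq_mul, map_mul, ha, mul_zero]) hy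
        rintro _ ⟨i, -, rfl⟩
        exact hgπ i
      have hbp : ∀ j, b j ∈ p := fun j => by
        by_contra hj
        apply hirr j (b j) hj
        have h0 : π (∑ x, b x * hf x) = 0 := by
          rw [hb, ← sub_eq_of_eq_add' hyz.symm, map_sub, map_mul, Sum.elim_inl, hgπ, mul_zero, hy0, sub_zero]
        rw [map_sum, ← Finset.add_sum_erase _ _ (Finset.mem_univ j), add_eq_zero_iff_eq_neg] at h0
        rw [h0]
        refine neg_mem (Ideal.sum_mem _ fun x hx => ?_)
        rw [map_mul]
        exact Ideal.mul_mem_left _ _ (Ideal.subset_span ⟨x, Finset.ne_of_mem_erase hx, rfl⟩)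
      refine hsep k c hc b hbp ?_
      rw [hb, show c * gf k = y + z from hyz.symm, add_sub_cancel_right]
      exact hy
    · apply hirr k c hc
      have hm := Ideal.mem_map_of_mem π hcx
      rw [Ideal.map_span] at hm
      refine (Ideal.span_le.2 ?_) hm
      rintro _ ⟨_, ⟨i | i, hi, rfl⟩, rfl⟩
      · rw [Sum.elim_inl, hgπ]; exact Ideal.zero_mem _
      · exact Ideal.subset_span ⟨i, fun h => hi (congrArg Sum.inr h), rfl⟩
  have := card_le_of_irred F hF _ hspan
  simpa using this

section Quot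

variable {C : Type u} [CommRing C] [Algebra A C]

/-- The localisation of a quotient, with kernel. -/
theorem exists_away_quot (hs : Function.Surjective (algebraMap A C)) (z : A) :
    ∃ _ : Algebra (Localization.Away z) (Localization.Away (algebraMap A C z)),
      IsScalarTower A (Localization.Away z) (Localization.Away (algebraMap A C z)) ∧
      Function.Surjective (algebraMap (Localization.Away z) (Localization.Away (algebraMap A C z))) ∧
      RingHom.ker (algebraMap (Localization.Away z) (Localization.Away (algebraMap A C z))) =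
        (RingHom.ker (algebraMap A C)).map (algebraMap A (Localization.Away z)) := by
  let L := Localization.Away z
  let C' := Localization.Away (algebraMap A C z)
  let f : L →+* C' := IsLocalization.Away.map L C' (algebraMap A C) z
  letI := f.toAlgebra
  refine ⟨f.toAlgebra, .of_algebraMap_eq fun x => ?_, ?_, ?_⟩
  · show algebraMap A C' x = f (algebraMap A L x)
    simp only [f, IsLocalization.Away.map, IsLocalization.map_eq]
    exact IsScalarTower.algebraMap_apply A C C' x
  · haveI : IsLocalization ((Submonoid.powers z).map (algebraMap A C)) C' := by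
      rw [Submonoid.map_powers]; infer_instance
    exact IsLocalization.map_surjective_of_surjective (Submonoid.powers z) L C' hs
  · exact IsLocalization.ker_map C' (algebraMap A C) (Submonoid.map_powers _ _)

/-- Koszul-regular ideals pull back along Koszul-regular quotients. -/
theorem isKoszulRegularIdeal_comap (hs : Function.Surjective (algebraMap A C))
    (hJ : LCI.IsKoszulRegularIdeal (RingHom.ker (algebraMap A C))) {I : Ideal C}
    (hI : LCI.IsKoszulRegularIdeal I) : LCI.IsKoszulRegularIdeal (I.comap (algebraMap A C)) := by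
  refine isKoszulRegularIdeal_of_nearGen fun p _ hp => ?_
  have hJp : RingHom.ker (algebraMap A C) ≤ p := le_trans (fun x hx => by
    rw [Ideal.mem_comap, RingHom.mem_ker.1 hx]; exact I.zero_mem) hp
  haveI : (p.map (algebraMap A C)).IsPrime := Ideal.map_isPrime_of_surjective hs hJp
  have hcm : (p.map (algebraMap A C)).comap (algebraMap A C) = p :=
    (Ideal.comap_map_of_surjective _ hs p).trans (sup_eq_left.2 hJp)
  obtain ⟨u, hu, gl, hglJ, hgl⟩ := exists_nearGen hJ p hJp
  obtain ⟨w, hw, hl, hhlI, hhl⟩ := exists_nearGen hI (p.map (algebraMap A C))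
    (by rw [← Ideal.map_comap_of_surjective _ hs I]; exact Ideal.map_mono hp)
  obtain ⟨w', rfl⟩ := hs w
  have hw' : w' ∉ p := fun h => hw (Ideal.mem_map_of_mem _ h)
  let lift := Function.surjInv hs
  let z := u * w'
  have hz : z ∉ p := fun h => ((‹p.IsPrime›).mem_or_mem h).elim hu hw'
  refine ⟨z, hz, hl.map lift ++ gl, ?_⟩
  intro L _ _ _ hzu
  -- reduce to the universal localisation
  let L₀ := Localization.Away z
  letI : Algebra L₀ L := (IsLocalization.Away.lift z hzu).toAlgebra
  haveI : IsScalarTower A L₀ L := .of_algebraMap_eq fun x => (IsLocalization.Away.lift_eq z hzu x).symm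
  haveI : Module.Flat L₀ L := (Module.flat_iff_of_isLocalization L₀ (Submonoid.powers z) L).2 inferInstance
  haveI : Module.Flat A L₀ := IsLocalization.flat _ (Submonoid.powers z)
  suffices h : LCI.IsKoszulRegularSeq L₀ ((hl.map lift ++ gl).map (algebraMap A L₀)) ∧
      (I.comap (algebraMap A C)).map (algebraMap A L₀) = Ideal.ofList ((hl.map lift ++ gl).map (algebraMap A L₀)) by
    have hm : (hl.map lift ++ gl).map (algebraMap A L) =
        ((hl.map lift ++ gl).map (algebraMap A L₀)).map (algebraMap L₀ L) := by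
      rw [List.map_map]
      exact List.map_congr_left fun x _ => IsScalarTower.algebraMap_apply A L₀ L x
    rw [hm]
    exact ⟨Groth.Agent.RelDivLib.isKoszulRegularSeq_flat h.1,
      by rw [IsScalarTower.algebraMap_eq A L₀ L, ← Ideal.map_map, h.2, Ideal.map_ofList]⟩
  refine ⟨?_, ?_⟩
  · obtain ⟨alg, htow, hsur, hker⟩ := exists_away_quot hs z
    letI := alg
    haveI := htow
    have hu' := hgl L₀ (isUnit_of_mul_isUnit_left (by rw [← map_mul]; exact IsLocalization.Away.algebraMap_isUnit z))
    let C' := Localization.Away (algebraMap A C z)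
    haveI : Module.Flat C C' := IsLocalization.flat _ (Submonoid.powers (algebraMap A C z))
    have hzw : algebraMap A C z = algebraMap A C u * algebraMap A C w' := map_mul _ _ _
    have hw'' := hhl C' (by
      have := IsLocalization.Away.algebraMap_isUnit (S := C') (algebraMap A C z)
      exact isUnit_of_mul_isUnit_right (x := algebraMap C C' (algebraMap A C u))
        ((((algebraMap C C').map_mul _ _).symm.trans (congrArg _ hzw.symm)) ▸ this))
    rw [List.map_append, isKoszulRegularSeq_append_iff _ hu'.1 hsur (hker.trans hu'.2)]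
    convert hw''.1 using 1
    rw [List.map_map, List.map_map]
    refine List.map_congr_left fun x _ => ?_
    show algebraMap L₀ C' (algebraMap A L₀ (lift x)) = algebraMap C C' x
    rw [← IsScalarTower.algebraMap_apply, IsScalarTower.algebraMap_apply A C C', Function.surjInv_eq hs]
  · rw [← Ideal.map_ofList]
    have hle : Ideal.ofList (hl.map lift ++ gl) ≤ I.comap (algebraMap A C) := by
      rw [Ideal.ofList_append]
      refine sup_le (Ideal.span_le.2 fun x hx => ?_) (Ideal.span_le.2 fun x hx => ?_)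
      · obtain ⟨y, hy, rfl⟩ := List.mem_map.1 (show x ∈ hl.map lift from hx)
        show algebraMap A C (lift y) ∈ I
        rw [Function.surjInv_eq hs]
        exact hhlI y hy
      · show algebraMap A C x ∈ I
        rw [RingHom.mem_ker.1 (hglJ x hx)]
        exact I.zero_mem
    refine le_antisymm (Ideal.map_le_iff_le_comap.2 fun x hx => ?_) (Ideal.map_mono hle)
    let Cw := Localization.Away (algebraMap A C w')
    haveI : Module.Flat C Cw := IsLocalization.flat _ (Submonoid.powers (algebraMap A C w'))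
    have h1 := (hhl Cw (IsLocalization.Away.algebraMap_isUnit _)).2
    rw [← Ideal.map_ofList] at h1
    obtain ⟨_, ⟨n, rfl⟩, hn⟩ := exists_mul_mem_of_localization (M := Submonoid.powers (algebraMap A C w'))
      (h1 ▸ Ideal.mem_map_of_mem (algebraMap C Cw) (show algebraMap A C x ∈ I from hx))
    have h2 : w' ^ n * x ∈ Ideal.ofList (hl.map lift) ⊔ RingHom.ker (algebraMap A C) := by
      rw [RingHom.ker, ← Ideal.comap_map_of_surjective _ hs, Ideal.map_ofList, List.map_map,
        show algebraMap A C ∘ lift = id from funext fun y => Function.surjInv_eq hs y, List.map_id,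
        Ideal.mem_comap, map_mul, map_pow]
      exact hn
    have h3 : algebraMap A L₀ (w' ^ n * x) ∈ (Ideal.ofList (hl.map lift ++ gl)).map (algebraMap A L₀) := by
      have := Ideal.mem_map_of_mem (algebraMap A L₀) h2
      rw [Ideal.map_sup, (hgl L₀ (isUnit_of_mul_isUnit_left
        (by rw [← map_mul]; exact IsLocalization.Away.algebraMap_isUnit z))).2, ← Ideal.map_ofList, ← Ideal.map_sup,
        ← Ideal.ofList_append] at this
      exact this
    rwa [map_mul, map_pow, Ideal.unit_mul_mem_iff_mem _ (IsUnit.pow _ (isUnit_of_mul_isUnit_right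
      (by rw [← map_mul]; exact IsLocalization.Away.algebraMap_isUnit z)))] at h3

/-- Koszul-regular ideals push forward along quotients by separated Koszul-regular generators. -/
theorem isKoszulRegularIdeal_map_gen (hs : Function.Surjective (algebraMap A C))
    (hJ : LCI.IsKoszulRegularIdeal (RingHom.ker (algebraMap A C))) {K : Ideal A}
    (hK : LCI.IsKoszulRegularIdeal K) (hle : RingHom.ker (algebraMap A C) ≤ K)
    (K₀ : Ideal A) (hK₀ : K₀ ≤ K) (hK₀' : K.map (algebraMap A C) ≤ K₀.map (algebraMap A C))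
    (hsep : ∀ (p : Ideal A) [p.IsPrime], K ≤ p → ∃ (ι : Type) (_ : Fintype ι) (gf : ι → A),
      (∀ i, gf i ∈ RingHom.ker (algebraMap A C)) ∧
        (∀ k, ∀ c ∉ p, ∀ z ∈ p * K₀, c * gf k - z ∉ Ideal.span (gf '' {k}ᶜ)) ∧
        ∃ c ∉ p, ∀ x ∈ RingHom.ker (algebraMap A C), c * x ∈ Ideal.span (Set.range gf)) :
    LCI.IsKoszulRegularIdeal (K.map (algebraMap A C)) := by
  classical
  refine isKoszulRegularIdeal_of_nearGen fun q _ hq => ?_
  let p := q.comap (algebraMap A C)
  haveI : p.IsPrime := Ideal.IsPrime.comap _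
  have hKp : K ≤ p := Ideal.map_le_iff_le_comap.1 hq
  have hJp := hle.trans hKp
  obtain ⟨ι, _, gf, hgf, hsep', c₁, hc₁, hc₁g⟩ := hsep p hKp
  obtain ⟨n, hb, hbI, hbirr, c₂, hc₂, hc₂g⟩ :=
    exists_irred ((fg_of_isKoszulRegularIdeal hK).map (algebraMap A C)) q
  obtain ⟨c₂', rfl⟩ := hs c₂
  obtain ⟨u₁, hu₁, jl, hjlJ, hjl⟩ := exists_nearGen hJ p hJp
  obtain ⟨u₂, hu₂, kl, hklK, hkl⟩ := exists_nearGen hK p hKp
  have hsel : ∀ i, ∃ a, a ∈ K₀ ∧ algebraMap A C a = hb i := fun i =>
    (Ideal.mem_map_iff_of_surjective _ hs).1 (hK₀' (hbI i))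
  choose hf hf₀ hfe using hsel
  have hfK : ∀ i, hf i ∈ K := fun i => hK₀ (hf₀ i)
  let W : List A := (Finset.univ : Finset (Fin n)).toList.map hf ++ (Finset.univ : Finset ι).toList.map gf
  have hW : Ideal.ofList W = Ideal.span (Set.range (Sum.elim gf hf)) := by
    rw [Ideal.ofList_append, ofList_ofFn, ofList_ofFn, Set.Sum.elim_range, Ideal.span_union, sup_comm]
  have hgenK : ∀ x ∈ K, c₁ * c₂' * x ∈ Ideal.ofList W := by
    intro x hx
    obtain ⟨y, hy, hye⟩ : ∃ y ∈ Ideal.span (Set.range hf), algebraMap A C y = algebraMap A C (c₂' * x) := by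
      rw [← Ideal.mem_map_iff_of_surjective _ hs, Ideal.map_span, ← Set.range_comp, map_mul,
        show algebraMap A C ∘ hf = hb from funext hfe]
      exact hc₂g _ (Ideal.mem_map_of_mem _ hx)
    have hker : c₂' * x - y ∈ RingHom.ker (algebraMap A C) := by rw [RingHom.mem_ker, map_sub, hye, sub_self]
    rw [hW, Set.Sum.elim_range, Ideal.span_union,
      show c₁ * c₂' * x = c₁ * (c₂' * x - y) + c₁ * y by ring]
    exact add_mem (Ideal.mem_sup_left (hc₁g _ hker)) (Ideal.mem_sup_right (Ideal.mul_mem_left _ _ hy))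
  have hWK : Ideal.ofList W ≤ K := by
    rw [hW, Set.Sum.elim_range, Ideal.span_le, Set.union_subset_iff]
    exact ⟨Set.range_subset_iff.2 fun i => hle (hgf i), Set.range_subset_iff.2 hfK⟩
  let z := u₁ * u₂ * (c₁ * c₂')
  have hz : z ∉ p := fun h => by
    rcases (‹p.IsPrime›).mem_or_mem h with h | h <;> rcases (‹p.IsPrime›).mem_or_mem h with h | h
    exacts [hu₁ h, hu₂ h, hc₁ h, hc₂ h]
  let L := Localization.Away z
  haveI : Module.Flat A L := IsLocalization.flat _ (Submonoid.powers z)
  have hunit : IsUnit (algebraMap A L u₁ * algebraMap A L u₂ * algebraMap A L (c₁ * c₂')) := by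
    rw [← map_mul, ← map_mul]; exact IsLocalization.Away.algebraMap_isUnit z
  obtain ⟨hjK, hjm⟩ := hjl L (isUnit_of_mul_isUnit_left (isUnit_of_mul_isUnit_left hunit))
  obtain ⟨hkK, hkm⟩ := hkl L (isUnit_of_mul_isUnit_right (isUnit_of_mul_isUnit_left hunit))
  have hcu : IsUnit (algebraMap A L (c₁ * c₂')) := isUnit_of_mul_isUnit_right hunit
  have hmapW : Ideal.ofList (W.map (algebraMap A L)) = Ideal.ofList (kl.map (algebraMap A L)) := by
    rw [← Ideal.map_ofList, ← hkm]
    refine le_antisymm (Ideal.map_mono hWK) (Ideal.map_le_iff_le_comap.2 fun x hx => ?_)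
    rw [Ideal.mem_comap, ← Ideal.unit_mul_mem_iff_mem _ hcu, ← map_mul]
    exact Ideal.mem_map_of_mem _ (hgenK x hx)
  let gL := ((Finset.univ : Finset ι).toList.map gf).map (algebraMap A L)
  have hmapg : Ideal.ofList gL = Ideal.ofList (jl.map (algebraMap A L)) := by
    rw [← Ideal.map_ofList, ← hjm, ofList_ofFn]
    refine le_antisymm (Ideal.map_mono (Ideal.span_le.2 (Set.range_subset_iff.2 hgf)))
      (Ideal.map_le_iff_le_comap.2 fun x hx => ?_)
    rw [Ideal.mem_comap, ← Ideal.unit_mul_mem_iff_mem _ (isUnit_of_mul_isUnit_left (by rwa [← map_mul]) :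
      IsUnit (algebraMap A L c₁)), ← map_mul]
    exact Ideal.mem_map_of_mem _ (hc₁g x hx)
  have hpow : ∀ m, z ^ m ∉ p := fun m h => hz ((‹p.IsPrime›).mem_of_pow_mem m h)
  have loc : ∀ {J J' : Ideal A}, J.map (algebraMap A L) ≤ J'.map (algebraMap A L) → ∀ x ∈ J,
      ∃ c ∉ p, c * x ∈ J' := fun h x hx => by
    obtain ⟨_, ⟨m, rfl⟩, hm⟩ :=
      exists_mul_mem_of_localization (M := Submonoid.powers z) (h (Ideal.mem_map_of_mem (algebraMap A L) hx))
    exact ⟨z ^ m, hpow m, hm⟩
  have hlen_g : gL.length ≤ (jl.map (algebraMap A L)).length := by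
    simp only [gL, List.length_map, Finset.length_toList, Finset.card_univ]
    have hle' := card_le_of_sep (algebraMap A C) p gf (Fin.elim0 : Fin 0 → A) (fun i => hgf i)
      (fun k c hc b _ => by
        simpa using hsep' k c hc 0 (Ideal.zero_mem _)) (fun k => k.elim0) jl
      (fun x hx => ⟨c₁, hc₁, Ideal.span_mono (by rw [Set.Sum.elim_range]; exact Set.subset_union_left)
        (hc₁g x (hjlJ x hx))⟩)
      (by
        rintro x (⟨i, rfl⟩ | ⟨i, rfl⟩)
        · exact loc (by rw [Ideal.map_ofList, ← hjm]) _ (hgf i)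
        · exact i.elim0)
    simpa using hle'
  have hlen_W : (W.map (algebraMap A L)).length ≤ (kl.map (algebraMap A L)).length := by
    simp only [W, List.length_map, List.length_append, Finset.length_toList, Finset.card_univ, Fintype.card_fin]
    have hle' := card_le_of_sep (algebraMap A C) p gf hf (fun i => hgf i)
      (fun k c hc b hb => hsep' k c hc _ (Ideal.sum_mem _ fun j _ => Ideal.mul_mem_mul (hb j) (hf₀ j))) (fun k c hc => by
        rw [map_mul, hfe, show algebraMap A C ∘ hf = hb from funext hfe]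
        exact hbirr k _ hc) kl
      (fun x hx => ⟨c₁ * c₂', fun h => ((‹p.IsPrime›).mem_or_mem h).elim hc₁ hc₂, hW ▸ hgenK x (hklK x hx)⟩)
      (by
        rintro x (⟨i, rfl⟩ | ⟨i, rfl⟩)
        · exact loc (by rw [Ideal.map_ofList, ← hkm]) _ (hle (hgf i))
        · exact loc (by rw [Ideal.map_ofList, ← hkm]) _ (hfK i))
    simp only [Fintype.card_fin] at hle'
    omega
  have hg : LCI.IsKoszulRegularSeq L gL := isKoszulRegularSeq_of_ofList_eq hjK hmapg hlen_g
  have hWreg : LCI.IsKoszulRegularSeq L (W.map (algebraMap A L)) :=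
    isKoszulRegularSeq_of_ofList_eq hkK hmapW hlen_W
  refine ⟨algebraMap A C z, hz, (Finset.univ : Finset (Fin n)).toList.map hb, fun L' _ _ _ hu' => ?_⟩
  let C' := Localization.Away (algebraMap A C z)
  obtain ⟨alg, htow, hsur, hker⟩ := exists_away_quot hs z
  letI := alg
  haveI := htow
  rw [List.map_append, isKoszulRegularSeq_append_iff gL hg hsur (hker.trans (hjm.trans hmapg.symm)),
    List.map_map, List.map_map] at hWreg
  letI : Algebra C' L' := (IsLocalization.Away.lift (algebraMap A C z) hu').toAlgebra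
  haveI : IsScalarTower C C' L' := .of_algebraMap_eq fun x => (IsLocalization.Away.lift_eq _ hu' x).symm
  haveI : Module.Flat C' L' :=
    (Module.flat_iff_of_isLocalization C' (Submonoid.powers (algebraMap A C z)) L').2 inferInstance
  refine ⟨?_, ?_⟩
  · convert Groth.Agent.RelDivLib.isKoszulRegularSeq_flat (S := L') hWreg using 1
    rw [List.map_map, List.map_map]
    refine List.map_congr_left fun i _ => ?_
    show algebraMap C L' (hb i) = algebraMap C' L' (algebraMap L C' (algebraMap A L (hf i)))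
    rw [← IsScalarTower.algebraMap_apply A L C', IsScalarTower.algebraMap_apply A C C',
      ← IsScalarTower.algebraMap_apply C C' L', hfe]
  · rw [← Ideal.map_ofList, ofList_ofFn]
    refine le_antisymm (Ideal.map_le_iff_le_comap.2 fun x hx => ?_)
      (Ideal.map_mono (Ideal.span_le.2 (Set.range_subset_iff.2 hbI)))
    have hu2 : IsUnit (algebraMap C L' (algebraMap A C c₂')) := by
      refine isUnit_of_mul_isUnit_right (x := algebraMap C L' (algebraMap A C c₁)) ?_
      refine isUnit_of_mul_isUnit_right (x := algebraMap C L' (algebraMap A C (u₁ * u₂))) ?_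
      rw [← map_mul, ← map_mul, ← map_mul, ← map_mul]
      exact hu'
    rw [Ideal.mem_comap, ← Ideal.unit_mul_mem_iff_mem _ hu2, ← map_mul]
    exact Ideal.mem_map_of_mem _ (hc₂g x hx)

/-- Koszul-regular ideals push forward along quotients by separated Koszul-regular generators. -/
theorem isKoszulRegularIdeal_map (hs : Function.Surjective (algebraMap A C))
    (hJ : LCI.IsKoszulRegularIdeal (RingHom.ker (algebraMap A C))) {K : Ideal A}
    (hK : LCI.IsKoszulRegularIdeal K) (hle : RingHom.ker (algebraMap A C) ≤ K)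
    (hsep : ∀ (p : Ideal A) [p.IsPrime], K ≤ p → ∃ (ι : Type) (_ : Fintype ι) (gf : ι → A),
      (∀ i, gf i ∈ RingHom.ker (algebraMap A C)) ∧ Sep gf p ∧
        ∃ c ∉ p, ∀ x ∈ RingHom.ker (algebraMap A C), c * x ∈ Ideal.span (Set.range gf)) :
    LCI.IsKoszulRegularIdeal (K.map (algebraMap A C)) := by
  refine isKoszulRegularIdeal_map_gen hs hJ hK hle K le_rfl le_rfl fun p _ hp => ?_
  obtain ⟨ι, _, gf, h₁, h₂, h₃⟩ := hsep p hp
  refine ⟨ι, inferInstance, gf, h₁, fun k c hc z hz hmem => h₂ k c hc ?_, h₃⟩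
  have hz' : z ∈ p ^ 2 := by
    rw [pow_two]
    exact Ideal.mul_mono_right hp hz
  have h := Submodule.add_mem_sup hmem hz'
  rwa [sub_add_cancel] at h

end Quot

end Groth.Agent.CILib
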