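import Groth.Agent.CILib.LocalCI
import Groth.Agent.CILib.KoszulIdeal
import Groth.Agent.CMCat.ComplQuot
import Groth.Agent.RegLocal.Completion
import Groth.Agent.SectionComplLib.Basic
import Groth.Prelude.Def_Pi1

/-!
# Complete intersection local rings

Independence of the presentation: if a local ring is cut out of one regular local ring by a regular sequence,
it is cut out of any regular local ring mapping onto it by a regular sequence, and this is detected by completion.
-/

set_option autoImplicit false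
set_option linter.style.haveILetI false
set_option backward.isDefEq.respectTransparency false
set_option maxHeartbeats 1000000

universe u

open IsLocalRing RingTheory.Sequence

namespace Groth.Agent.CILib

section Relations

variable {R : Type u} [CommRing R]

/-- The elementary relation between two entries. -/
def elemRel {n : ℕ} (y : Fin n → R) (p : Fin n × Fin n) : Fin n → R :=
  Pi.single p.1 (y p.2) - Pi.single p.2 (y p.1)

/-- The trivial relations of a family. -/
def trivRelations {n : ℕ} (y : Fin n → R) : Submodule R (Fin n → R) :=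
  Submodule.span R (Set.range (elemRel y))

theorem sum_elemRel {n : ℕ} (y : Fin n → R) (p : Fin n × Fin n) : ∑ i, elemRel y p i * y i = 0 := by
  simp only [elemRel, Pi.sub_apply, Pi.single_apply, sub_mul, ite_mul, zero_mul, Finset.sum_sub_distrib,
    Finset.sum_ite_eq', Finset.mem_univ, if_true, mul_comm (y p.1), sub_self]

theorem sum_of_mem_trivRelations {n : ℕ} (y : Fin n → R) {c : Fin n → R} (hc : c ∈ trivRelations y) :
    ∑ i, c i * y i = 0 := by
  induction hc using Submodule.span_induction with
  | mem v hv => obtain ⟨p, rfl⟩ := hv; exact sum_elemRel y p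
  | zero => simp
  | add v w _ _ hv hw => simp [add_mul, Finset.sum_add_distrib, hv, hw]
  | smul r v _ hv => simp [mul_assoc, ← Finset.mul_sum, hv]

/-- Every relation of a weakly regular family is trivial. -/
theorem mem_trivRelations : ∀ {n : ℕ} (y : Fin n → R), IsWeaklyRegular R (List.ofFn y) →
    ∀ c : Fin n → R, ∑ i, c i * y i = 0 → c ∈ trivRelations y
  | 0, y, _, c, _ => by
    rw [show c = 0 from funext fun i => i.elim0]
    exact zero_mem _
  | n + 1, y, hy, c, hc => by
    classical
    let y' : Fin n → R := fun i => y i.castSucc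
    rw [List.ofFn_succ', List.concat_eq_append, isWeaklyRegular_append_iff, isWeaklyRegular_singleton_iff] at hy
    obtain ⟨hy', hreg⟩ := hy
    rw [Fin.sum_univ_castSucc] at hc
    have hofList : Ideal.ofList (List.ofFn y') = Ideal.span (Set.range y') := by
      unfold Ideal.ofList
      congr 1
      ext x
      simp [List.mem_ofFn]
    have hlast : c (Fin.last n) ∈ Ideal.span (Set.range y') := by
      have h1 := (isSMulRegular_quotient_iff_mem_of_smul_mem _ _).1 hreg (c (Fin.last n))
      rw [smul_eq_mul, Ideal.mul_top, hofList] at h1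
      refine h1 ?_
      show y (Fin.last n) * c (Fin.last n) ∈ _
      rw [mul_comm, eq_neg_of_add_eq_zero_right hc]
      exact neg_mem (Ideal.sum_mem _ fun i _ => Ideal.mul_mem_left _ _ (Ideal.subset_span ⟨i, rfl⟩))
    obtain ⟨d, hd⟩ := Ideal.mem_span_range_iff_exists_fun.1 hlast
    have hc' : (fun i : Fin n => c i.castSucc + d i * y (Fin.last n)) ∈ trivRelations y' := by
      refine mem_trivRelations y' hy' _ ?_
      rw [← hd, Finset.sum_mul] at hc
      rw [← hc, ← Finset.sum_add_distrib]
      exact Finset.sum_congr rfl fun i _ => by simp only [y']; ring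
    let E : (Fin n → R) →ₗ[R] (Fin (n + 1) → R) :=
      { toFun := fun v => Fin.snoc v 0
        map_add' := fun v w => funext fun i => by refine Fin.lastCases ?_ ?_ i <;> simp
        map_smul' := fun r v => funext fun i => by refine Fin.lastCases ?_ ?_ i <;> simp }
    have hE : (trivRelations y').map E ≤ trivRelations y := by
      rw [trivRelations, Submodule.map_span]
      refine Submodule.span_mono ?_
      rintro _ ⟨_, ⟨p, rfl⟩, rfl⟩
      refine ⟨(p.1.castSucc, p.2.castSucc), ?_⟩
      funext i
      refine Fin.lastCases ?_ ?_ i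
      · simp [E, elemRel, Fin.castSucc_ne_last]
      · intro i
        simp [E, elemRel, Pi.single_apply, y']
    have key : c = E (fun i : Fin n => c i.castSucc + d i * y (Fin.last n)) +
        ∑ i, d i • elemRel y (Fin.last n, i.castSucc) := by
      funext j
      refine Fin.lastCases ?_ ?_ j
      · simp [E, elemRel, Pi.single_apply, Fin.castSucc_ne_last, ← hd, y', mul_comm,
          fun i : Fin n => (Fin.castSucc_ne_last i).symm]
      · intro j
        simp [E, elemRel, Pi.single_apply, Fin.castSucc_ne_last, mul_sub, Finset.sum_sub_distrib]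
    rw [key]
    exact add_mem (hE ⟨_, hc', rfl⟩)
      (Submodule.sum_mem _ fun i _ => Submodule.smul_mem _ _ (Submodule.subset_span ⟨_, rfl⟩))

theorem trivRelations_map {S : Type u} [CommRing S] {n : ℕ} (f : R →+* S) (y : Fin n → R) {c : Fin n → R}
    (hc : c ∈ trivRelations y) : f ∘ c ∈ trivRelations (f ∘ y) := by
  induction hc using Submodule.span_induction with
  | mem v hv =>
    obtain ⟨p, rfl⟩ := hv
    refine Submodule.subset_span ⟨p, funext fun i => ?_⟩
    simp [elemRel, Pi.single_apply, apply_ite f]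
  | zero => rw [show f ∘ (0 : Fin n → R) = 0 from funext fun i => map_zero f]; exact zero_mem _
  | add v w _ _ hv hw =>
    rw [show f ∘ (v + w) = f ∘ v + f ∘ w from funext fun i => map_add f _ _]; exact add_mem hv hw
  | smul r v _ hv =>
    rw [show f ∘ (r • v) = f r • (f ∘ v) from funext fun i => map_mul f _ _]; exact Submodule.smul_mem _ _ hv

theorem exists_lift_trivRelations {S : Type u} [CommRing S] {n : ℕ} (f : R →+* S) (hf : Function.Surjective f)
    (y : Fin n → R) {c : Fin n → S} (hc : c ∈ trivRelations (f ∘ y)) :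
    ∃ b ∈ trivRelations y, f ∘ b = c := by
  induction hc using Submodule.span_induction with
  | mem v hv =>
    obtain ⟨p, rfl⟩ := hv
    refine ⟨elemRel y p, Submodule.subset_span ⟨p, rfl⟩, funext fun i => ?_⟩
    simp [elemRel, Pi.single_apply, apply_ite f]
  | zero => exact ⟨0, zero_mem _, funext fun i => map_zero f⟩
  | add v w _ _ hv hw =>
    obtain ⟨b, hb, rfl⟩ := hv
    obtain ⟨b', hb', rfl⟩ := hw
    exact ⟨b + b', add_mem hb hb', funext fun i => map_add f _ _⟩
  | smul r v _ hv =>
    obtain ⟨b, hb, rfl⟩ := hv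
    obtain ⟨r', rfl⟩ := hf r
    exact ⟨r' • b, Submodule.smul_mem _ _ hb, funext fun i => map_mul f _ _⟩

end Relations

section Minimal

variable {Q Q' C : Type u} [CommRing Q] [CommRing Q'] [CommRing C] [IsRegularLocalRing Q]
  [IsRegularLocalRing Q'] [Nontrivial C]

/-- Lifts of generators of the maximal ideal generate, for a minimal presentation. -/
theorem exists_lift_generators (π : Q →+* C) (π' : Q' →+* C) (hπ : Function.Surjective π)
    (hπ' : Function.Surjective π') (hmin' : RingHom.ker π' ≤ maximalIdeal Q' ^ 2) {n : ℕ} (x : Fin n → Q)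
    (hx : Ideal.span (Set.range x) = maximalIdeal Q) :
    ∃ y : Fin n → Q', (∀ i, π' (y i) = π (x i)) ∧ Ideal.span (Set.range y) = maximalIdeal Q' := by
  haveI : IsLocalRing C := .of_surjective' π hπ
  haveI : IsLocalHom π := IsLocalHom.of_surjective π hπ
  haveI : IsLocalHom π' := IsLocalHom.of_surjective π' hπ'
  choose y hy using fun i => hπ' (π (x i))
  refine ⟨y, hy, ?_⟩
  have hle : Ideal.span (Set.range y) ≤ maximalIdeal Q' := Ideal.span_le.2 (by
    rintro _ ⟨i, rfl⟩
    intro hu
    have hxi : x i ∈ maximalIdeal Q := hx ▸ Ideal.subset_span ⟨i, rfl⟩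
    exact hxi ((isUnit_map_iff π (x i)).1 (hy i ▸ hu.map π')))
  refine le_antisymm hle ?_
  refine Submodule.le_of_le_smul_of_le_jacobson_bot (IsNoetherian.noetherian _) (maximalIdeal_le_jacobson ⊥) ?_
  rw [smul_eq_mul, ← pow_two]
  intro a ha
  obtain ⟨b, hb⟩ := hπ (π' a)
  have hb' : b ∈ maximalIdeal Q := fun hu => ha ((isUnit_map_iff π' a).1 (hb ▸ hu.map π))
  rw [← hx] at hb'
  obtain ⟨c, hc⟩ := Ideal.mem_span_range_iff_exists_fun.1 hb'
  choose c' hc' using fun i => hπ' (π (c i))
  rw [show a = (∑ i, c' i * y i) + (a - ∑ i, c' i * y i) by ring]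
  refine Submodule.add_mem_sup (Ideal.sum_mem _ fun i _ => Ideal.mul_mem_left _ _ (Ideal.subset_span ⟨i, rfl⟩))
    (hmin' ?_)
  rw [RingHom.mem_ker, map_sub, map_sum, ← hb, ← hc, map_sum, sub_eq_zero]
  exact Finset.sum_congr rfl fun i _ => by rw [map_mul, map_mul, hy, hc']

theorem dim_le_of_minimal (π : Q →+* C) (π' : Q' →+* C) (hπ : Function.Surjective π)
    (hπ' : Function.Surjective π') (hmin' : RingHom.ker π' ≤ maximalIdeal Q' ^ 2) :
    ringKrullDim Q' ≤ ringKrullDim Q := by
  classical
  obtain ⟨x, hx⟩ := RegLocal.exists_generators Q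
  obtain ⟨y, -, hy⟩ := exists_lift_generators π π' hπ hπ' hmin' x hx
  rw [← (isRegularLocalRing_iff Q).1 inferInstance, ← (isRegularLocalRing_iff Q').1 inferInstance]
  have : (maximalIdeal Q').spanFinrank ≤ (maximalIdeal Q).spanFinrank := by
    conv_lhs => rw [← hy]
    refine (Submodule.spanFinrank_span_le_ncard_of_finite (Set.finite_range y)).trans ?_
    calc (Set.range y).ncard ≤ Nat.card (Fin (maximalIdeal Q).spanFinrank) := by
          rw [← Nat.card_coe_set_eq]
          exact Finite.card_range_le y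
      _ = _ := Nat.card_fin _
  exact_mod_cast this

/-- Generators of the kernel move between minimal presentations. -/
theorem cutBy_of_minimal (π : Q →+* C) (π' : Q' →+* C) (hπ : Function.Surjective π)
    (hπ' : Function.Surjective π') (hmin : RingHom.ker π ≤ maximalIdeal Q ^ 2)
    (hmin' : RingHom.ker π' ≤ maximalIdeal Q' ^ 2) (h : CutBy π') : CutBy π := by
  classical
  obtain ⟨r, ⟨g, hg⟩, hd⟩ := h
  have hdim : ringKrullDim Q = ringKrullDim Q' :=
    le_antisymm (dim_le_of_minimal π' π hπ' hπ hmin) (dim_le_of_minimal π π' hπ hπ' hmin')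
  obtain ⟨x, hx⟩ := RegLocal.exists_generators Q
  obtain ⟨y, hy, hy'⟩ := exists_lift_generators π π' hπ hπ' hmin' x hx
  have hxy : π' ∘ y = π ∘ x := funext hy
  haveI := RatliffLib.cm_of_regularLocal Q'
  have hof : Ideal.ofList (List.ofFn y) = maximalIdeal Q' := by
    rw [← hy']
    unfold Ideal.ofList
    congr 1
    ext z
    simp [List.mem_ofFn]
  have hyreg : IsWeaklyRegular Q' (List.ofFn y) := by
    refine (isRegular_of_ringKrullDim_quotient_add_le _ ?_ ?_).1.toIsWeaklyRegular
    · intro z hz
      obtain ⟨i, rfl⟩ := List.mem_ofFn.1 hz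
      exact hy' ▸ Ideal.subset_span ⟨i, rfl⟩
    · rw [hof, List.length_ofFn, ringKrullDim_eq_zero_of_isField
          ((Ideal.Quotient.maximal_ideal_iff_isField_quotient _).1 (maximalIdeal.isMaximal _)), zero_add, ← hdim,
        ← (isRegularLocalRing_iff Q).1 inferInstance]
  have hgm : ∀ k, g k ∈ maximalIdeal Q' := fun k =>
    IsLocalRing.le_maximalIdeal (RingHom.ker_ne_top π') (hg ▸ Ideal.subset_span ⟨k, rfl⟩)
  choose b hb using fun k => Ideal.mem_span_range_iff_exists_fun.1 (hy' ▸ hgm k : g k ∈ Ideal.span (Set.range y))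
  choose a ha using fun k i => hπ (π' (b k i))
  let F : Fin r → Q := fun k => ∑ i, a k i * x i
  have hF : ∀ k, F k ∈ RingHom.ker π := fun k => by
    rw [RingHom.mem_ker, map_sum]
    have h0 : π' (g k) = 0 := RingHom.mem_ker.1 (hg ▸ Ideal.subset_span ⟨k, rfl⟩)
    rw [← hb k, map_sum] at h0
    rw [← h0]
    exact Finset.sum_congr rfl fun i _ => by rw [map_mul, map_mul, ha, hy]
  refine ⟨r, ⟨F, le_antisymm ?_ (Ideal.span_le.2 (by rintro _ ⟨k, rfl⟩; exact hF k))⟩, hdim.trans hd⟩
  refine Submodule.le_of_le_smul_of_le_jacobson_bot (IsNoetherian.noetherian _) (maximalIdeal_le_jacobson ⊥) ?_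
  intro h hh
  rw [smul_eq_mul]
  have hhm : h ∈ maximalIdeal Q := IsLocalRing.le_maximalIdeal (RingHom.ker_ne_top π) hh
  rw [← hx] at hhm
  obtain ⟨c, rfl⟩ := Ideal.mem_span_range_iff_exists_fun.1 hhm
  choose c' hc' using fun i => hπ' (π (c i))
  have hcy : ∑ i, c' i * y i ∈ RingHom.ker π' := by
    have h0 := RingHom.mem_ker.1 hh
    rw [map_sum] at h0
    rw [RingHom.mem_ker, map_sum, ← h0]
    exact Finset.sum_congr rfl fun i _ => by rw [map_mul, map_mul, hc', hy]
  rw [hg] at hcy
  obtain ⟨e, he⟩ := Ideal.mem_span_range_iff_exists_fun.1 hcy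
  have hrel : (fun i => c' i - ∑ k, e k * b k i) ∈ trivRelations y := by
    refine mem_trivRelations y hyreg _ ?_
    have h1 : ∑ i, (∑ k, e k * b k i) * y i = ∑ i, c' i * y i := by
      rw [← he]
      simp only [← hb, Finset.mul_sum, Finset.sum_mul, mul_assoc]
      exact Finset.sum_comm
    simp only [sub_mul, Finset.sum_sub_distrib, h1, sub_self]
  have hrel' := trivRelations_map π' y hrel
  rw [hxy] at hrel'
  obtain ⟨bd, hbd, hbd'⟩ := exists_lift_trivRelations π hπ x hrel'
  choose e' he' using fun k => hπ (π' (e k))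
  have hJ : ∀ i, c i - (∑ k, e' k * a k i) - bd i ∈ RingHom.ker π := fun i => by
    have h1 : π (bd i) = π' (c' i - ∑ k, e k * b k i) := congrFun hbd' i
    rw [RingHom.mem_ker, map_sub, map_sub, h1, map_sub, hc', map_sum, map_sum]
    simp only [map_mul, he', ha]
    ring
  have hdecomp : ∑ i, c i * x i = (∑ k, e' k * F k) + ∑ i, (c i - (∑ k, e' k * a k i) - bd i) * x i := by
    have h1 : ∑ k, e' k * F k = ∑ i, (∑ k, e' k * a k i) * x i := by
      simp only [F, Finset.mul_sum, Finset.sum_mul, mul_assoc]
      exact Finset.sum_comm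
    simp only [sub_mul, Finset.sum_sub_distrib, sum_of_mem_trivRelations x hbd, h1]
    ring
  rw [hdecomp]
  refine Submodule.add_mem_sup (Ideal.sum_mem _ fun k _ => Ideal.mul_mem_left _ _ (Ideal.subset_span ⟨k, rfl⟩))
    (Ideal.sum_mem _ fun i _ => ?_)
  have hxi : x i ∈ maximalIdeal Q := hx ▸ Ideal.subset_span ⟨i, rfl⟩
  have := Ideal.mul_mem_mul hxi (hJ i)
  rwa [mul_comm (x i)] at this

end Minimal

/-- A minimal presentation cut out at the same time. -/
theorem exists_minimal : ∀ (d : ℕ) {Q C : Type u} [CommRing Q] [CommRing C] [IsRegularLocalRing Q] [Nontrivial C]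
    (π : Q →+* C), Function.Surjective π → ringKrullDim Q ≤ d →
    ∃ (Q' : Type u) (_ : CommRing Q') (_ : IsRegularLocalRing Q') (π' : Q' →+* C), Function.Surjective π' ∧
      RingHom.ker π' ≤ maximalIdeal Q' ^ 2 ∧ (CutBy π ↔ CutBy π') := by
  intro d
  induction d with
  | zero =>
    intro Q C _ _ _ _ π hπ hd
    by_cases hmin : RingHom.ker π ≤ maximalIdeal Q ^ 2
    · exact ⟨Q, inferInstance, inferInstance, π, hπ, hmin, Iff.rfl⟩
    · obtain ⟨x, hx, hx2⟩ := SetLike.not_le_iff_exists.1 hmin
      obtain ⟨e, he⟩ := exists_nat_ringKrullDim' Q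
      obtain ⟨-, h1, -⟩ := RegLocal.quot_singleton (R := Q) he (IsLocalRing.le_maximalIdeal (RingHom.ker_ne_top π) hx) hx2
      rw [he] at hd
      have : e ≤ 0 := by exact_mod_cast hd
      omega
  | succ d ih =>
    intro Q C _ _ _ _ π hπ hd
    by_cases hmin : RingHom.ker π ≤ maximalIdeal Q ^ 2
    · exact ⟨Q, inferInstance, inferInstance, π, hπ, hmin, Iff.rfl⟩
    · obtain ⟨x, hx, hx2⟩ := SetLike.not_le_iff_exists.1 hmin
      obtain ⟨e, he⟩ := exists_nat_ringKrullDim' Q
      obtain ⟨hreg, h1, hdx⟩ :=
        RegLocal.quot_singleton (R := Q) he (IsLocalRing.le_maximalIdeal (RingHom.ker_ne_top π) hx) hx2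
      haveI := hreg
      have hd' : ringKrullDim (Q ⧸ Ideal.span {x}) ≤ d := by
        rw [he] at hd
        have : e ≤ d + 1 := by exact_mod_cast hd
        rw [hdx]
        exact_mod_cast (by omega : e - 1 ≤ d)
      obtain ⟨Q', _, hQ', π', hs, hm, hiff⟩ := ih
        (Ideal.Quotient.lift (Ideal.span {x}) π (fun a ha => (Ideal.span_singleton_le_iff_mem _).2 hx ha))
        (Ideal.Quotient.lift_surjective_of_surjective _ _ hπ) hd'
      exact ⟨Q', inferInstance, hQ', π', hs, hm, (cutBy_step π hπ hx hx2).trans hiff⟩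

/-- Being cut out by a regular sequence does not depend on the regular local ring. -/
theorem cutBy_iff_of_surjective {Q Q' C : Type u} [CommRing Q] [CommRing Q'] [CommRing C] [IsRegularLocalRing Q]
    [IsRegularLocalRing Q'] [Nontrivial C] (π : Q →+* C) (π' : Q' →+* C) (hπ : Function.Surjective π)
    (hπ' : Function.Surjective π') : CutBy π ↔ CutBy π' := by
  obtain ⟨d, hd⟩ := exists_nat_ringKrullDim' Q
  obtain ⟨d', hd'⟩ := exists_nat_ringKrullDim' Q'
  obtain ⟨P, _, _, ρ, hρ, hm, h1⟩ := exists_minimal d π hπ hd.le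
  obtain ⟨P', _, _, ρ', hρ', hm', h2⟩ := exists_minimal d' π' hπ' hd'.le
  rw [h1, h2]
  exact ⟨cutBy_of_minimal ρ' ρ hρ' hρ hm' hm, cutBy_of_minimal ρ ρ' hρ hρ' hm hm'⟩

/-- The completion is a complete intersection iff some, equivalently every, presentation by a regular
local ring is cut out by a regular sequence. -/
theorem isCompleteIntersection_iff_cutBy {R C : Type u} [CommRing R] [IsRegularLocalRing R] [CommRing C]
    [IsLocalRing C] (π : R →+* C) (hπ : Function.Surjective π) :
    Pi1.IsCompleteIntersection C ↔ CutBy π := by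
  classical
  haveI : IsNoetherianRing C := isNoetherianRing_of_surjective R C π hπ
  have hne : maximalIdeal R ≠ ⊤ := (maximalIdeal.isMaximal R).ne_top
  have hneC : maximalIdeal C ≠ ⊤ := (maximalIdeal.isMaximal C).ne_top
  let Rh := AdicCompletion (maximalIdeal R) R
  let Ch := AdicCompletion (maximalIdeal C) C
  haveI := RegLocal.isLocalRing_completion R (maximalIdeal R) hne
  haveI := RegLocal.isLocalRing_completion C (maximalIdeal C) hneC
  haveI : IsRegularLocalRing Rh := (RegLocal.isRegularLocalRing_completion_iff R (maximalIdeal R) hne).1 inferInstance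
  haveI := RegLocal.faithfullyFlat_completion R (maximalIdeal R) hne
  let I := RingHom.ker π
  let e₀ : R ⧸ I ≃+* C := RingHom.quotientKerEquivOfSurjective hπ
  haveI : IsLocalRing (R ⧸ I) := e₀.symm.isLocalRing
  haveI : IsNoetherianRing (R ⧸ I) := inferInstance
  obtain ⟨e₁, -⟩ := CMCat.exists_complQuotEquiv (A := R) I
  have hmax : maximalIdeal (R ⧸ I) = (maximalIdeal C).comap e₀.toRingHom := by
    ext z
    simp [IsLocalRing.mem_maximalIdeal, mem_nonunits_iff]
  have hpow : ∀ n, maximalIdeal (R ⧸ I) ^ n = (maximalIdeal C ^ n).comap e₀.toRingHom := fun n => by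
    have h1 : (maximalIdeal (R ⧸ I)).map e₀.toRingHom = maximalIdeal C := by
      rw [hmax]; exact Ideal.map_comap_of_surjective _ e₀.surjective _
    rw [← h1, ← Ideal.map_pow]
    exact (Ideal.comap_map_of_bijective e₀.toRingHom e₀.bijective).symm
  obtain ⟨e₂, -⟩ := SectionComplLib.exists_completionEquiv (maximalIdeal (R ⧸ I)) (maximalIdeal C) e₀.toRingHom
    (fun n => (hpow n).le) (fun n => ⟨Ideal.quotientMap_injective' (hpow n).ge,
      Ideal.quotientMap_surjective e₀.surjective⟩)
  let e := e₁.trans e₂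
  let πh : Rh →+* Ch := e.toRingHom.comp (Ideal.Quotient.mk (I.map (algebraMap R Rh)))
  have hπh : Function.Surjective πh := e.surjective.comp Ideal.Quotient.mk_surjective
  have hkh : RingHom.ker πh = I.map (algebraMap R Rh) := by
    rw [← RingHom.comap_ker, (RingHom.injective_iff_ker_eq_bot e.toRingHom).1 e.injective, ← RingHom.ker_eq_comap_bot,
      Ideal.mk_ker]
  constructor
  · rintro ⟨B, _, hB, rs, hmem, hreg, ⟨eB⟩⟩
    haveI := hB
    let πB : B →+* Ch := eB.symm.toRingHom.comp (Ideal.Quotient.mk _)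
    have hπB : Function.Surjective πB := eB.symm.surjective.comp Ideal.Quotient.mk_surjective
    have hcB : CutBy πB := cutBy_of_isRegular πB hπB rs hreg (by
      rw [← RingHom.comap_ker, (RingHom.injective_iff_ker_eq_bot eB.symm.toRingHom).1 eB.symm.injective, ← RingHom.ker_eq_comap_bot,
        Ideal.mk_ker])
    obtain ⟨c, ⟨f, hf⟩, hd⟩ := (cutBy_iff_of_surjective πB πh hπB hπh).1 hcB
    rw [RegLocal.ringKrullDim_completion R _ hne, RegLocal.ringKrullDim_completion C _ hneC] at hd
    obtain ⟨n, g, hgI, hgirr, u, hu, hgI'⟩ := exists_irred (IsNoetherian.noetherian I) (maximalIdeal R)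
    have hu' : IsUnit u := IsLocalRing.notMem_maximalIdeal.1 hu
    have hI : I = Ideal.span (Set.range g) := le_antisymm
      (fun z hz => (Ideal.unit_mul_mem_iff_mem _ hu').1 (hgI' z hz))
      (Ideal.span_le.2 (by rintro _ ⟨i, rfl⟩; exact hgI i))
    have hirr : Irred (algebraMap R Rh ∘ g) := fun k hk => by
      refine hgirr k 1 (fun h1 => hne ((Ideal.eq_top_iff_one _).2 h1)) ?_
      rw [one_mul, ← Ideal.comap_map_eq_self_of_faithfullyFlat (B := Rh) (Ideal.span (g '' {k}ᶜ)), Ideal.mem_comap,
        Ideal.map_span, ← Set.image_comp]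
      exact hk
    have hn : n ≤ c := by
      have := card_le_of_irred _ hirr (List.ofFn f) (by
        rw [Set.range_comp, ← Ideal.map_span, ← hI, ← hkh, hf]
        unfold Ideal.ofList
        congr 1
        ext z
        simp [List.mem_ofFn])
      simpa using this
    refine ⟨c, ⟨fun j => if h : (j : ℕ) < n then g ⟨j, h⟩ else 0, ?_⟩, hd⟩
    show I = _
    rw [hI]
    refine le_antisymm (Ideal.span_le.2 ?_) (Ideal.span_le.2 ?_)
    · rintro _ ⟨i, rfl⟩
      exact Ideal.subset_span ⟨⟨i, i.2.trans_le hn⟩, by simp⟩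
    · rintro _ ⟨j, rfl⟩
      dsimp only
      split
      · exact Ideal.subset_span ⟨_, rfl⟩
      · exact zero_mem _
  · intro h
    obtain ⟨rs, hreg, hk⟩ := isRegular_of_cutBy π hπ h
    refine ⟨Rh, inferInstance, inferInstance, rs.map (algebraMap R Rh), fun r hr => ?_, hreg.of_faithfullyFlat,
      ⟨e.symm.trans (Ideal.quotEquivOfEq ?_)⟩⟩
    · obtain ⟨a, ha, rfl⟩ := List.mem_map.1 hr
      rw [RegLocal.maximalIdeal_completion R _ hne]
      exact Ideal.mem_map_of_mem _ (IsLocalRing.le_maximalIdeal (RingHom.ker_ne_top π) (hk ▸ Ideal.subset_span ha))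
    · show (RingHom.ker π).map (algebraMap R Rh) = _
      rw [hk, Ideal.map_ofList]

/-- For local algebras essentially of finite type over a field the two notions agree. -/
theorem isCompleteIntersection_iff_isCIOver {k S : Type u} [Field k] [CommRing S] [IsLocalRing S] [Algebra k S]
    [Algebra.EssFiniteType k S] : Pi1.IsCompleteIntersection S ↔ Synt.IsCIOver k S := by
  obtain ⟨n, Q, hQ, π, hπ⟩ := exists_regular_presentation (k := k) (S := S)
  haveI := regularLocal_mvPolynomial Q
  rw [isCIOver_iff_cutBy π hπ]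
  exact isCompleteIntersection_iff_cutBy π.toRingHom hπ

end Groth.Agent.CILib
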