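import Groth.Agent.CILib.CIMorphism
import Groth.Agent.CILib.KoszulRegular
import Groth.Agent.CILib.KoszulScheme
import Groth.Agent.CILib.LCIFlat
import Groth.Agent.RegSeqSlice.Scheme
import Groth.Agent.RegIdealLib.Near
import Groth.Agent.FlatSeqLib.Basic
import Groth.Prelude.Def_Mor2

/-!
# Regular immersions of flat families, read on the fibres
-/

set_option autoImplicit false
set_option linter.style.haveILetI false
set_option backward.isDefEq.respectTransparency false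
set_option maxHeartbeats 1600000

universe u

open CategoryTheory CategoryTheory.Limits AlgebraicGeometry IsLocalRing RingTheory.Sequence

namespace Groth.Agent.CILib

theorem nonempty_fiberStalk_quot_equiv {X S : Scheme.{u}} (f : X ⟶ S) (x : X) :
    Nonempty ((X.presheaf.stalk x ⧸ (maximalIdeal (S.presheaf.stalk (f x))).map (f.stalkMap x).hom) ≃+*
      CInt.fiberStalk f x) := by
  have key : ∀ z : X, z = x →
      Nonempty ((X.presheaf.stalk z ⧸ (maximalIdeal (S.presheaf.stalk (f z))).map (f.stalkMap z).hom) ≃+*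
        CInt.fiberStalk f x) →
      Nonempty ((X.presheaf.stalk x ⧸ (maximalIdeal (S.presheaf.stalk (f x))).map (f.stalkMap x).hom) ≃+*
        CInt.fiberStalk f x) := by
    rintro z rfl h; exact h
  exact key _ (f.fiberι_asFiber x) ⟨(Ideal.quotEquivOfEq (Groth.Agent.FlatLocus.ker_fiberι_stalkMap ..).symm).trans
    (RingHom.quotientKerEquivOfSurjective
      (f := ((f.fiberι (f.base x)).stalkMap (f.asFiber x)).hom)
      (Groth.Agent.FlatLocus.fiberι_stalkMap_surjective f _ _))⟩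

/-- Nakayama for an ideal with flat quotient. -/
theorem le_of_le_sup_of_flat_quotient {A C : Type u} [CommRing A] [IsLocalRing A] [CommRing C] [IsLocalRing C]
    [Algebra A C] [IsLocalHom (algebraMap A C)] (I J : Ideal C) [Module.Flat A (C ⧸ I)] (hI : I.FG) (hJI : J ≤ I)
    (h : I ≤ J ⊔ (maximalIdeal A).map (algebraMap A C)) : I ≤ J := by
  refine Submodule.le_of_le_smul_of_le_jacobson_bot hI
    ((IsLocalRing.map_maximalIdeal_le (algebraMap A C)).trans (IsLocalRing.maximalIdeal_le_jacobson ⊥)) ?_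
  intro a ha
  obtain ⟨j, hj, z, hz, rfl⟩ := Submodule.mem_sup.1 (h ha)
  refine Submodule.add_mem_sup hj ?_
  have hzI : z ∈ I := by simpa using sub_mem ha (hJI hj)
  haveI : Module.Flat A (C ⧸ I.restrictScalars A) :=
    Module.Flat.of_linearEquiv (M := C ⧸ I) (Submodule.Quotient.restrictScalarsEquiv A I)
  have hz' : z ∈ (maximalIdeal A • ⊤ : Submodule A C) := by
    rw [LocFlat.mem_smul_top_iff (S := C), smul_eq_mul, Ideal.mul_top]
    exact hz
  have h2 := Groth.Agent.FlatSeqLib.inf_smul_le_of_flat_quotient (I.restrictScalars A) (maximalIdeal A) ⟨hzI, hz'⟩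
  refine Submodule.smul_induction_on h2 (fun r hr k hk => ?_) (fun u v hu hv => add_mem hu hv)
  rw [smul_eq_mul, Algebra.smul_def]
  exact Ideal.mul_mem_mul (Ideal.mem_map_of_mem _ hr) hk

theorem map_ker_quotientMap {O O' : Type u} [CommRing O] [CommRing O'] (σ : O →+* O') (hσ : Function.Surjective σ)
    (M : Ideal O) (M' : Ideal O') (hM : M' = M.map σ) :
    RingHom.ker (Ideal.quotientMap M' σ (Ideal.map_le_iff_le_comap.1 hM.ge)) =
      (RingHom.ker σ).map (Ideal.Quotient.mk M) := by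
  ext z
  obtain ⟨c, rfl⟩ := Ideal.Quotient.mk_surjective z
  rw [RingHom.mem_ker, Ideal.quotientMap_mk, Ideal.Quotient.eq_zero_iff_mem, hM, ← Ideal.mem_comap,
    Ideal.comap_map_of_surjective' _ hσ]
  constructor
  · intro h
    have h2 := Ideal.mem_map_of_mem (Ideal.Quotient.mk M) h
    rwa [Ideal.map_sup, Ideal.map_quotient_self, bot_sup_eq] at h2
  · intro h
    have h2 := Ideal.mem_comap.2 h
    rwa [Ideal.comap_map_of_surjective' _ Ideal.Quotient.mk_surjective, Ideal.mk_ker, sup_comm] at h2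

/-- Near a point where the fibre of the ambient family is regular and the fibre of a flat closed subfamily is a
complete intersection, the subfamily is cut out by a regular sequence. -/
theorem exists_regular_chart {X Y S : Scheme.{u}} (g : X ⟶ S) [Flat g] [LocallyOfFinitePresentation g]
    (f : Y ⟶ X) [IsClosedImmersion f] [Flat (f ≫ g)] [LocallyOfFinitePresentation (f ≫ g)] (y : Y)
    [IsRegularLocalRing (CInt.fiberStalk g (f y))] (hCI : Pi1.IsCompleteIntersection (CInt.fiberStalk (f ≫ g) y)) :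
    ∃ (D : X.Opens), IsAffineOpen D ∧ f y ∈ D ∧ ∃ rs : List Γ(X, D), IsRegular Γ(X, D) rs ∧
      RingHom.ker (f.app D).hom = Ideal.ofList rs := by
  classical
  let x := f y
  let φ : S.presheaf.stalk (g x) →+* X.presheaf.stalk x := (g.stalkMap x).hom
  let σ : X.presheaf.stalk x →+* Y.presheaf.stalk y := (f.stalkMap y).hom
  let φ' : S.presheaf.stalk (g x) →+* Y.presheaf.stalk y := ((f ≫ g).stalkMap y).hom
  have hcomp : φ' = σ.comp φ := congrArg CommRingCat.Hom.hom (Scheme.Hom.stalkMap_comp f g y)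
  have hσ : Function.Surjective σ := f.stalkMap_surjective y
  let m := maximalIdeal (S.presheaf.stalk (g x))
  obtain ⟨eX⟩ := nonempty_fiberStalk_quot_equiv g x
  obtain ⟨eY⟩ := nonempty_fiberStalk_quot_equiv (f ≫ g) y
  haveI : IsRegularLocalRing (X.presheaf.stalk x ⧸ m.map φ) := IsRegularLocalRing.of_ringEquiv eX.symm
  have hM : m.map φ' = (m.map φ).map σ := by rw [Ideal.map_map, hcomp]
  let π₀ := Ideal.quotientMap (m.map φ') σ (Ideal.map_le_iff_le_comap.1 hM.ge)
  let π : X.presheaf.stalk x ⧸ m.map φ →+* CInt.fiberStalk (f ≫ g) y := eY.toRingHom.comp π₀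
  have hπ : Function.Surjective π := eY.surjective.comp (Ideal.quotientMap_surjective hσ)
  have hkπ : RingHom.ker π = (RingHom.ker σ).map (Ideal.Quotient.mk (m.map φ)) := by
    rw [← map_ker_quotientMap σ hσ (m.map φ) (m.map φ') hM]
    ext z
    rw [RingHom.mem_ker, RingHom.mem_ker]
    exact eY.map_eq_zero_iff (x := π₀ z)
  obtain ⟨rs, hrs, hk⟩ := isRegular_of_cutBy π hπ ((isCompleteIntersection_iff_cutBy π hπ).1 hCI)
  have hlift : ∀ i : Fin rs.length, ∃ a ∈ RingHom.ker σ, Ideal.Quotient.mk (m.map φ) a = rs.get i := fun i =>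
    (Ideal.mem_map_iff_of_surjective _ Ideal.Quotient.mk_surjective).1
      (hkπ ▸ (hk ▸ Ideal.subset_span (List.get_mem rs i) : rs.get i ∈ RingHom.ker π))
  choose h hhI hhmk using hlift
  have hrsE : (List.ofFn fun i => Ideal.Quotient.mk (m.map φ) (h i)) = rs :=
    (congrArg List.ofFn (funext hhmk)).trans (List.ofFn_get rs)
  have hm : ∀ i, h i ∈ maximalIdeal (X.presheaf.stalk x) := fun i =>
    IsLocalRing.le_maximalIdeal (RingHom.ker_ne_top σ) (hhI i)
  have hwrs : IsWeaklyRegular (X.presheaf.stalk x ⧸ m.map φ)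
      (List.ofFn fun i => Ideal.Quotient.mk (m.map φ) (h i)) := hrsE.symm ▸ hrs.toIsWeaklyRegular
  obtain ⟨W, U, hW, hU, hx, e, b, hb, hflb⟩ :=
    Groth.Agent.RegSeqSlice.exists_flat_coordinates g x (Flat.stalkMap g x) h hm hwrs
  letI : Algebra Γ(S, W) Γ(X, U) := (g.appLE W U e).hom.toAlgebra
  have hwr : IsWeaklyRegular Γ(X, U) (List.ofFn b) := by
    letI : Algebra (MvPolynomial (Fin rs.length) Γ(S, W)) Γ(X, U) :=
      (MvPolynomial.aeval (R := Γ(S, W)) b).toRingHom.toAlgebra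
    haveI : Module.Flat (MvPolynomial (Fin rs.length) Γ(S, W)) Γ(X, U) := hflb
    have := Groth.Agent.RegSeqSlice.isWeaklyRegular_of_flat (A := Γ(S, W)) (B := Γ(X, U)) (n := rs.length)
    rwa [show (fun i : Fin rs.length => algebraMap (MvPolynomial (Fin rs.length) Γ(S, W)) Γ(X, U) (MvPolynomial.X i)) = b
      from funext fun i => MvPolynomial.aeval_X b i] at this
  have hc : IsClosedImmersion (f ∣_ U) :=
    IsZariskiLocalAtTarget.restrict (P := @IsClosedImmersion) (inferInstanceAs (IsClosedImmersion f)) U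
  obtain ⟨haff, hsurj⟩ := Groth.Agent.RegIdealLib.affine_and_surjective f hU hc
  let K := RingHom.ker (f.app U).hom
  have hKfg : K.FG := by
    haveI : Algebra.FinitePresentation Γ(S, W) Γ(X, U) := g.finitePresentation_appLE hW hU e
    have e' : f ⁻¹ᵁ U ≤ (f ≫ g) ⁻¹ᵁ W := fun z hz => e hz
    letI : Algebra Γ(S, W) Γ(Y, f ⁻¹ᵁ U) := ((f ≫ g).appLE W (f ⁻¹ᵁ U) e').hom.toAlgebra
    haveI : Algebra.FinitePresentation Γ(S, W) Γ(Y, f ⁻¹ᵁ U) := (f ≫ g).finitePresentation_appLE hW haff e'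
    let ψ : Γ(X, U) →ₐ[Γ(S, W)] Γ(Y, f ⁻¹ᵁ U) :=
      { (f.app U).hom with
        commutes' := fun a => by
          show f.app U (g.appLE W U e a) = (f ≫ g).appLE W (f ⁻¹ᵁ U) e' a
          rw [← CommRingCat.comp_apply, Scheme.Hom.app_eq_appLE, Scheme.Hom.appLE_comp_appLE] }
    exact Algebra.FinitePresentation.ker_fG_of_surjective ψ hsurj
  -- the stalk
  letI : Algebra Γ(X, U) (X.presheaf.stalk x) := (X.presheaf.germ U x hx).hom.toAlgebra
  haveI : IsLocalization.AtPrime (X.presheaf.stalk x) (hU.primeIdealOf ⟨x, hx⟩).asIdeal :=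
    hU.isLocalization_stalk ⟨x, hx⟩
  have hKO : RingHom.ker σ = K.map (algebraMap Γ(X, U) (X.presheaf.stalk x)) :=
    Groth.Agent.RegIdealLib.ker_stalkMap f hU hc y hx
  let J : Ideal (X.presheaf.stalk x) := Ideal.span (Set.range h)
  have hJb : J = (Ideal.span (Set.range b)).map (algebraMap Γ(X, U) (X.presheaf.stalk x)) := by
    rw [Ideal.map_span, ← Set.range_comp]
    exact congrArg (fun v => Ideal.span (Set.range v)) (funext fun i => (hb i).symm)
  have hJI : J ≤ RingHom.ker σ := Ideal.span_le.2 (by rintro _ ⟨i, rfl⟩; exact hhI i)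
  have hIJ : RingHom.ker σ ≤ J := by
    letI : Algebra (S.presheaf.stalk (g x)) (X.presheaf.stalk x) := φ.toAlgebra
    haveI : IsLocalHom (algebraMap (S.presheaf.stalk (g x)) (X.presheaf.stalk x)) :=
      inferInstanceAs (IsLocalHom (g.stalkMap x).hom)
    haveI : Module.Flat (S.presheaf.stalk (g x)) (X.presheaf.stalk x ⧸ RingHom.ker σ) := by
      letI : Algebra (S.presheaf.stalk (g x)) (Y.presheaf.stalk y) := φ'.toAlgebra
      haveI : Module.Flat (S.presheaf.stalk (g x)) (Y.presheaf.stalk y) := Flat.stalkMap (f ≫ g) y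
      exact Module.Flat.of_linearEquiv
        (AlgEquiv.ofRingEquiv (R := S.presheaf.stalk (g x)) (f := RingHom.quotientKerEquivOfSurjective hσ) fun a => by
          show σ (φ a) = φ' a
          rw [hcomp]; rfl).toLinearEquiv
    refine le_of_le_sup_of_flat_quotient (A := S.presheaf.stalk (g x)) _ J (hKO ▸ hKfg.map _) hJI ?_
    intro a ha
    have h1 : Ideal.Quotient.mk (m.map φ) a ∈ J.map (Ideal.Quotient.mk (m.map φ)) := by
      have h2 : Ideal.Quotient.mk (m.map φ) a ∈ RingHom.ker π := hkπ ▸ Ideal.mem_map_of_mem _ ha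
      rw [hk, ← hrsE] at h2
      refine (show Ideal.ofList (List.ofFn fun i => Ideal.Quotient.mk (m.map φ) (h i)) ≤ J.map _ from ?_) h2
      refine Ideal.span_le.2 fun z hz => ?_
      obtain ⟨i, rfl⟩ := List.mem_ofFn.1 hz
      exact Ideal.mem_map_of_mem _ (Ideal.subset_span ⟨i, rfl⟩)
    have h2 := Ideal.mem_comap.2 h1
    rwa [Ideal.comap_map_of_surjective' _ Ideal.Quotient.mk_surjective, Ideal.mk_ker] at h2
  have hIJ' : RingHom.ker σ = J := le_antisymm hIJ hJI
  let q := (hU.primeIdealOf ⟨x, hx⟩).asIdeal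
  obtain ⟨c₁, hc₁, hc₁'⟩ := exists_mul_mem_of_fg (J := Ideal.span (Set.range b)) hKfg q fun a ha =>
    exists_mul_mem_of_localization (M := q.primeCompl) (L := X.presheaf.stalk x)
      (hJb ▸ hIJ' ▸ hKO ▸ Ideal.mem_map_of_mem _ ha)
  obtain ⟨c₂, hc₂, hc₂'⟩ := exists_mul_mem_of_fg (J := K) (I := Ideal.span (Set.range b))
    (Submodule.fg_span (Set.finite_range b)) q fun a ha =>
    exists_mul_mem_of_localization (M := q.primeCompl) (L := X.presheaf.stalk x)
      (hKO ▸ hIJ'.symm ▸ hJb.symm ▸ Ideal.mem_map_of_mem _ ha)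
  let c := c₁ * c₂
  have hcq : c ∉ q := fun h => ((hU.primeIdealOf ⟨x, hx⟩).2.mem_or_mem h).elim hc₁ hc₂
  have hxD : x ∈ X.basicOpen c := (X.mem_basicOpen c x hx).2
    (IsLocalization.map_units (X.presheaf.stalk x) (⟨c, hcq⟩ : q.primeCompl))
  refine ⟨X.basicOpen c, hU.basicOpen c, hxD, ?_⟩
  letI : Algebra Γ(X, U) Γ(X, X.basicOpen c) := (X.presheaf.map (homOfLE (X.basicOpen_le c)).op).hom.toAlgebra
  haveI : IsLocalization.Away c Γ(X, X.basicOpen c) :=
    hU.isLocalization_of_eq_basicOpen c (homOfLE (X.basicOpen_le c)) rfl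
  letI : Algebra Γ(Y, f ⁻¹ᵁ U) Γ(Y, f ⁻¹ᵁ X.basicOpen c) :=
    (Y.presheaf.map (homOfLE (f.preimage_mono (X.basicOpen_le c))).op).hom.toAlgebra
  haveI : IsLocalization.Away ((f.app U).hom c) Γ(Y, f ⁻¹ᵁ X.basicOpen c) :=
    haff.isLocalization_of_eq_basicOpen _ (homOfLE (f.preimage_mono (X.basicOpen_le c))) (f.preimage_basicOpen c)
  haveI : Module.Flat Γ(X, U) Γ(X, X.basicOpen c) := IsLocalization.flat _ (Submonoid.powers c)
  have hu : IsUnit (algebraMap Γ(X, U) Γ(X, X.basicOpen c) c) := IsLocalization.Away.algebraMap_isUnit c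
  rw [map_mul] at hu
  have hker : RingHom.ker (f.app (X.basicOpen c)).hom =
      Ideal.ofList ((List.ofFn b).map (algebraMap Γ(X, U) Γ(X, X.basicOpen c))) := by
    rw [ker_map_away c (f.app U).hom (f.app (X.basicOpen c)).hom ?_, ← Ideal.map_ofList,
      show Ideal.ofList (List.ofFn b) = Ideal.span (Set.range b) by
        unfold Ideal.ofList; congr 1; ext z; simp only [Set.mem_range, List.mem_ofFn]; exact Iff.rfl]
    · refine le_antisymm (Ideal.map_le_iff_le_comap.2 fun a ha => ?_) (Ideal.map_le_iff_le_comap.2 fun a ha => ?_)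
      · have h1 := Ideal.mem_map_of_mem (algebraMap Γ(X, U) Γ(X, X.basicOpen c)) (hc₁' a ha)
        rwa [map_mul, Ideal.unit_mul_mem_iff_mem _ (isUnit_of_mul_isUnit_left hu)] at h1
      · have h1 := Ideal.mem_map_of_mem (algebraMap Γ(X, U) Γ(X, X.basicOpen c)) (hc₂' a ha)
        rwa [map_mul, Ideal.unit_mul_mem_iff_mem _ (isUnit_of_mul_isUnit_right hu)] at h1
    · rw [RingHom.algebraMap_toAlgebra, RingHom.algebraMap_toAlgebra, ← CommRingCat.hom_comp, ← CommRingCat.hom_comp]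
      exact congrArg CommRingCat.Hom.hom (f.naturality (homOfLE (X.basicOpen_le c)).op)
  refine ⟨_, ⟨IsWeaklyRegular.of_flat (S := Γ(X, X.basicOpen c)) hwr, ?_⟩, hker⟩
  rw [smul_eq_mul, Ideal.mul_top, ← hker]
  intro htop
  have h1 : (1 : Γ(X, X.basicOpen c)) ∈ RingHom.ker (f.app (X.basicOpen c)).hom := htop ▸ Submodule.mem_top
  rw [RingHom.mem_ker, map_one] at h1
  have h2 := congrArg (Y.presheaf.germ (f ⁻¹ᵁ X.basicOpen c) y hxD).hom h1
  rw [map_one, map_zero] at h2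
  exact one_ne_zero h2

/-- The converse: a flat regularly immersed subfamily of a syntomic family is syntomic. -/
theorem isCompleteIntersection_fiberStalk_of_regular {X Y S : Scheme.{u}} (g : X ⟶ S) [Flat g]
    [LocallyOfFinitePresentation g] (f : Y ⟶ X) [IsClosedImmersion f] [Flat (f ≫ g)]
    [LocallyOfFinitePresentation (f ≫ g)] (y : Y) (hg : Pi1.IsCompleteIntersection (CInt.fiberStalk g (f y)))
    {U : X.Opens} (hU : IsAffineOpen U) (hy : f y ∈ U) (rs : List Γ(X, U)) (hrs : IsWeaklyRegular Γ(X, U) rs)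
    (hker : RingHom.ker (f.app U).hom = Ideal.ofList rs) :
    Pi1.IsCompleteIntersection (CInt.fiberStalk (f ≫ g) y) := by
  obtain ⟨U₀, V₀, e₀, hy₀, hs₀⟩ := (isSyntomicAt_iff_isCompleteIntersection g (f y)).2 hg
  obtain ⟨c, c₀, hcc, hyc⟩ := exists_basicOpen_le_affine_inter hU U₀.2 (f y) ⟨hy, hy₀⟩
  have haff : IsAffineOpen (f ⁻¹ᵁ U) := hU.preimage f
  let D := X.basicOpen c
  have hD : IsAffineOpen D := hU.basicOpen c
  have hDV : D ≤ g ⁻¹ᵁ V₀.1 := hcc.le.trans ((X.basicOpen_le c₀).trans e₀)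
  have hDs : IsSyntomicHom (g.appLE V₀.1 D hDV).hom := by
    letI : Algebra Γ(S, V₀.1) Γ(X, U₀.1) := (g.appLE V₀.1 U₀.1 e₀).hom.toAlgebra
    have hle : D ≤ U₀.1 := hcc.le.trans (X.basicOpen_le c₀)
    letI : Algebra Γ(X, U₀.1) Γ(X, D) := (X.presheaf.map (homOfLE hle).op).hom.toAlgebra
    haveI : IsLocalization.Away c₀ Γ(X, D) := U₀.2.isLocalization_of_eq_basicOpen c₀ (homOfLE hle) hcc
    letI : Algebra Γ(S, V₀.1) Γ(X, D) := (g.appLE V₀.1 D hDV).hom.toAlgebra
    haveI : IsScalarTower Γ(S, V₀.1) Γ(X, U₀.1) Γ(X, D) := IsScalarTower.of_algebraMap_eq fun a => by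
      show g.appLE V₀.1 D hDV a = X.presheaf.map (homOfLE hle).op (g.appLE V₀.1 U₀.1 e₀ a)
      rw [← CommRingCat.comp_apply, Scheme.Hom.appLE_map]
    exact isSyntomicHom_algebraMap.2 (isSyntomic_away hs₀ c₀ Γ(X, D))
  obtain ⟨l, hl, hlK⟩ := exists_ker_app_basicOpen f hU haff c rs (isKoszulRegularSeq_of_isWeaklyRegular rs hrs) hker
  have haffD : IsAffineOpen (f ⁻¹ᵁ D) := hD.preimage f
  refine (isSyntomicAt_iff_isCompleteIntersection (f ≫ g) y).1
    ⟨⟨f ⁻¹ᵁ D, haffD⟩, V₀, fun z hz => hDV hz, hyc, ?_⟩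
  letI : Algebra Γ(S, V₀.1) Γ(X, D) := (g.appLE V₀.1 D hDV).hom.toAlgebra
  letI : Algebra Γ(X, D) Γ(Y, f ⁻¹ᵁ D) := (f.app D).hom.toAlgebra
  have e' : f ⁻¹ᵁ D ≤ (f ≫ g) ⁻¹ᵁ V₀.1 := fun z hz => hDV hz
  letI : Algebra Γ(S, V₀.1) Γ(Y, f ⁻¹ᵁ D) := ((f ≫ g).appLE V₀.1 (f ⁻¹ᵁ D) e').hom.toAlgebra
  haveI : IsScalarTower Γ(S, V₀.1) Γ(X, D) Γ(Y, f ⁻¹ᵁ D) := IsScalarTower.of_algebraMap_eq fun a => by
    show (f ≫ g).appLE V₀.1 (f ⁻¹ᵁ D) e' a = f.app D (g.appLE V₀.1 D hDV a)
    rw [← CommRingCat.comp_apply, Scheme.Hom.app_eq_appLE, Scheme.Hom.appLE_comp_appLE]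
  have hDs' : Synt.IsSyntomic Γ(S, V₀.1) Γ(X, D) := hDs
  have hfl : Module.Flat Γ(S, V₀.1) Γ(Y, f ⁻¹ᵁ D) :=
    HasRingHomProperty.appLE @Flat (f ≫ g) inferInstance V₀ ⟨f ⁻¹ᵁ D, haffD⟩ e'
  have hsurjD : Function.Surjective (f.app D).hom := f.app_surjective D hD
  refine isSyntomic_iff_flat_and_isLCI.2 ⟨hfl, isLCI_trans (isSyntomic_iff_flat_and_isLCI.1 hDs').2
    (isLCI_of_surjective hsurjD ?_)⟩
  rw [RingHom.algebraMap_toAlgebra, hlK]
  exact isKoszulRegularIdeal_of_nearGen fun p _ _ => ⟨1, (Ideal.ne_top_iff_one p).1 (Ideal.IsPrime.ne_top ‹_›), l,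
    fun L _ _ _ _ => ⟨Groth.Agent.RelDivLib.isKoszulRegularSeq_flat hl, Ideal.map_ofList _ _⟩⟩

end Groth.Agent.CILib
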