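import Groth.Agent.CILib.RelGCIFlatBC
import Groth.Agent.CILib.Syntomic
import Groth.Agent.CMGraded.Glue
import Groth.Agent.QReg16Lib.Basic
import Groth.Agent.QRegLib.Basic

/-!
Relative global complete intersections are syntomic, with free conormal module.
-/

set_option autoImplicit false
set_option backward.isDefEq.respectTransparency false

universe u

open TensorProduct MvPolynomial RingTheory.Sequence IsLocalRing

namespace Groth.Agent.CILib

variable {R : Type u} [CommRing R] {n c : ℕ}

theorem ofList_map_ofFn {A : Type u} [CommRing A] (F : Fin c → MvPolynomial (Fin n) R) (f : MvPolynomial (Fin n) R →+* A) :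
    Ideal.ofList ((List.ofFn F).map f) = (Ideal.span (Set.range F)).map f := by
  rw [← Ideal.map_ofList]
  congr 1
  rw [Ideal.ofList]
  congr 1
  ext x
  simp [List.mem_ofFn]

theorem flat_atPrime_quotient {R P : Type u} [CommRing R] [CommRing P] [Algebra R P] (I : Ideal P)
    (h : ∀ (q : Ideal P) [q.IsPrime], I ≤ q →
      Module.Flat R (Localization.AtPrime q ⧸ I.map (algebraMap P (Localization.AtPrime q))))
    (m : Ideal (P ⧸ I)) [m.IsPrime] : Module.Flat R (Localization.AtPrime m) := by
  let φ : P →ₐ[R] P ⧸ I := Ideal.Quotient.mkₐ R I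
  haveI : (m.comap φ.toRingHom).IsPrime := Ideal.IsPrime.comap _
  let π₀ := Localization.localRingHom (m.comap φ.toRingHom) m φ.toRingHom rfl
  let π : Localization.AtPrime (m.comap φ.toRingHom) →ₐ[R] Localization.AtPrime m :=
    { toRingHom := π₀
      commutes' := fun a => by
        show π₀ _ = _
        rw [IsScalarTower.algebraMap_apply R P (Localization.AtPrime (m.comap φ.toRingHom)),
          Localization.localRingHom_to_map, IsScalarTower.algebraMap_apply R (P ⧸ I) (Localization.AtPrime m)]
        rfl }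
  have hφ : Function.Surjective φ.toRingHom := Ideal.Quotient.mk_surjective
  have hπ : Function.Surjective π := CMGraded.localRingHom_surjective hφ _ m rfl
  have hker : RingHom.ker π = I.map (algebraMap P (Localization.AtPrime (m.comap φ.toRingHom))) := by
    show RingHom.ker π₀ = _
    rw [CMGraded.ker_localRingHom hφ _ m rfl]
    show Ideal.map _ (RingHom.ker (Ideal.Quotient.mk _)) = _
    rw [Ideal.mk_ker]
  have hq : I ≤ m.comap φ.toRingHom := fun x hx => by
    show Ideal.Quotient.mk _ x ∈ m
    rw [Ideal.Quotient.eq_zero_iff_mem.2 hx]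
    exact m.zero_mem
  haveI := h _ hq
  exact Module.Flat.of_linearEquiv
    ((Ideal.quotientEquivAlgOfEq R hker.symm).trans (Ideal.quotientKerAlgEquivOfSurjective hπ)).toLinearEquiv.symm

theorem flat_quotient_of_local {R P : Type u} [CommRing R] [CommRing P] [Algebra R P] (I : Ideal P)
    (h : ∀ (q : Ideal P) [q.IsPrime], I ≤ q →
      Module.Flat R (Localization.AtPrime q ⧸ I.map (algebraMap P (Localization.AtPrime q)))) :
    Module.Flat R (P ⧸ I) :=
  Module.flat_of_isLocalized_maximal (P ⧸ I) (P ⧸ I)
    (fun (m : Ideal (P ⧸ I)) [m.IsMaximal] => Localization.AtPrime m)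
    (fun (m : Ideal (P ⧸ I)) [m.IsMaximal] => Algebra.linearMap (P ⧸ I) (Localization.AtPrime m))
    fun m _ => flat_atPrime_quotient I h m

theorem flat_of_isRelGCI (F : Fin c → MvPolynomial (Fin n) R) (h : Synt.IsRelGCI R n c F) :
    Module.Flat R (Synt.RelGCIRing R n c F) :=
  flat_quotient_of_local _ fun q _ hq => by
    have := (regular_flat_of_isRelGCI F h q hq).2 c
    rwa [List.take_of_length_le (by simp), ofList_map_ofFn] at this

theorem isSyntomic_of_isRelGCI (F : Fin c → MvPolynomial (Fin n) R) (h : Synt.IsRelGCI R n c F) :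
    Synt.IsSyntomic R (Synt.RelGCIRing R n c F) := by
  refine ⟨flat_of_isRelGCI F h, finitePresentation F, fun p => ?_⟩
  let κ := p.asIdeal.ResidueField
  refine isLCIOver_congr (baseChangeEquiv κ F).symm ?_
  rcases subsingleton_or_nontrivial (Synt.RelGCIRing κ n c (mapF κ F)) with hs | hs
  · exact isLCIOver_of_subsingleton _
  · obtain ⟨hcn, hd⟩ := dimOK_iff.1 (dimOK_of_field h κ) hs
    exact isLCIOver_of_isGlobalCI (Or.inr ⟨n, c, hcn, Ideal.Quotient.mkₐ κ _, mapF κ F,
      Ideal.Quotient.mk_surjective, Ideal.mk_ker, hd⟩)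

theorem isRegular_of_isRelGCI (F : Fin c → MvPolynomial (Fin n) R) (h : Synt.IsRelGCI R n c F)
    (q : Ideal (MvPolynomial (Fin n) R)) [q.IsPrime] (hq : Ideal.span (Set.range F) ≤ q) :
    IsRegular (Localization.AtPrime q)
        ((List.ofFn F).map (algebraMap (MvPolynomial (Fin n) R) (Localization.AtPrime q))) := by
  refine ⟨(regular_flat_of_isRelGCI F h q hq).1, fun h' => ?_⟩
  rw [smul_eq_mul, Ideal.mul_top, ofList_map_ofFn] at h'
  exact (maximalIdeal.isMaximal (Localization.AtPrime q)).ne_top (top_le_iff.1 (h'.le.trans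
    ((Ideal.map_mono hq).trans (Localization.AtPrime.map_eq_maximalIdeal (I := q)).le)))

theorem mem_of_sum_mem_sq (F : Fin c → MvPolynomial (Fin n) R) (h : Synt.IsRelGCI R n c F)
    (r : Fin c → MvPolynomial (Fin n) R) (hr : ∑ j, r j * F j ∈ Ideal.span (Set.range F) ^ 2) (j : Fin c) :
    r j ∈ Ideal.span (Set.range F) := by
  refine Ideal.mem_of_localization_maximal fun q _ => ?_
  let P := MvPolynomial (Fin n) R
  let L := Localization.AtPrime q
  by_cases hq : Ideal.span (Set.range F) ≤ q
  · have e : (Ideal.span (Set.range F)).map (algebraMap P L) = Ideal.span (Set.range fun i => algebraMap P L (F i)) := by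
      rw [Ideal.map_span, ← Set.range_comp]; rfl
    rw [e]
    have hw := (regular_flat_of_isRelGCI F h q hq).1
    rw [List.map_ofFn] at hw
    refine QReg16Lib.mem_of_sum_mem_sq (QRegLib.isQuasiRegular_of_isWeaklyRegular _ hw) (fun i => algebraMap P L (r i)) ?_ j
    show _ ∈ Ideal.span (Set.range fun i => algebraMap P L (F i)) ^ 2
    rw [← e, ← Ideal.map_pow]
    simpa [map_sum] using Ideal.mem_map_of_mem (algebraMap P L) hr
  · obtain ⟨x, hx, hxq⟩ := SetLike.not_le_iff_exists.1 hq
    rw [Ideal.eq_top_of_isUnit_mem _ (Ideal.mem_map_of_mem (algebraMap P L) hx)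
      (IsLocalization.map_units L (⟨x, hxq⟩ : q.primeCompl))]
    trivial

theorem linearIndependent_cotangent (F : Fin c → MvPolynomial (Fin n) R) (h : Synt.IsRelGCI R n c F) :
    LinearIndependent (Synt.RelGCIRing R n c F)
      (fun i : Fin c => (Ideal.span (Set.range F)).toCotangent ⟨F i, Ideal.subset_span (Set.mem_range_self i)⟩) := by
  classical
  rw [Fintype.linearIndependent_iff]
  intro r hr j
  choose s hs using fun j => Ideal.Quotient.mk_surjective (r j)
  have h' : (Ideal.span (Set.range F)).toCotangent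
      (∑ j, s j • (⟨F j, Ideal.subset_span (Set.mem_range_self j)⟩ : Ideal.span (Set.range F))) = 0 := by
    rw [map_sum, ← hr]
    refine Finset.sum_congr rfl fun j _ => ?_
    rw [map_smul, ← hs j, ← Ideal.Quotient.algebraMap_eq, algebraMap_smul]
  rw [Ideal.toCotangent_eq_zero, Submodule.coe_sum] at h'
  rw [← hs j, Ideal.Quotient.eq_zero_iff_mem]
  exact mem_of_sum_mem_sq F h s h' j

end Groth.Agent.CILib
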