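import Groth.Agent.CILib.RelGCILift
import Groth.Agent.CILib.RelGCISyntomic
import Groth.Agent.CILib.LCIPoint

/-!
Syntomic neighbourhoods through the local rings.
-/

set_option autoImplicit false
set_option backward.isDefEq.respectTransparency false

universe u

open TensorProduct

namespace Groth.Agent.CILib

theorem exists_atPrime_equiv_of_away {k A B : Type u} [CommRing k] [CommRing A] [CommRing B] [Algebra k A] [Algebra k B]
    [Algebra A B] [IsScalarTower k A B] (a : A) [IsLocalization.Away a B] (P : Ideal A) [P.IsPrime] (ha : a ∉ P) :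
    ∃ (P' : Ideal B) (_ : P'.IsPrime), P'.comap (algebraMap A B) = P ∧
      Nonempty (Localization.AtPrime P' ≃ₐ[k] Localization.AtPrime P) := by
  have hd : Disjoint (Submonoid.powers a : Set A) P := Set.disjoint_left.2 fun x ⟨m, hm⟩ hx =>
    ha (‹P.IsPrime›.mem_of_pow_mem m (show a ^ m ∈ P by rwa [show a ^ m = x from hm]))
  have hP : (P.map (algebraMap A B)).IsPrime := IsLocalization.isPrime_of_isPrime_disjoint (Submonoid.powers a) B P ‹_› hd
  have hc : (P.map (algebraMap A B)).comap (algebraMap A B) = P :=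
    IsLocalization.comap_map_of_isPrime_disjoint (Submonoid.powers a) B ‹_› hd
  refine ⟨P.map (algebraMap A B), hP, hc, ?_⟩
  haveI := hP
  haveI : ((P.map (algebraMap A B)).comap (algebraMap A B)).IsPrime := Ideal.IsPrime.comap _
  haveI : IsLocalization.AtPrime (Localization.AtPrime (P.map (algebraMap A B))) P := by
    have := IsLocalization.isLocalization_isLocalization_atPrime_isLocalization (Submonoid.powers a)
      (Localization.AtPrime (P.map (algebraMap A B))) (P.map (algebraMap A B))
    convert this using 1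
    rw [hc]
  exact ⟨(IsLocalization.algEquiv P.primeCompl (Localization.AtPrime (P.map (algebraMap A B)))
    (Localization.AtPrime P)).restrictScalars k⟩

variable {R S : Type u} [CommRing R] [CommRing S] [Algebra R S] (p : Ideal R) [p.IsPrime] (q : Ideal S) [q.IsPrime]
  (Q : Ideal (p.Fiber S)) [Q.IsPrime]

theorem fibre_away {g : S} (hg : g ∉ q)
    (hQ : Q.comap (Algebra.TensorProduct.includeRight : S →ₐ[R] p.Fiber S).toRingHom = q) :
    ∃ (q' : Ideal (Localization.Away g)) (_ : q'.IsPrime) (Q' : Ideal (p.Fiber (Localization.Away g))) (_ : Q'.IsPrime),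
      q'.comap (algebraMap S (Localization.Away g)) = q ∧
      Q'.comap (Algebra.TensorProduct.includeRight : Localization.Away g →ₐ[R] p.Fiber (Localization.Away g)).toRingHom = q' ∧
      Nonempty (Localization.AtPrime q' ≃ₐ[R] Localization.AtPrime q) ∧
      Nonempty (Localization.AtPrime Q' ≃ₐ[p.ResidueField] Localization.AtPrime Q) := by
  let K := p.ResidueField
  let T := Localization.Away g
  letI : Algebra (K ⊗[R] S) (K ⊗[R] T) :=
    (Algebra.TensorProduct.map (AlgHom.id K K) (IsScalarTower.toAlgHom R S T)).toAlgebra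
  haveI : IsScalarTower K (K ⊗[R] S) (K ⊗[R] T) := .of_algebraMap_eq fun a =>
    ((Algebra.TensorProduct.map (AlgHom.id K K) (IsScalarTower.toAlgHom R S T)).commutes a).symm
  haveI : IsLocalization.Away ((1 : K) ⊗ₜ[R] g) (K ⊗[R] T) := by
    have h := IsLocalization.tensorProduct_tensorProduct_right R K (Submonoid.powers g) T
      (by ext x; simp [RingHom.algebraMap_toAlgebra])
    unfold IsLocalization.Away
    rwa [Submonoid.map_powers] at h
  have hgQ : ((1 : K) ⊗ₜ[R] g : p.Fiber S) ∉ Q := fun h => hg (hQ ▸ h)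
  obtain ⟨q', hq', hqq, hqe⟩ := exists_atPrime_equiv_of_away (k := R) (B := T) g q hg
  obtain ⟨Q', hQ', hQQ, hQe⟩ := exists_atPrime_equiv_of_away (k := K) (B := K ⊗[R] T) ((1 : K) ⊗ₜ[R] g) Q hgQ
  refine ⟨q', hq', Q', hQ', hqq, ?_, hqe, hQe⟩
  haveI : (Q'.comap (Algebra.TensorProduct.includeRight : T →ₐ[R] K ⊗[R] T).toRingHom).IsPrime := Ideal.IsPrime.comap _
  have := PrimeSpectrum.localization_comap_injective T (Submonoid.powers g)
    (a₁ := ⟨Q'.comap (Algebra.TensorProduct.includeRight : T →ₐ[R] K ⊗[R] T).toRingHom, ‹_›⟩) (a₂ := ⟨q', hq'⟩)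
    (PrimeSpectrum.ext (by
      show Ideal.comap (algebraMap S T) (Q'.comap _) = q'.comap (algebraMap S T)
      rw [hqq, ← hQ, ← hQQ]
      ext s
      show ((1 : K) ⊗ₜ[R] algebraMap S T s : K ⊗[R] T) ∈ Q' ↔ algebraMap (K ⊗[R] S) (K ⊗[R] T) ((1 : K) ⊗ₜ[R] s) ∈ Q'
      simp [RingHom.algebraMap_toAlgebra]))
  exact congrArg PrimeSpectrum.asIdeal this

theorem conditions_of_syntomic {g : S} (hg : g ∉ q)
    (hQ : Q.comap (Algebra.TensorProduct.includeRight : S →ₐ[R] p.Fiber S).toRingHom = q)
    (h : Synt.IsSyntomic R (Localization.Away g)) :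
    Algebra.FinitePresentation R (Localization.Away g) ∧ Module.Flat R (Localization.AtPrime q) ∧
      Synt.IsCIOver p.ResidueField (Localization.AtPrime Q) := by
  obtain ⟨q', _, Q', _, -, -, ⟨e⟩, ⟨E⟩⟩ := fibre_away p q Q hg hQ
  haveI := h.1
  refine ⟨h.2.1, ?_, isCIOver_congr E (isCIOver_atPrime_of_isLCIOver (h.2.2 ⟨p, ‹_›⟩) Q')⟩
  haveI : Module.Flat R (Localization.AtPrime q') := Module.Flat.trans R (Localization.Away g) _
  exact Module.Flat.of_linearEquiv e.toLinearEquiv.symm

theorem exists_relGCI_of_conditions {g : S} (hg : g ∉ q)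
    (hQ : Q.comap (Algebra.TensorProduct.includeRight : S →ₐ[R] p.Fiber S).toRingHom = q)
    [Algebra.FinitePresentation R (Localization.Away g)] [Module.Flat R (Localization.AtPrime q)]
    (hCI : Synt.IsCIOver p.ResidueField (Localization.AtPrime Q)) :
    ∃ g' : S, g' ∉ q ∧ ∃ (n c : ℕ) (F : Fin c → MvPolynomial (Fin n) R), Synt.IsRelGCI R n c F ∧
      Nonempty (Localization.Away g' ≃ₐ[R] Synt.RelGCIRing R n c F) := by
  obtain ⟨q', _, Q', _, hqq, hQQ, ⟨e⟩, ⟨E⟩⟩ := fibre_away p q Q hg hQ
  haveI : Module.Flat R (Localization.AtPrime q') := Module.Flat.of_linearEquiv e.toLinearEquiv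
  obtain ⟨t, ht, n, c, F, hF, ⟨e'⟩⟩ := exists_relGCI_nhd p q' Q' hQQ (isCIOver_congr E.symm hCI)
  let T := Localization.Away g
  obtain ⟨m, s, hs⟩ := IsLocalization.Away.surj g t
  have hu : IsUnit (algebraMap S T g) := IsLocalization.Away.algebraMap_isUnit g
  haveI : IsLocalization.Away (algebraMap S T s) (Localization.Away t) :=
    IsLocalization.Away.of_associated (r := t) ⟨(hu.pow m).unit, hs⟩
  haveI : IsLocalization.Away (g * s) (Localization.Away t) :=
    IsLocalization.Away.mul' T (Localization.Away t) g s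
  have hs' : s ∉ q := fun h => by
    rw [← hqq, Ideal.mem_comap, ← hs] at h
    rcases (‹q'.IsPrime›).mem_or_mem h with h | h
    · exact ht h
    · exact hg (hqq ▸ (‹q'.IsPrime›).mem_of_pow_mem m h)
  exact ⟨g * s, fun hm => ((‹q.IsPrime›).mem_or_mem hm).elim hg hs', n, c, F, hF,
    ⟨((IsLocalization.algEquiv (Submonoid.powers (g * s)) (Localization.Away (g * s)) (Localization.Away t)).restrictScalars R).trans e'⟩⟩

end Groth.Agent.CILib
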