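import Groth.Agent.CILib.CompleteIntersection
import Groth.Agent.CILib.LCIMor
import Groth.Agent.FlatLocus.FibreStalk
import Groth.Agent.S9169
import Groth.Agent.S2858
import Groth.Prelude.Def_CInt

/-!
# Complete intersection morphisms are the syntomic morphisms
-/

set_option autoImplicit false
set_option linter.style.haveILetI false
set_option backward.isDefEq.respectTransparency false
set_option maxHeartbeats 1000000

universe u

open CategoryTheory CategoryTheory.Limits AlgebraicGeometry IsLocalRing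

namespace Groth.Agent.CILib

theorem isCompleteIntersection_of_ringEquiv {k S S' : Type u} [Field k] [CommRing S] [IsLocalRing S] [Algebra k S]
    [Algebra.EssFiniteType k S] [CommRing S'] [IsLocalRing S'] (e : S ≃+* S') :
    Pi1.IsCompleteIntersection S ↔ Pi1.IsCompleteIntersection S' := by
  obtain ⟨n, Q, hQ, π, hπ⟩ := exists_regular_presentation (k := k) (S := S)
  haveI := regularLocal_mvPolynomial Q
  rw [isCompleteIntersection_iff_cutBy π.toRingHom hπ,
    isCompleteIntersection_iff_cutBy (e.toRingHom.comp π.toRingHom) (e.surjective.comp hπ)]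
  have hk : RingHom.ker (e.toRingHom.comp π.toRingHom) = RingHom.ker π.toRingHom := by
    ext z
    simp [RingHom.mem_ker]
  unfold CutBy
  rw [hk, ringKrullDim_eq_of_ringEquiv e]

/-- The local ring of the fibre in terms of an affine chart. -/
theorem exists_fiberStalk_equiv {X S : Scheme.{u}} (f : X ⟶ S) (x : X) {U : X.Opens} (hU : IsAffineOpen U)
    {V : S.Opens} (hV : IsAffineOpen V) (e : U ≤ f ⁻¹ᵁ V) (hx : x ∈ U) :
    letI := (f.appLE V U e).hom.toAlgebra
    ∃ (Q : Ideal ((hV.primeIdealOf ⟨f x, e hx⟩).asIdeal.Fiber Γ(X, U))) (_ : Q.IsPrime),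
      Q.comap (Algebra.TensorProduct.includeRight.toRingHom) = (hU.primeIdealOf ⟨x, hx⟩).asIdeal ∧
      Nonempty (Localization.AtPrime Q ≃+* CInt.fiberStalk f x) := by
  letI := (f.appLE V U e).hom.toAlgebra
  let R := Γ(S, V)
  let T := Γ(X, U)
  let p := (hV.primeIdealOf ⟨f x, e hx⟩).asIdeal
  let q := (hU.primeIdealOf ⟨x, hx⟩).asIdeal
  have hqp : q.comap (algebraMap R T) = p :=
    congr($(IsAffineOpen.comap_primeIdealOf_appLE V hV U hU e hx).1)
  let E := PrimeSpectrum.preimageEquivFiber R T ⟨p, inferInstance⟩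
  let Q := E ⟨⟨q, inferInstance⟩, PrimeSpectrum.ext hqp⟩
  have hQ : Q.asIdeal.comap (Algebra.TensorProduct.includeRight : T →ₐ[R] p.Fiber T).toRingHom = q := by
    have := congrArg (fun x => x.1.asIdeal) (E.symm_apply_apply ⟨⟨q, inferInstance⟩, PrimeSpectrum.ext hqp⟩)
    exact this
  refine ⟨Q.asIdeal, inferInstance, hQ, ?_⟩
  let r := Q.asIdeal.comap (Algebra.TensorProduct.includeRight : T →ₐ[R] p.Fiber T)
  haveI : r.IsPrime := Ideal.IsPrime.comap _
  have hrq : r = q := hQ
  haveI : r.LiesOver p := ⟨by rw [hrq]; exact hqp.symm⟩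
  letI : Algebra (Localization.AtPrime p) (Localization.AtPrime r) := Localization.AtPrime.algebraOfLiesOver p r
  let e2 := Ideal.Fiber.localizationAlgEquivQuotient p Q.asIdeal
  -- the stalk
  letI : Algebra T (X.presheaf.stalk x) := (X.presheaf.germ U x hx).hom.toAlgebra
  haveI hloc : IsLocalization.AtPrime (X.presheaf.stalk x) q := hU.isLocalization_stalk ⟨x, hx⟩
  letI : Algebra R (S.presheaf.stalk (f x)) := (S.presheaf.germ V (f x) (e hx)).hom.toAlgebra
  haveI : IsLocalization.AtPrime (S.presheaf.stalk (f x)) p := hV.isLocalization_stalk ⟨f x, e hx⟩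
  haveI hloc' : IsLocalization r.primeCompl (X.presheaf.stalk x) := by
    have : r.primeCompl = q.primeCompl := by ext z; show z ∉ r ↔ z ∉ q; rw [hrq]
    rw [this]; exact hloc
  let φ := IsLocalization.algEquiv r.primeCompl (Localization.AtPrime r) (X.presheaf.stalk x)
  have hmax : (maximalIdeal (S.presheaf.stalk (f x))).map (f.stalkMap x).hom =
      (p.map (algebraMap R T)).map (algebraMap T (X.presheaf.stalk x)) := by
    rw [← IsLocalization.AtPrime.map_eq_maximalIdeal p (S.presheaf.stalk (f x)), Ideal.map_map, Ideal.map_map]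
    congr 1
    ext a
    show f.stalkMap x (S.presheaf.germ V (f x) (e hx) a) = X.presheaf.germ U x hx (f.appLE V U e a)
    rw [Scheme.Hom.germ_stalkMap_apply, Scheme.Hom.appLE, CommRingCat.comp_apply, TopCat.Presheaf.germ_res_apply]
  have hmap : (maximalIdeal (S.presheaf.stalk (f x))).map (f.stalkMap x).hom =
      (p.map (algebraMap R (Localization.AtPrime r))).map φ.toRingEquiv.toRingHom := by
    rw [hmax, Ideal.map_map, Ideal.map_map]
    congr 1
    ext a
    show algebraMap T _ (algebraMap R T a) = φ (algebraMap R (Localization.AtPrime r) a)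
    rw [IsScalarTower.algebraMap_apply R T (Localization.AtPrime r), AlgEquiv.commutes]
  let e3 := e2.toRingEquiv.trans (Ideal.quotientEquiv _ _ φ.toRingEquiv hmap)
  have e4 : Nonempty ((X.presheaf.stalk x ⧸ (maximalIdeal (S.presheaf.stalk (f x))).map (f.stalkMap x).hom) ≃+*
      CInt.fiberStalk f x) := by
    have key : ∀ z : X, z = x →
        Nonempty ((X.presheaf.stalk z ⧸ (maximalIdeal (S.presheaf.stalk (f z))).map (f.stalkMap z).hom) ≃+*
          CInt.fiberStalk f x) →
        Nonempty ((X.presheaf.stalk x ⧸ (maximalIdeal (S.presheaf.stalk (f x))).map (f.stalkMap x).hom) ≃+*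
          CInt.fiberStalk f x) := by
      rintro z rfl h; exact h
    exact key _ (f.fiberι_asFiber x) ⟨(Ideal.quotEquivOfEq (Groth.Agent.FlatLocus.ker_fiberι_stalkMap ..).symm).trans
      (RingHom.quotientKerEquivOfSurjective
        (f := ((f.fiberι (f.base x)).stalkMap (f.asFiber x)).hom)
        (Groth.Agent.FlatLocus.fiberι_stalkMap_surjective f _ _))⟩
  obtain ⟨e4⟩ := e4
  exact ⟨e3.trans e4⟩

/-- Pointwise criterion. -/
theorem isSyntomicAt_iff_isCompleteIntersection {X S : Scheme.{u}} (f : X ⟶ S) [Flat f]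
    [LocallyOfFinitePresentation f] (x : X) :
    Synt.IsSyntomicAt f x ↔ Pi1.IsCompleteIntersection (CInt.fiberStalk f x) := by
  have main : ∀ (U : X.affineOpens) (V : S.affineOpens) (e : U.1 ≤ f ⁻¹ᵁ V.1) (hx : x ∈ U.1),
      letI := (f.appLE V.1 U.1 e).hom.toAlgebra
      (∃ g : Γ(X, U.1), g ∉ (U.2.primeIdealOf ⟨x, hx⟩).asIdeal ∧ Synt.IsSyntomic Γ(S, V.1) (Localization.Away g)) ↔
        Pi1.IsCompleteIntersection (CInt.fiberStalk f x) := by
    intro U V e hx
    have hfl := HasRingHomProperty.appLE @Flat f inferInstance V U e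
    have hfp := HasRingHomProperty.appLE @LocallyOfFinitePresentation f inferInstance V U e
    algebraize [(f.appLE V.1 U.1 e).hom]
    haveI : Algebra.FinitePresentation Γ(S, V.1) Γ(X, U.1) := ‹_›
    obtain ⟨Q, _, hQ, ⟨E⟩⟩ := exists_fiberStalk_equiv f x U.2 V.2 e hx
    haveI : (U.2.primeIdealOf ⟨x, hx⟩).asIdeal.LiesOver (V.2.primeIdealOf ⟨f x, e hx⟩).asIdeal :=
      ⟨(congr($(IsAffineOpen.comap_primeIdealOf_appLE V.1 V.2 U.1 U.2 e hx).1)).symm⟩
    let K := (V.2.primeIdealOf ⟨f x, e hx⟩).asIdeal.ResidueField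
    haveI : Algebra.EssFiniteType ((V.2.primeIdealOf ⟨f x, e hx⟩).asIdeal.Fiber Γ(X, U.1)) (Localization.AtPrime Q) :=
      Algebra.EssFiniteType.of_isLocalization _ Q.primeCompl
    haveI : Algebra.EssFiniteType K (Localization.AtPrime Q) :=
      Algebra.EssFiniteType.comp K ((V.2.primeIdealOf ⟨f x, e hx⟩).asIdeal.Fiber Γ(X, U.1)) _
    rw [← isCompleteIntersection_of_ringEquiv (k := K) (S := Localization.AtPrime Q) E,
      isCompleteIntersection_iff_isCIOver (k := K)]
    refine (Groth.Agent.S9169.result Γ(S, V.1) Γ(X, U.1) _ _ Q hQ).2.trans ⟨?_, ?_⟩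
    · rintro ⟨g, -, -, -, h⟩
      exact h
    · intro h
      refine ⟨1, fun h1 => Ideal.IsPrime.ne_top inferInstance ((Ideal.eq_top_iff_one _).2 h1), ?_, ?_, h⟩
      · exact Algebra.FinitePresentation.trans Γ(S, V.1) Γ(X, U.1) (Localization.Away (1 : Γ(X, U.1)))
      · haveI : Module.Flat Γ(X, U.1) (Localization.AtPrime (U.2.primeIdealOf ⟨x, hx⟩).asIdeal) :=
          IsLocalization.flat _ (U.2.primeIdealOf ⟨x, hx⟩).asIdeal.primeCompl
        exact Module.Flat.trans Γ(S, V.1) Γ(X, U.1) _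
  constructor
  · rintro ⟨U, V, e, hx, hs⟩
    letI := (f.appLE V.1 U.1 e).hom.toAlgebra
    exact (main U V e hx).1 ⟨1, fun h1 => Ideal.IsPrime.ne_top inferInstance ((Ideal.eq_top_iff_one _).2 h1),
      isSyntomic_away hs 1 _⟩
  · intro h
    obtain ⟨V, hV, hfx, -⟩ := exists_isAffineOpen_mem_and_subset (x := f x) (U := ⊤) trivial
    obtain ⟨U, hU, hx, hUV⟩ := exists_isAffineOpen_mem_and_subset (x := x) (U := f ⁻¹ᵁ V) hfx
    letI := (f.appLE V U hUV).hom.toAlgebra
    obtain ⟨g, hg, hs⟩ := (main ⟨U, hU⟩ ⟨V, hV⟩ hUV hx).2 h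
    have hgx : x ∈ X.basicOpen g := by
      have := hU.fromSpec_primeIdealOf ⟨x, hx⟩
      change hU.fromSpec (hU.primeIdealOf ⟨x, hx⟩) = x at this
      rw [← this]
      exact (hU.fromSpec_preimage_basicOpen g).ge hg
    refine ⟨⟨X.basicOpen g, hU.basicOpen g⟩, ⟨V, hV⟩, (X.basicOpen_le g).trans hUV, hgx, ?_⟩
    letI : Algebra Γ(X, U) Γ(X, X.basicOpen g) := (X.presheaf.map (homOfLE (X.basicOpen_le g)).op).hom.toAlgebra
    haveI : IsLocalization.Away g Γ(X, X.basicOpen g) :=
      hU.isLocalization_of_eq_basicOpen g (homOfLE (X.basicOpen_le g)) rfl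
    letI : Algebra Γ(S, V) Γ(X, X.basicOpen g) :=
      (f.appLE V (X.basicOpen g) ((X.basicOpen_le g).trans hUV)).hom.toAlgebra
    haveI : IsScalarTower Γ(S, V) Γ(X, U) Γ(X, X.basicOpen g) := IsScalarTower.of_algebraMap_eq fun a => by
      show f.appLE V (X.basicOpen g) _ a = X.presheaf.map _ (f.appLE V U hUV a)
      rw [← CommRingCat.comp_apply, Scheme.Hom.appLE_map]
    exact isSyntomic_congr ((IsLocalization.algEquiv (Submonoid.powers g) (Localization.Away g)
      Γ(X, X.basicOpen g)).restrictScalars Γ(S, V)) hs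

theorem isOpen_setOf_isSyntomicAt {X S : Scheme.{u}} (f : X ⟶ S) : IsOpen {x | Synt.IsSyntomicAt f x} := by
  refine isOpen_iff_forall_mem_open.2 fun x ⟨U, V, e, hx, hs⟩ => ⟨U.1, fun y hy => ⟨U, V, e, hy, hs⟩, U.1.2, hx⟩

theorem isCIMorphism_iff_isSyntomicMor {X S : Scheme.{u}} (f : X ⟶ S) :
    CInt.IsCIMorphism f ↔ Synt.IsSyntomicMor f := by
  constructor
  · rintro ⟨_, _, h⟩ x
    exact (isSyntomicAt_iff_isCompleteIntersection f x).2 (h x)
  · intro h
    haveI := flat_of_isSyntomicMor f h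
    haveI : LocallyOfFinitePresentation f := by
      rw [HasRingHomProperty.iff_appLE (P := @LocallyOfFinitePresentation)]
      intro V U e
      exact ((isSyntomicMor_iff f).1 h U V e).2.1
    exact ⟨inferInstance, inferInstance, fun x => (isSyntomicAt_iff_isCompleteIntersection f x).1 (h x)⟩

open TensorProduct in
theorem isSyntomic_baseChange {R S : Type u} [CommRing R] [CommRing S] [Algebra R S] (h : Synt.IsSyntomic R S)
    (R' : Type u) [CommRing R'] [Algebra R R'] : Synt.IsSyntomic R' (R' ⊗[R] S) := by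
  let G : Set S := {g | ∃ (n c : ℕ) (F : Fin c → MvPolynomial (Fin n) R), Synt.IsRelGCI R n c F ∧
    Nonempty (Localization.Away g ≃ₐ[R] Synt.RelGCIRing R n c F)}
  have hG : Ideal.span G = ⊤ := by
    by_contra hne
    obtain ⟨m, hm, hle⟩ := Ideal.exists_le_maximal _ hne
    haveI := hm
    let p := m.comap (algebraMap R S)
    haveI : m.LiesOver p := ⟨rfl⟩
    let E := PrimeSpectrum.preimageEquivFiber R S ⟨p, inferInstance⟩
    let Q := E ⟨⟨m, inferInstance⟩, rfl⟩
    have hQ : Q.asIdeal.comap (Algebra.TensorProduct.includeRight : S →ₐ[R] p.Fiber S).toRingHom = m := by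
      have := congrArg (fun x => x.1.asIdeal) (E.symm_apply_apply ⟨⟨m, inferInstance⟩, rfl⟩)
      exact this
    obtain ⟨g, hg, n, c, F, hF, he⟩ := (Groth.Agent.S9169.result R S p m Q.asIdeal hQ).1.1
      ⟨1, fun h1 => hm.ne_top ((Ideal.eq_top_iff_one _).2 h1), isSyntomic_away h 1 _⟩
    exact hg (hle (Ideal.subset_span ⟨n, c, F, hF, he⟩))
  refine isSyntomic_of_span ((Algebra.TensorProduct.includeRight : S →ₐ[R] R' ⊗[R] S) '' G) ?_ ?_
  · have := congrArg (Ideal.map (Algebra.TensorProduct.includeRight : S →ₐ[R] R' ⊗[R] S)) hG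
    rwa [Ideal.map_span, Ideal.map_top] at this
  · rintro _ ⟨g, ⟨n, c, F, hF, ⟨e⟩⟩, rfl⟩
    obtain ⟨e'⟩ := exists_fibre_away_equiv (R := R) (S := S) R' g (Localization.Away g)
    exact isSyntomic_congr ((e'.trans (Algebra.TensorProduct.congr AlgEquiv.refl e)).trans (baseChangeEquiv R' F)).symm
      (isSyntomic_of_isRelGCI _ (isRelGCI_baseChange hF R'))

instance : (@SyntMor).IsStableUnderBaseChange := by
  refine HasRingHomProperty.isStableUnderBaseChange (P := @SyntMor) (RingHom.IsStableUnderBaseChange.mk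
    isSyntomicHom_propertyIsLocal.respectsIso ?_)
  intro R S T _ _ _ _ _ h
  exact isSyntomicHom_algebraMap.2 (isSyntomic_baseChange (isSyntomicHom_algebraMap.1 h) _)

theorem isSyntomicMor_baseChange {X S S' : Scheme.{u}} (f : X ⟶ S) (g : S' ⟶ S) (h : Synt.IsSyntomicMor f) :
    Synt.IsSyntomicMor (pullback.snd f g) :=
  (syntMor_iff _).1 (MorphismProperty.pullback_snd (P := @SyntMor) f g ((syntMor_iff f).2 h))

end Groth.Agent.CILib
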