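import Groth.Agent.CILib.PresNhd

/-!
The conormal module of a presentation is projective over the syntomic locus.
-/

set_option autoImplicit false
set_option backward.isDefEq.respectTransparency false

universe u

open TensorProduct

namespace Groth.Agent.CILib

/-- A module with a basis up to a multiplicative set becomes free after localising. -/
theorem free_localizedModule_of_basis {A : Type u} [CommRing A] {M : Type u} [AddCommGroup M] [Module A M]
    (N : Submonoid A) {c : ℕ} (m : Fin c → M) (hs : ∀ x : M, ∃ n ∈ N, n • x ∈ Submodule.span A (Set.range m))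
    (hi : ∀ s : Fin c → A, ∑ i, s i • m i = 0 → ∀ i, ∃ n ∈ N, n * s i = 0) :
    Module.Free (Localization N) (LocalizedModule N M) ∧ Module.Finite (Localization N) (LocalizedModule N M) := by
  classical
  let f := LocalizedModule.mkLinearMap N M
  have hli : LinearIndependent (Localization N) fun i => f (m i) := by
    rw [Fintype.linearIndependent_iff]
    intro g hg i
    obtain ⟨b, hb⟩ := IsLocalization.exist_integer_multiples_of_finite N g
    choose s hs' using hb
    have h0 : f (∑ j, s j • m j) = 0 := by
      rw [map_sum, ← smul_zero (b : A), ← hg, Finset.smul_sum]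
      refine Finset.sum_congr rfl fun j _ => ?_
      rw [map_smul, ← algebraMap_smul (Localization N) (s j), hs' j, smul_assoc]
    obtain ⟨n, hn⟩ := (IsLocalizedModule.eq_zero_iff N f).1 h0
    rw [Submonoid.smul_def, Finset.smul_sum] at hn
    simp only [smul_smul] at hn
    obtain ⟨n', hn', e⟩ := hi _ hn i
    have hu : IsUnit (algebraMap A (Localization N) ((n' * n) * b)) :=
      IsLocalization.map_units _ (⟨(n' * n) * b, N.mul_mem (N.mul_mem hn' n.2) b.2⟩ : N)
    refine (hu.mul_right_eq_zero).1 ?_
    rw [map_mul, mul_assoc, ← Algebra.smul_def (b : A) (g i), ← hs' i, ← map_mul, mul_assoc, e, map_zero]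
  have hsp : ⊤ ≤ Submodule.span (Localization N) (Set.range fun i => f (m i)) := fun y _ => by
    induction y using LocalizedModule.induction_on with
    | h x s =>
      obtain ⟨n, hn, hx⟩ := hs x
      have h1 : f (n • x) ∈ Submodule.span (Localization N) (Set.range fun i => f (m i)) := by
        refine Submodule.span_le_restrictScalars A (Localization N) _ ?_
        rw [show (Set.range fun i => f (m i)) = f '' Set.range m from Set.range_comp f m, Submodule.span_image]
        exact Submodule.mem_map_of_mem hx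
      have e : LocalizedModule.mk x s = Localization.mk 1 (⟨n, hn⟩ * s) • f (n • x) := by
        rw [LocalizedModule.mkLinearMap_apply, LocalizedModule.mk_smul_mk, one_smul, mul_one]
        exact (LocalizedModule.mk_cancel_common_left ⟨n, hn⟩ s x).symm
      rw [e]
      exact Submodule.smul_mem _ _ h1
  exact ⟨Module.Free.of_basis (Module.Basis.mk hli hsp), Module.Finite.of_basis (Module.Basis.mk hli hsp)⟩

/-- Local bases on a cover give a projective module of finite type. -/
theorem finite_projective_of_local_basis {A : Type u} [CommRing A] {M : Type u} [AddCommGroup M] [Module A M]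
    (h : ∀ q : PrimeSpectrum A, ∃ a ∉ q.asIdeal, ∃ (c : ℕ) (m : Fin c → M),
      (∀ x : M, ∃ k, a ^ k • x ∈ Submodule.span A (Set.range m)) ∧
      (∀ s : Fin c → A, ∑ i, s i • m i = 0 → ∀ i, ∃ k, a ^ k * s i = 0)) :
    Module.Finite A M ∧ Module.Projective A M := by
  choose a ha c m hs hi using h
  have key : ∀ (q : PrimeSpectrum A) (N : Submonoid A), a q ∈ N →
      Module.Free (Localization N) (LocalizedModule N M) ∧ Module.Finite (Localization N) (LocalizedModule N M) :=
    fun q N hN => free_localizedModule_of_basis N (m q)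
      (fun x => by obtain ⟨k, hk⟩ := hs q x; exact ⟨_, N.pow_mem hN k, hk⟩)
      (fun s hs' i => by obtain ⟨k, hk⟩ := hi q s hs' i; exact ⟨_, N.pow_mem hN k, hk⟩)
  have ht : Ideal.span (Set.range a) = ⊤ := by
    by_contra hne
    obtain ⟨I, hI, hle⟩ := Ideal.exists_le_maximal _ hne
    exact ha ⟨I, hI.isPrime⟩ (hle (Ideal.subset_span ⟨_, rfl⟩))
  haveI : Module.FinitePresentation A M := Module.FinitePresentation.of_localizationSpan (s := Set.range a) ht
    fun g => by
      obtain ⟨q, hq⟩ := g.2
      obtain ⟨h1, h2⟩ := key q (Submonoid.powers g.1) ⟨1, by simpa using hq.symm⟩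
      exact Module.finitePresentation_of_projective _ _
  refine ⟨inferInstance, Module.projective_of_localization_maximal fun I hI => ?_⟩
  obtain ⟨h1, h2⟩ := key ⟨I, hI.isPrime⟩ I.primeCompl (ha ⟨I, hI.isPrime⟩)
  exact inferInstance

/-- Local bases survive a localisation. -/
theorem local_basis_localization {B A : Type u} [CommRing B] [CommRing A] [Algebra B A] (T : Submonoid B)
    [IsLocalization T A] {C C' : Type u} [AddCommGroup C] [Module B C] [AddCommGroup C'] [Module B C'] [Module A C']
    [IsScalarTower B A C'] (f : C →ₗ[B] C') [IsLocalizedModule T f] (a : B) {c : ℕ} (m : Fin c → C)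
    (hs : ∀ x : C, ∃ k, a ^ k • x ∈ Submodule.span B (Set.range m))
    (hi : ∀ s : Fin c → B, ∑ i, s i • m i = 0 → ∀ i, ∃ k, a ^ k * s i = 0) :
    (∀ x : C', ∃ k, algebraMap B A a ^ k • x ∈ Submodule.span A (Set.range fun i => f (m i))) ∧
      (∀ s : Fin c → A, ∑ i, s i • f (m i) = 0 → ∀ i, ∃ k, algebraMap B A a ^ k * s i = 0) := by
  classical
  constructor
  · intro x
    obtain ⟨⟨y, t⟩, hy⟩ := IsLocalizedModule.surj T f x
    obtain ⟨k, hk⟩ := hs y
    refine ⟨k, ?_⟩
    have h1 : f (a ^ k • y) ∈ Submodule.span A (Set.range fun i => f (m i)) := by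
      refine Submodule.span_le_restrictScalars B A _ ?_
      rw [show (Set.range fun i => f (m i)) = f '' Set.range m from Set.range_comp f m, Submodule.span_image]
      exact Submodule.mem_map_of_mem hk
    obtain ⟨u, hu⟩ := IsLocalization.map_units A t
    rw [map_smul, ← hy, Submonoid.smul_def, smul_comm, ← algebraMap_smul A (t : B), ← hu] at h1
    rw [← map_pow, algebraMap_smul]
    simpa [smul_smul] using Submodule.smul_mem _ (↑u⁻¹ : A) h1
  · intro s hs' i
    obtain ⟨b, hb⟩ := IsLocalization.exist_integer_multiples_of_finite T s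
    choose r hr using hb
    have h0 : f (∑ j, r j • m j) = 0 := by
      rw [map_sum, ← smul_zero (b : B), ← hs', Finset.smul_sum]
      refine Finset.sum_congr rfl fun j _ => ?_
      rw [map_smul, ← algebraMap_smul A (r j), hr j, smul_assoc]
    obtain ⟨n, hn⟩ := (IsLocalizedModule.eq_zero_iff T f).1 h0
    rw [Submonoid.smul_def, Finset.smul_sum] at hn
    simp only [smul_smul] at hn
    obtain ⟨k, e⟩ := hi _ hn i
    refine ⟨k, ?_⟩
    have hu : IsUnit (algebraMap B A ((n : B) * b)) := IsLocalization.map_units A (n * b)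
    refine (hu.mul_right_eq_zero).1 ?_
    rw [mul_left_comm, map_mul, mul_assoc, ← Algebra.smul_def (b : B) (s i), ← hr i, ← map_pow, ← map_mul, ← map_mul,
      e, map_zero]

variable {P : Type u} [CommRing P]

/-- Where the ideal is cut out by a regular sequence, its equations are a basis of the conormal module. -/
theorem conormal_local_basis (I : Ideal P) {c : ℕ} (F : Fin c → P) (v : P) (hF : ∀ i, F i ∈ I)
    (hk : ∀ x ∈ I, x * v ∈ Ideal.span (Set.range F))
    (hw : ∀ (q : Ideal P) [q.IsPrime], Ideal.span (Set.range F) ≤ q → v ∉ q →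
      RingTheory.Sequence.IsWeaklyRegular (Localization.AtPrime q) ((List.ofFn F).map (algebraMap P (Localization.AtPrime q)))) :
    (∀ x : I.Cotangent, ∃ k, Ideal.Quotient.mk I v ^ k • x ∈
        Submodule.span (P ⧸ I) (Set.range fun i => I.toCotangent ⟨F i, hF i⟩)) ∧
      (∀ s : Fin c → P ⧸ I, ∑ i, s i • I.toCotangent ⟨F i, hF i⟩ = 0 →
        ∀ i, ∃ k, Ideal.Quotient.mk I v ^ k * s i = 0) := by
  classical
  constructor
  · intro x
    obtain ⟨y, rfl⟩ := I.toCotangent_surjective x
    obtain ⟨r, hr⟩ := Submodule.mem_span_range_iff_exists_fun (R := P) |>.1 (hk y y.2)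
    refine ⟨1, (Submodule.mem_span_range_iff_exists_fun _).2 ⟨fun i => Ideal.Quotient.mk I (r i), ?_⟩⟩
    rw [pow_one]
    simp only [← Ideal.Quotient.algebraMap_eq, algebraMap_smul, ← map_smul, ← map_sum]
    congr 1
    apply Subtype.ext
    simp only [Submodule.coe_smul, Submodule.coe_sum, smul_eq_mul]
    rw [mul_comm v]
    exact hr
  · intro s hs i
    choose r hr using fun i => Ideal.Quotient.mk_surjective (s i)
    have h2 : ∑ j, r j * F j ∈ I ^ 2 := by
      have : I.toCotangent (∑ j, r j • (⟨F j, hF j⟩ : I)) = 0 := by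
        rw [map_sum, ← hs]
        refine Finset.sum_congr rfl fun j _ => ?_
        rw [map_smul, ← hr j, ← Ideal.Quotient.algebraMap_eq, algebraMap_smul]
      rw [Ideal.toCotangent_eq_zero, Submodule.coe_sum] at this
      exact this
    have hI2 : I ^ 2 * Ideal.span {v ^ 2} ≤ Ideal.span (Set.range F) ^ 2 := by
      have h1 : I * Ideal.span {v} ≤ Ideal.span (Set.range F) := Ideal.mul_le.2 fun x hx y hy => by
        obtain ⟨z, rfl⟩ := Ideal.mem_span_singleton'.1 hy
        rw [mul_left_comm]
        exact Ideal.mul_mem_left _ _ (hk x hx)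
      rw [← Ideal.span_singleton_pow, ← mul_pow]
      exact pow_le_pow_left' h1 2
    have hrel : ∑ j, (v ^ 2 * r j) * F j ∈ Ideal.span (Set.range F) ^ 2 := by
      have := hI2 (Ideal.mul_mem_mul h2 (Ideal.mem_span_singleton_self (v ^ 2)))
      rw [mul_comm, Finset.mul_sum] at this
      simpa only [mul_assoc] using this
    let J : Ideal P := Submodule.comap (LinearMap.mulRight P (v ^ 2 * r i)) I
    have hJ : v ∈ J.radical := by
      rw [Ideal.radical_eq_sInf, Submodule.mem_sInf]
      rintro q ⟨hle, hq⟩
      by_contra hvq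
      by_cases hFq : Ideal.span (Set.range F) ≤ q
      · haveI := hq
        have hw := hw q hFq hvq
        rw [List.map_ofFn] at hw
        let L := Localization.AtPrime q
        have e : (Ideal.span (Set.range F)).map (algebraMap _ L) =
            Ideal.span (Set.range fun j => algebraMap P L (F j)) := by
          rw [Ideal.map_span, ← Set.range_comp]; rfl
        have hmem := QReg16Lib.mem_of_sum_mem_sq (QRegLib.isQuasiRegular_of_isWeaklyRegular _ hw)
          (fun j => algebraMap _ L (v ^ 2 * r j)) (by
            show _ ∈ Ideal.span (Set.range fun j => algebraMap P L (F j)) ^ 2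
            rw [← e, ← Ideal.map_pow]
            simpa [map_sum] using Ideal.mem_map_of_mem (algebraMap P L) hrel) i
        change _ ∈ Ideal.span (Set.range fun j => algebraMap P L (F j)) at hmem
        rw [← e, IsLocalization.algebraMap_mem_map_algebraMap_iff (Ideal.primeCompl q)] at hmem
        obtain ⟨t, ht, htm⟩ := hmem
        exact ht (hle (show t * (v ^ 2 * r i) ∈ I from (Ideal.span_le.2 (by rintro _ ⟨j, rfl⟩; exact hF j)) htm))
      · obtain ⟨x, hx, hxq⟩ := SetLike.not_le_iff_exists.1 hFq
        exact hxq (hle (show x * (v ^ 2 * r i) ∈ I from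
          Ideal.mul_mem_right _ _ ((Ideal.span_le.2 (by rintro _ ⟨j, rfl⟩; exact hF j)) hx)))
    obtain ⟨k, hk'⟩ := hJ
    refine ⟨k + 2, ?_⟩
    rw [← hr i, ← map_pow, ← map_mul, Ideal.Quotient.eq_zero_iff_mem, pow_add, mul_assoc]
    exact hk'

/-- The conormal module is projective where it has local bases. -/
theorem conormal_projective_aux (I : Ideal P) (g : P ⧸ I)
    (h : ∀ (q : Ideal (P ⧸ I)) [q.IsPrime], g ∉ q → ∃ (c : ℕ) (F : Fin c → P) (v : P), Ideal.Quotient.mk I v ∉ q ∧
      (∀ i, F i ∈ I) ∧ (∀ x ∈ I, x * v ∈ Ideal.span (Set.range F)) ∧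
      ∀ (r : Ideal P) [r.IsPrime], Ideal.span (Set.range F) ≤ r → v ∉ r →
        RingTheory.Sequence.IsWeaklyRegular (Localization.AtPrime r) ((List.ofFn F).map (algebraMap P (Localization.AtPrime r)))) :
    Module.Finite (Localization.Away g) (LocalizedModule (Submonoid.powers g) I.Cotangent) ∧
      Module.Projective (Localization.Away g) (LocalizedModule (Submonoid.powers g) I.Cotangent) := by
  refine finite_projective_of_local_basis fun q' => ?_
  haveI : (q'.asIdeal.comap (algebraMap (P ⧸ I) (Localization.Away g))).IsPrime := Ideal.IsPrime.comap _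
  have hgq : g ∉ q'.asIdeal.comap (algebraMap (P ⧸ I) (Localization.Away g)) := fun h =>
    q'.2.ne_top (Ideal.eq_top_of_isUnit_mem _ h (IsLocalization.Away.algebraMap_isUnit g))
  obtain ⟨c, F, v, hv, hF, hk, hw⟩ := h _ hgq
  obtain ⟨hs, hi⟩ := conormal_local_basis I F v hF hk hw
  obtain ⟨hs', hi'⟩ := local_basis_localization (A := Localization.Away g) (Submonoid.powers g)
    (LocalizedModule.mkLinearMap (Submonoid.powers g) I.Cotangent) (Ideal.Quotient.mk I v) _ hs hi
  exact ⟨algebraMap _ _ (Ideal.Quotient.mk I v), fun h => hv h, c, _, hs', hi'⟩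

theorem conormal_finite_projective {R : Type u} [CommRing R] {n : ℕ} (I : Ideal (MvPolynomial (Fin n) R)) (hI : I.FG)
    (g : MvPolynomial (Fin n) R ⧸ I) (hg : Synt.IsSyntomic R (Localization.Away g)) :
    Module.Finite (Localization.Away g) (LocalizedModule (Submonoid.powers g) I.Cotangent) ∧
      Module.Projective (Localization.Away g) (LocalizedModule (Submonoid.powers g) I.Cotangent) := by
  refine conormal_projective_aux I g fun q _ hgq => ?_
  let p : PrimeSpectrum R := PrimeSpectrum.comap (algebraMap R _) ⟨q, inferInstance⟩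
  let Q := PrimeSpectrum.preimageEquivFiber R (MvPolynomial (Fin n) R ⧸ I) p ⟨⟨q, inferInstance⟩, rfl⟩
  have hQ : Q.asIdeal.comap (Algebra.TensorProduct.includeRight :
      MvPolynomial (Fin n) R ⧸ I →ₐ[R] p.asIdeal.Fiber (MvPolynomial (Fin n) R ⧸ I)).toRingHom = q :=
    congrArg (fun z => z.1.asIdeal) ((PrimeSpectrum.preimageEquivFiber R _ p).symm_apply_apply ⟨⟨q, inferInstance⟩, rfl⟩)
  obtain ⟨-, hfl, hci⟩ := conditions_of_syntomic p.asIdeal q Q.asIdeal hgq hQ hg
  obtain ⟨c, F, v, hv, hF, hk, hG, -⟩ := exists_relGCI_pres (Ideal.Quotient.mkₐ R I) Ideal.Quotient.mk_surjective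
    (by show (RingHom.ker (Ideal.Quotient.mk I)).FG; rwa [Ideal.mk_ker]) p.asIdeal q Q.asIdeal hQ hci
  exact ⟨c, F, v, hv, fun i => Ideal.Quotient.eq_zero_iff_mem.1 (hF i),
    fun x hx => hk x (Ideal.Quotient.eq_zero_iff_mem.2 hx), fun r _ => isWeaklyRegular_of_awayPres F v hG r⟩

end Groth.Agent.CILib
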