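import Groth.Agent.CILib.Regular
import Groth.Agent.RegLocal.Basic

/-!
Being cut out by `dim R - dim S` equations does not depend on the regular local ring mapping onto `S`.
-/

set_option autoImplicit false
set_option backward.isDefEq.respectTransparency false

universe u

open IsLocalRing

namespace Groth.Agent.CILib

variable {R S : Type u} [CommRing R] [CommRing S]

/-- The kernel is generated by `dim R - dim S` elements. -/
def CutBy (π : R →+* S) : Prop :=
  ∃ c : ℕ, (∃ f : Fin c → R, RingHom.ker π = Ideal.span (Set.range f)) ∧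
    ringKrullDim R = ringKrullDim S + (c : WithBot ℕ∞)

theorem exists_nat_ringKrullDim' (A : Type u) [CommRing A] [IsLocalRing A] [IsNoetherianRing A] :
    ∃ e : ℕ, ringKrullDim A = e := by
  obtain ⟨e, he⟩ := ENat.ne_top_iff_exists.mp
    (Ideal.height_ne_top (I := maximalIdeal A) (maximalIdeal.isMaximal A).ne_top)
  exact ⟨e, by rw [← IsLocalRing.maximalIdeal_height_eq_ringKrullDim, ← he]; rfl⟩

theorem cutBy_ringEquiv {R' : Type u} [CommRing R'] (e : R' ≃+* R) (π : R →+* S) :
    CutBy (π.comp e.toRingHom) ↔ CutBy π := by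
  have hk : RingHom.ker (π.comp e.toRingHom) = (RingHom.ker π).comap e.toRingHom := (RingHom.comap_ker _ _).symm
  have hmap : (RingHom.ker (π.comp e.toRingHom)).map e.toRingHom = RingHom.ker π := by
    rw [hk]; exact Ideal.map_comap_of_surjective _ e.surjective _
  unfold CutBy
  rw [ringKrullDim_eq_of_ringEquiv e]
  constructor
  · rintro ⟨c, ⟨f, hf⟩, hd⟩
    refine ⟨c, ⟨e ∘ f, ?_⟩, hd⟩
    rw [← hmap, hf, Ideal.map_span, ← Set.range_comp]; rfl
  · rintro ⟨c, ⟨f, hf⟩, hd⟩
    refine ⟨c, ⟨e.symm ∘ f, ?_⟩, hd⟩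
    have : RingHom.ker (π.comp e.toRingHom) = (RingHom.ker π).map e.symm.toRingHom := by
      rw [hk]; exact (Ideal.map_symm e).symm
    rw [this, hf, Ideal.map_span, ← Set.range_comp]; rfl

theorem ker_eq_bot_of_dim [IsRegularLocalRing R] (f : R →+* S) (hf : Function.Surjective f) {e : ℕ}
    (hR : ringKrullDim R = e) (hS : ringKrullDim S = e) : RingHom.ker f = ⊥ := by
  haveI := RegLocal.isDomain (R := R)
  by_contra h
  obtain ⟨x, hx, hx0⟩ := Submodule.exists_mem_ne_zero_of_ne_bot h
  have h1 := ringKrullDim_succ_le_of_surjective f hf (mem_nonZeroDivisors_iff_ne_zero.2 hx0) (RingHom.mem_ker.1 hx)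
  rw [hR, hS] at h1
  have h2 : ((e + 1 : ℕ) : WithBot ℕ∞) ≤ (e : ℕ) := by rw [Nat.cast_add, Nat.cast_one]; exact h1
  have h3 : e + 1 ≤ e := by exact_mod_cast h2
  omega

theorem ringKrullDim_surj_eq_nat [IsLocalRing R] [IsNoetherianRing R] [Nontrivial S] (π : R →+* S)
    (hπ : Function.Surjective π) : ∃ e : ℕ, ringKrullDim S = e := by
  haveI : IsLocalRing S := .of_surjective' π hπ
  haveI : IsNoetherianRing S := isNoetherianRing_of_surjective R S π hπ
  exact exists_nat_ringKrullDim' S

/-- Dividing out a regular parameter in the kernel. -/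
theorem cutBy_step [IsRegularLocalRing R] [Nontrivial S] (π : R →+* S) (hπ : Function.Surjective π) {x : R}
    (hx : x ∈ RingHom.ker π) (hx2 : x ∉ maximalIdeal R ^ 2) :
    CutBy π ↔ CutBy (Ideal.Quotient.lift (Ideal.span {x}) π
      (fun a ha => (Ideal.span_singleton_le_iff_mem _).2 hx ha)) := by
  classical
  obtain ⟨d, hd⟩ := exists_nat_ringKrullDim' R
  obtain ⟨e, he⟩ := ringKrullDim_surj_eq_nat π hπ
  have hker : RingHom.ker π ≤ maximalIdeal R := IsLocalRing.le_maximalIdeal (RingHom.ker_ne_top π)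
  obtain ⟨-, hd1, hd'⟩ := RegLocal.quot_singleton (R := R) hd (hker hx) hx2
  set mk := Ideal.Quotient.mk (Ideal.span {x})
  have hkl : RingHom.ker (Ideal.Quotient.lift (Ideal.span {x}) π
      (fun a ha => (Ideal.span_singleton_le_iff_mem _).2 hx ha)) = (RingHom.ker π).map mk :=
    Ideal.ker_quotient_lift _ _
  unfold CutBy
  rw [hkl, hd, he, hd']
  constructor
  · rintro ⟨c, ⟨f, hf⟩, hdim⟩
    have hdc : d = e + c := by exact_mod_cast hdim
    obtain ⟨a, ha⟩ := (Ideal.mem_span_range_iff_exists_fun).1 (hf ▸ hx : x ∈ Ideal.span (Set.range f))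
    obtain ⟨i, hi⟩ : ∃ i, IsUnit (a i) := by
      by_contra hne
      push Not at hne
      refine hx2 (ha ▸ Ideal.sum_mem _ fun i _ => ?_)
      rw [pow_two]
      exact Ideal.mul_mem_mul (hne i) (hker (hf ▸ Ideal.subset_span ⟨i, rfl⟩))
    obtain ⟨c, rfl⟩ : ∃ c', c = c' + 1 := ⟨c - 1, by have := i.2; omega⟩
    refine ⟨c, ⟨fun j => mk (f (i.succAbove j)), ?_⟩, ?_⟩
    · rw [hf, Ideal.map_span]
      refine le_antisymm (Ideal.span_le.2 ?_) (Ideal.span_mono ?_)
      · rintro _ ⟨_, ⟨j, rfl⟩, rfl⟩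
        rcases Fin.eq_self_or_eq_succAbove i j with rfl | ⟨j, rfl⟩
        · have h0 : mk (∑ l, a l * f l) = 0 := by
            rw [ha]; exact Ideal.Quotient.eq_zero_iff_mem.2 (Ideal.mem_span_singleton_self x)
          rw [map_sum, Fin.sum_univ_succAbove _ j, map_mul] at h0
          show mk (f j) ∈ Ideal.span (Set.range fun l => mk (f (j.succAbove l)))
          rw [← Ideal.unit_mul_mem_iff_mem _ (hi.map mk), eq_neg_of_add_eq_zero_left h0]
          refine neg_mem (Ideal.sum_mem _ fun l _ => ?_)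
          rw [map_mul]
          exact Ideal.mul_mem_left _ _ (Ideal.subset_span ⟨l, rfl⟩)
        · exact Ideal.subset_span ⟨j, rfl⟩
      · rintro _ ⟨j, rfl⟩
        exact ⟨_, ⟨_, rfl⟩, rfl⟩
    · exact_mod_cast (by omega : d - 1 = e + c)
  · rintro ⟨c, ⟨f, hf⟩, hdim⟩
    have hdc : d - 1 = e + c := by exact_mod_cast hdim
    choose g hg using fun j => Ideal.Quotient.mk_surjective (f j)
    refine ⟨c + 1, ⟨Fin.cons x g, ?_⟩, ?_⟩
    · have h1 : RingHom.ker π = ((RingHom.ker π).map mk).comap mk := by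
        rw [Ideal.comap_map_of_surjective' _ Ideal.Quotient.mk_surjective, Ideal.mk_ker,
          sup_eq_left.2 ((Ideal.span_singleton_le_iff_mem _).2 hx)]
      have h2 : Ideal.span (Set.range f) = (Ideal.span (Set.range g)).map mk := by
        rw [Ideal.map_span, ← Set.range_comp]
        congr 2
        funext j
        exact (hg j).symm
      rw [h1, hf, h2, Ideal.comap_map_of_surjective' _ Ideal.Quotient.mk_surjective, Ideal.mk_ker, Fin.range_cons,
        Ideal.span_insert, sup_comm]
    · exact_mod_cast (by omega : d = e + (c + 1))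

theorem exists_mem_notMem_sq [IsRegularLocalRing R] [IsRegularLocalRing S] (ρ : R →+* S) (hρ : Function.Surjective ρ)
    (hne : RingHom.ker ρ ≠ ⊥) : ∃ x ∈ RingHom.ker ρ, x ∉ maximalIdeal R ^ 2 := by
  classical
  by_contra hall
  push Not at hall
  obtain ⟨d, hd⟩ := exists_nat_ringKrullDim' R
  obtain ⟨e, he⟩ := exists_nat_ringKrullDim' S
  have hμ : (maximalIdeal S).spanFinrank = e := by
    have h := (isRegularLocalRing_iff S).1 inferInstance
    rw [he] at h
    exact_mod_cast h
  obtain ⟨y, hy⟩ := RegLocal.exists_generators S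
  choose z hz using fun j => hρ (y j)
  haveI : IsLocalHom ρ := IsLocalHom.of_surjective ρ hρ
  have hzm : Ideal.span (Set.range z) ≤ maximalIdeal R := Ideal.span_le.2 (by
    rintro _ ⟨j, rfl⟩
    intro hu
    have : y j ∈ maximalIdeal S := hy ▸ Ideal.subset_span ⟨j, rfl⟩
    exact this (hz j ▸ hu.map ρ))
  have hspan : maximalIdeal R ≤ Ideal.span (Set.range z) := by
    refine Submodule.le_of_le_smul_of_le_jacobson_bot (IsNoetherian.noetherian _)
      (maximalIdeal_le_jacobson ⊥) ?_
    rw [smul_eq_mul, ← pow_two]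
    intro a ha
    have h1 : ρ a ∈ (Ideal.span (Set.range z)).map ρ := by
      rw [Ideal.map_span, ← Set.range_comp, show ρ ∘ z = y from funext hz, hy]
      exact map_nonunit ρ a ha
    obtain ⟨b, hb, hba⟩ := (Ideal.mem_map_iff_of_surjective ρ hρ).1 h1
    rw [show a = b + (a - b) by ring]
    exact Submodule.add_mem_sup hb (hall _ (by rw [RingHom.mem_ker, map_sub, hba, sub_self]))
  have hde : d ≤ e := by
    have h := ringKrullDim_le_spanFinrank_maximalIdeal R
    rw [hd] at h
    have h' : (maximalIdeal R).spanFinrank ≤ e := by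
      rw [le_antisymm hspan hzm]
      refine (Submodule.spanFinrank_span_le_ncard_of_finite (Set.finite_range z)).trans ?_
      rw [← hμ]
      calc (Set.range z).ncard ≤ Nat.card (Fin (maximalIdeal S).spanFinrank) := by
            rw [← Nat.card_coe_set_eq]
            exact Finite.card_range_le z
        _ = _ := Nat.card_fin _
    have h2 : ((maximalIdeal R).spanFinrank : WithBot ℕ∞) ≤ (e : ℕ) := by exact_mod_cast h'
    exact_mod_cast h.trans h2
  have hed : e ≤ d := by
    have := ringKrullDim_le_of_surjective ρ hρ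
    rw [hd, he] at this
    exact_mod_cast this
  exact hne (ker_eq_bot_of_dim ρ hρ hd (by rw [he, le_antisymm hed hde]))

/-- Independence of the regular local ring. -/
theorem cutBy_comp : ∀ (d : ℕ) {Rb R S : Type u} [CommRing Rb] [CommRing R] [CommRing S] [IsRegularLocalRing Rb]
    [IsRegularLocalRing R] [Nontrivial S] (ρ : Rb →+* R) (π : R →+* S), Function.Surjective ρ →
    Function.Surjective π → ringKrullDim Rb ≤ d → (CutBy (π.comp ρ) ↔ CutBy π) := by
  intro d
  induction d with
  | zero =>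
    intro Rb R S _ _ _ _ _ _ ρ π hρ hπ hd
    by_cases hne : RingHom.ker ρ = ⊥
    · exact cutBy_ringEquiv (RingEquiv.ofBijective ρ ⟨(RingHom.injective_iff_ker_eq_bot ρ).2 hne, hρ⟩) π
    · obtain ⟨x, hx, hx2⟩ := exists_mem_notMem_sq ρ hρ hne
      obtain ⟨e, he⟩ := exists_nat_ringKrullDim' Rb
      obtain ⟨-, h1, -⟩ := RegLocal.quot_singleton (R := Rb) he (IsLocalRing.le_maximalIdeal (RingHom.ker_ne_top ρ) hx) hx2
      rw [he] at hd
      have : e ≤ 0 := by exact_mod_cast hd
      omega
  | succ d ih =>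
    intro Rb R S _ _ _ _ _ _ ρ π hρ hπ hd
    by_cases hne : RingHom.ker ρ = ⊥
    · exact cutBy_ringEquiv (RingEquiv.ofBijective ρ ⟨(RingHom.injective_iff_ker_eq_bot ρ).2 hne, hρ⟩) π
    · obtain ⟨x, hx, hx2⟩ := exists_mem_notMem_sq ρ hρ hne
      obtain ⟨e, he⟩ := exists_nat_ringKrullDim' Rb
      obtain ⟨hreg, h1, hdx⟩ :=
        RegLocal.quot_singleton (R := Rb) he (IsLocalRing.le_maximalIdeal (RingHom.ker_ne_top ρ) hx) hx2
      haveI := hreg
      have hxk : x ∈ RingHom.ker (π.comp ρ) := by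
        rw [RingHom.mem_ker, RingHom.comp_apply, RingHom.mem_ker.1 hx, map_zero]
      rw [cutBy_step (π.comp ρ) (hπ.comp hρ) hxk hx2]
      let ρ' : Rb ⧸ Ideal.span {x} →+* R :=
        Ideal.Quotient.lift (Ideal.span {x}) ρ (fun a ha => (Ideal.span_singleton_le_iff_mem _).2 hx ha)
      have hρ' : Function.Surjective ρ' := Ideal.Quotient.lift_surjective_of_surjective _ _ hρ
      have hd' : ringKrullDim (Rb ⧸ Ideal.span {x}) ≤ d := by
        rw [he] at hd
        have : e ≤ d + 1 := by exact_mod_cast hd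
        rw [hdx]
        exact_mod_cast (by omega : e - 1 ≤ d)
      have hcomp : Ideal.Quotient.lift (Ideal.span {x}) (π.comp ρ)
          (fun a ha => (Ideal.span_singleton_le_iff_mem _).2 hxk ha) = π.comp ρ' :=
        Ideal.Quotient.ringHom_ext (RingHom.ext fun a => rfl)
      rw [hcomp]
      exact ih ρ' π hρ' hπ hd'

theorem cutBy_comp_iff {Rb R S : Type u} [CommRing Rb] [CommRing R] [CommRing S] [IsRegularLocalRing Rb]
    [IsRegularLocalRing R] [Nontrivial S] (ρ : Rb →+* R) (π : R →+* S) (hρ : Function.Surjective ρ)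
    (hπ : Function.Surjective π) : CutBy (π.comp ρ) ↔ CutBy π := by
  obtain ⟨d, hd⟩ := exists_nat_ringKrullDim' Rb
  exact cutBy_comp d ρ π hρ hπ hd.le

end Groth.Agent.CILib
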