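import Groth.Agent.CILib.Scheme
import Mathlib.AlgebraicGeometry.Fiber

/-!
Syntomic morphisms from syntomic fibres.
-/

set_option autoImplicit false
set_option backward.isDefEq.respectTransparency false

universe u

open TensorProduct AlgebraicGeometry CategoryTheory CategoryTheory.Limits

namespace Groth.Agent.CILib

/-- A syntomic algebra over a field is a local complete intersection over it. -/
theorem isLCIOver_of_isSyntomic_field {k A : Type u} [Field k] [CommRing A] [Algebra k A]
    (h : Synt.IsSyntomic k A) : Synt.IsLCIOver k A := by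
  haveI : (⊥ : Ideal k).IsPrime := Ideal.isPrime_bot
  have hb : Function.Bijective (algebraMap k (⊥ : Ideal k).ResidueField) :=
    ⟨(algebraMap k (⊥ : Ideal k).ResidueField).injective, fun x => by
      obtain ⟨y, rfl⟩ := (Ideal.bijective_algebraMap_quotient_residueField (⊥ : Ideal k)).2 x
      obtain ⟨z, rfl⟩ := Ideal.Quotient.mk_surjective y
      exact ⟨z, rfl⟩⟩
  let σ : k ≃ₐ[k] (⊥ : Ideal k).ResidueField := AlgEquiv.ofBijective (Algebra.ofId k _) hb
  let ε : (⊥ : Ideal k).Fiber A ≃ₐ[k] A :=
    (Algebra.TensorProduct.congr σ.symm AlgEquiv.refl).trans (Algebra.TensorProduct.lid k A)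
  refine isLCIOver_of_semiequiv σ.symm.toRingEquiv ε.toRingEquiv (fun a => ?_) (h.2.2 ⟨⊥, inferInstance⟩)
  show ε (a ⊗ₜ[k] (1 : A)) = algebraMap k A (σ.symm a)
  simp [ε, Algebra.algebraMap_eq_smul_one]

/-- A preimmersion of spectra of fields is an isomorphism. -/
theorem isIso_of_isPreimmersion_field {K L : Type u} [Field K] [Field L] (φ : CommRingCat.of K ⟶ CommRingCat.of L)
    [IsPreimmersion (Spec.map φ)] : IsIso φ := by
  haveI : IsClosedImmersion (Spec.map φ) := by
    refine IsClosedImmersion.of_isPreimmersion _ ?_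
    have : Set.range (Spec.map φ) = Set.univ := by
      refine Set.eq_univ_of_forall fun y => ⟨default, ?_⟩
      haveI : Subsingleton (Spec (CommRingCat.of K)) := inferInstanceAs (Subsingleton (PrimeSpectrum K))
      exact Subsingleton.elim _ _
    rw [this]
    exact isClosed_univ
  haveI : Surjective (Spec.map φ) := ⟨fun y => by
    haveI : Subsingleton (Spec (CommRingCat.of K)) := inferInstanceAs (Subsingleton (PrimeSpectrum K))
    exact ⟨default, Subsingleton.elim _ _⟩⟩
  haveI : IsIso (Spec.map φ) := isIso_of_isClosedImmersion_of_surjective _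
  haveI : IsIso (Scheme.Spec.map φ.op) := inferInstanceAs (IsIso (Spec.map φ))
  haveI : IsIso φ.op := Functor.FullyFaithful.isIso_of_isIso_map Spec.fullyFaithful φ.op
  exact isIso_of_op φ

/-- A flat, locally finitely presented morphism with syntomic fibres is syntomic. -/
theorem isSyntomicMor_of_fibres {X S : Scheme.{u}} (f : X ⟶ S) [Flat f] [LocallyOfFinitePresentation f]
    (hfib : ∀ s : S, Synt.IsSyntomicMor (f.fiberToSpecResidueField s)) : Synt.IsSyntomicMor f := by
  rw [isSyntomicMor_iff]
  intro U V e
  have hfl := HasRingHomProperty.appLE @Flat f inferInstance V U e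
  have hfp := HasRingHomProperty.appLE @LocallyOfFinitePresentation f inferInstance V U e
  algebraize [(f.appLE V.1 U.1 e).hom]
  refine ⟨‹_›, ‹_›, fun p => ?_⟩
  let A : Type u := Γ(S, V.1)
  let B : Type u := Γ(X, U.1)
  let K := p.asIdeal.ResidueField
  let g : Spec (CommRingCat.of K) ⟶ S := Spec.map (CommRingCat.ofHom (algebraMap A K)) ≫ V.2.fromSpec
  haveI : IsPreimmersion (Spec.map (CommRingCat.ofHom (algebraMap A K))) := by
    refine IsPreimmersion.mk_SpecMap ?_ ?_
    · exact Topology.IsEmbedding.of_subsingleton _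
    · exact p.asIdeal.surjectiveOnStalks_residueField
  haveI : IsPreimmersion g := inferInstance
  -- `g` is the residue field inclusion up to isomorphism
  obtain ⟨⟨s, φ⟩, hg⟩ : ∃ q : Σ s : S, S.residueField s ⟶ CommRingCat.of K,
      Spec.map q.2 ≫ S.fromSpecResidueField q.1 = g :=
    ⟨Scheme.SpecToEquivOfField K S g, (Scheme.SpecToEquivOfField K S).left_inv g⟩
  haveI : IsPreimmersion (Spec.map φ) :=
    haveI : IsPreimmersion (Spec.map φ ≫ S.fromSpecResidueField s) := by rw [hg]; infer_instance
    IsPreimmersion.of_comp (Spec.map φ) (S.fromSpecResidueField s)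
  haveI : IsIso φ := isIso_of_isPreimmersion_field (K := S.residueField s) (L := K) φ
  have hs : SyntMor (pullback.snd f g) := by
    have h0 : SyntMor (pullback.snd f (S.fromSpecResidueField s)) := (syntMor_iff _).2 (hfib s)
    have hpb : IsPullback (pullback.fst f g) (pullback.snd f g ≫ Spec.map φ) f (S.fromSpecResidueField s) := by
      have h := (IsPullback.of_hasPullback f g)
      rw [← hg] at h ⊢
      exact h.of_iso (Iso.refl _) (Iso.refl _) (asIso (Spec.map φ)) (Iso.refl _) (by simp) (by simp) (by simp) (by simp)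
    have h1 : SyntMor (pullback.snd f g ≫ Spec.map φ) := by
      rw [← hpb.isoPullback_hom_snd, MorphismProperty.cancel_left_of_respectsIso @SyntMor]
      exact h0
    exact (MorphismProperty.cancel_right_of_respectsIso @SyntMor _ _).1 h1
  -- restrict to the affine chart
  let ψ := CommRingCat.ofHom (algebraMap K (K ⊗[A] B))
  let i₁ : Spec (CommRingCat.of (K ⊗[A] B)) ⟶ X :=
    Spec.map (CommRingCat.ofHom (Algebra.TensorProduct.includeRight : B →ₐ[A] K ⊗[A] B).toRingHom) ≫ U.2.fromSpec
  have hw : i₁ ≫ f = Spec.map ψ ≫ g := by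
    simp only [i₁, g, ψ, Category.assoc]
    rw [← IsAffineOpen.SpecMap_appLE_fromSpec f V.2 U.2 e, ← Spec.map_comp_assoc, ← Spec.map_comp_assoc]
    congr 2
    ext a
    exact ((Algebra.TensorProduct.includeRight : B →ₐ[A] K ⊗[A] B).commutes a).trans
      (IsScalarTower.algebraMap_apply A K (K ⊗[A] B) a)
  let j : Spec (CommRingCat.of (K ⊗[A] B)) ⟶ pullback f g := pullback.lift i₁ (Spec.map ψ) hw
  haveI : IsOpenImmersion j := by
    let e₁ := pullbackSpecIso A B K
    let m : pullback (Spec.map (CommRingCat.ofHom (algebraMap A B))) (Spec.map (CommRingCat.ofHom (algebraMap A K))) ⟶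
        pullback f g :=
      pullback.map _ _ _ _ U.2.fromSpec (𝟙 _) V.2.fromSpec
        (IsAffineOpen.SpecMap_appLE_fromSpec f V.2 U.2 e) (by simp [g])
    haveI : IsOpenImmersion m := inferInstance
    have : j = Spec.map (CommRingCat.ofHom (Algebra.TensorProduct.comm A B K).toRingHom) ≫ e₁.inv ≫ m := by
      apply pullback.hom_ext
      · simp only [j, m, e₁, i₁, pullback.lift_fst, Category.assoc, pullback.map, pullbackSpecIso_inv_fst_assoc]
        rw [← Spec.map_comp_assoc]
        congr 2
      · simp only [j, m, e₁, pullback.lift_snd, Category.assoc, pullback.map, pullback.lift_snd_assoc,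
          Category.comp_id, pullbackSpecIso_inv_snd]
        rw [← Spec.map_comp]
        rfl
    rw [this]
    haveI : IsIso (CommRingCat.ofHom (Algebra.TensorProduct.comm A B K).toRingHom) :=
      (ConcreteCategory.isIso_iff_bijective _).2 (Algebra.TensorProduct.comm A B K).bijective
    infer_instance
  have hψ : SyntMor (Spec.map ψ) := by
    rw [← show j ≫ pullback.snd f g = Spec.map ψ from pullback.lift_snd _ _ _]
    exact IsZariskiLocalAtSource.comp hs j
  rw [HasRingHomProperty.Spec_iff (P := @SyntMor)] at hψ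
  exact isLCIOver_of_isSyntomic_field (isSyntomicHom_algebraMap.1 hψ)

end Groth.Agent.CILib
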