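import Groth.Agent.CILib.Dim

/-!
Global and local complete intersections over a field: equidimensionality, Cohen-Macaulayness, localisation.
-/

set_option autoImplicit false
set_option backward.isDefEq.respectTransparency false

universe u

open IsLocalRing MvPolynomial

namespace Groth.Agent.CILib

variable {k : Type u} [Field k]

theorem trdeg_eq_zero_of_isMaximal (S : Type u) [CommRing S] [Algebra k S] [Algebra.FiniteType k S]
    (m : Ideal S) [hm : m.IsMaximal] : Algebra.trdeg k (S ⧸ m) = 0 := by
  haveI : IsJacobsonRing S := isJacobsonRing_of_finiteType (A := k)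
  haveI : Module.Finite k (S ⧸ m) :=
    haveI : IsField (S ⧸ m) := (Ideal.Quotient.maximal_ideal_iff_isField_quotient m).1 hm
    letI := this.toField
    finite_of_finite_type_of_isJacobsonRing k (S ⧸ m)
  exact trdeg_eq_zero

/-- For a presentation with `c` equations, dimension at most `n - c` forces equality. -/
theorem ringKrullDim_eq {S : Type u} [CommRing S] [Algebra k S] [Nontrivial S] {n c : ℕ} (hc : c ≤ n)
    (φ : MvPolynomial (Fin n) k →ₐ[k] S) (r : Fin c → MvPolynomial (Fin n) k)
    (hφ : Function.Surjective φ) (hker : RingHom.ker φ.toRingHom = Ideal.span (Set.range r))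
    (hdim : ringKrullDim S ≤ ((n - c : ℕ) : WithBot ℕ∞)) :
    ringKrullDim S = ((n - c : ℕ) : WithBot ℕ∞) := by
  obtain ⟨m, hm⟩ := Ideal.exists_maximal S
  haveI : (m.comap φ.toRingHom).IsMaximal := Ideal.comap_isMaximal_of_surjective _ hφ
  obtain ⟨⟨a, b, ha, hb, hab⟩, -⟩ := local_data hc φ r hφ hker hdim m
  obtain ⟨b', t, hb', ht, hbt⟩ := height_add_trdeg_mvPolynomial k (m.comap φ.toRingHom)
  rw [trdeg_eq_zero_of_isMaximal] at ht
  have ht0 : t = 0 := by exact_mod_cast ht.symm
  have hbb : b = b' := by
    have : (b : ℕ∞) = b' := hb.symm.trans hb'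
    exact_mod_cast this
  refine le_antisymm hdim ?_
  have h := Ideal.height_le_ringKrullDim_of_ne_top (I := m) hm.ne_top
  rw [ha] at h
  refine le_trans ?_ h
  exact WithBot.coe_le_coe.2 (Nat.cast_le.2 (by omega : n - c ≤ a))

theorem isGlobalCI_of_dim_le {S : Type u} [CommRing S] [Algebra k S] {n c : ℕ} (hc : c ≤ n)
    (φ : MvPolynomial (Fin n) k →ₐ[k] S) (r : Fin c → MvPolynomial (Fin n) k)
    (hφ : Function.Surjective φ) (hker : RingHom.ker φ.toRingHom = Ideal.span (Set.range r))
    (hdim : ringKrullDim S ≤ ((n - c : ℕ) : WithBot ℕ∞)) : Synt.IsGlobalCI k S := by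
  rcases subsingleton_or_nontrivial S with h | h
  · exact Or.inl h
  · exact Or.inr ⟨n, c, hc, φ, r, hφ, hker, ringKrullDim_eq hc φ r hφ hker hdim⟩

theorem finiteType_of_isGlobalCI {S : Type u} [CommRing S] [Algebra k S] (h : Synt.IsGlobalCI k S) :
    Algebra.FiniteType k S := by
  rcases h with h | ⟨n, c, -, φ, r, hφ, -, -⟩
  · exact ⟨⟨∅, eq_top_iff.2 fun x _ => by rw [Subsingleton.elim x 0]; exact zero_mem _⟩⟩
  · exact Algebra.FiniteType.of_surjective φ hφ

theorem isGlobalCI_congr {S T : Type u} [CommRing S] [Algebra k S] [CommRing T] [Algebra k T] (e : S ≃ₐ[k] T)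
    (h : Synt.IsGlobalCI k S) : Synt.IsGlobalCI k T := by
  rcases h with h | ⟨n, c, hc, φ, r, hφ, hker, hd⟩
  · exact Or.inl e.symm.injective.subsingleton
  · refine Or.inr ⟨n, c, hc, e.toAlgHom.comp φ, r, e.surjective.comp hφ, ?_, ?_⟩
    · rw [← hker]
      ext x
      simp [RingHom.mem_ker]
    · rw [← hd]; exact (ringKrullDim_eq_of_ringEquiv e.toRingEquiv).symm

/-- A localisation of a presented algebra is a global complete intersection once its dimension is small. -/
theorem isGlobalCI_away_of_pres {S : Type u} [CommRing S] [Algebra k S] {n c : ℕ} (hc : c ≤ n)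
    (φ : MvPolynomial (Fin n) k →ₐ[k] S) (r : Fin c → MvPolynomial (Fin n) k)
    (hφ : Function.Surjective φ) (hker : RingHom.ker φ.toRingHom = Ideal.span (Set.range r)) (g : S)
    (T : Type u) [CommRing T] [Algebra k T] [Algebra S T] [IsScalarTower k S T] [IsLocalization.Away g T]
    (hdim : ringKrullDim T ≤ ((n - c : ℕ) : WithBot ℕ∞)) :
    Synt.IsGlobalCI k T := by
  obtain ⟨gl, hgl⟩ := hφ g
  let e₀ : Localization.Away g ≃ₐ[S] T := IsLocalization.algEquiv (Submonoid.powers g) _ _
  let p : Polynomial S := Polynomial.C g * Polynomial.X - 1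
  let e₁ : AdjoinRoot p ≃ₐ[k] T :=
    ((Localization.awayEquivAdjoin g).symm.trans e₀).restrictScalars k
  let σ : Polynomial (MvPolynomial (Fin n) k) →ₐ[k] AdjoinRoot p :=
    ((Ideal.Quotient.mkₐ S (Ideal.span {p})).restrictScalars k).comp (Polynomial.mapAlgHom φ)
  let ψ : MvPolynomial (Fin (n + 1)) k →ₐ[k] T :=
    e₁.toAlgHom.comp (σ.comp (MvPolynomial.finSuccEquiv k n).toAlgHom)
  let E := MvPolynomial.finSuccEquiv k n
  let r' : Fin (c + 1) → MvPolynomial (Fin (n + 1)) k :=
    Fin.cons (E.symm (Polynomial.C gl * Polynomial.X - 1)) (fun i => E.symm (Polynomial.C (r i)))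
  refine isGlobalCI_of_dim_le (n := n + 1) (c := c + 1) (by omega) ψ r'
    (e₁.surjective.comp ((Ideal.Quotient.mk_surjective.comp
      (Polynomial.map_surjective φ.toRingHom hφ)).comp E.surjective)) ?_ ?_
  · have hσ : RingHom.ker σ.toRingHom =
        Ideal.span (Set.range fun i => Polynomial.C (r i)) ⊔ Ideal.span {Polynomial.C gl * Polynomial.X - 1} := by
      have hk : RingHom.ker (Polynomial.mapRingHom φ.toRingHom) = Ideal.span (Set.range fun i => Polynomial.C (r i)) := by
        rw [Polynomial.ker_mapRingHom, hker, Ideal.map_span, ← Set.range_comp]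
        rfl
      have hs : σ.toRingHom = (Ideal.Quotient.mk (Ideal.span {p})).comp (Polynomial.mapRingHom φ.toRingHom) := rfl
      rw [hs, ← RingHom.comap_ker, Ideal.mk_ker]
      have hp : Ideal.span {p} = (Ideal.span {Polynomial.C gl * Polynomial.X - 1}).map (Polynomial.mapRingHom φ.toRingHom) := by
        rw [Ideal.map_span, Set.image_singleton]
        simp [p, hgl]
      rw [hp, Ideal.comap_map_of_surjective' _ (Polynomial.map_surjective φ.toRingHom hφ), hk, sup_comm]
    have hker' : RingHom.ker ψ.toRingHom = (RingHom.ker σ.toRingHom).map E.symm.toRingEquiv.toRingHom := by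
      ext x
      rw [Ideal.mem_map_iff_of_surjective E.symm.toRingEquiv.toRingHom E.symm.surjective]
      simp only [RingHom.mem_ker]
      constructor
      · intro hx
        exact ⟨E x, e₁.injective (by rw [map_zero]; exact hx), E.symm_apply_apply x⟩
      · rintro ⟨y, hy, rfl⟩
        show e₁ (σ (E (E.symm y))) = 0
        rw [E.apply_symm_apply, show σ y = 0 from hy, map_zero]
    rw [hker', hσ, Ideal.map_sup, Ideal.map_span, Ideal.map_span, ← Ideal.span_union, Fin.range_cons,
      Set.image_singleton, ← Set.range_comp, Set.union_singleton]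
    rfl
  · rw [show n + 1 - (c + 1) = n - c by omega]
    exact hdim

theorem isGlobalCI_away {S : Type u} [CommRing S] [Algebra k S] (h : Synt.IsGlobalCI k S) (g : S)
    (T : Type u) [CommRing T] [Algebra k T] [Algebra S T] [IsScalarTower k S T] [IsLocalization.Away g T] :
    Synt.IsGlobalCI k T := by
  rcases h with h | ⟨n, c, hc, φ, r, hφ, hker, hd⟩
  · exact Or.inl (IsLocalization.subsingleton (M := Submonoid.powers g) (S := T) (by
      exact ⟨1, Subsingleton.elim _ _⟩))
  have hle : ringKrullDim T ≤ ringKrullDim S :=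
    Order.krullDim_le_of_strictMono (fun P : PrimeSpectrum T => PrimeSpectrum.comap (algebraMap S T) P)
      (Monotone.strictMono_of_injective (fun _ _ h => Ideal.comap_mono h)
        (PrimeSpectrum.localization_comap_injective T (Submonoid.powers g)))
  exact isGlobalCI_away_of_pres hc φ r hφ hker g T (hle.trans hd.le)

theorem isCohenMacaulayLocalRing_of_isGlobalCI {S : Type u} [CommRing S] [Algebra k S]
    (h : Synt.IsGlobalCI k S) (q : Ideal S) [q.IsPrime] :
    LocCoh.IsCohenMacaulayLocalRing (Localization.AtPrime q) := by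
  rcases h with h | ⟨n, c, hc, φ, r, hφ, hker, hd⟩
  · exact absurd (Subsingleton.elim q ⊤) (Ideal.IsPrime.ne_top ‹_›)
  · exact (local_data hc φ r hφ hker hd.le q).2.2.2

theorem isCohenMacaulayRing_of_isLCIOver {S : Type u} [CommRing S] [Algebra k S] (h : Synt.IsLCIOver k S) :
    LocCoh.IsCohenMacaulayRing S := by
  haveI := h.1
  haveI : IsNoetherianRing S := Algebra.FiniteType.isNoetherianRing k S
  refine { isCohenMacaulayLocalRing_localization := fun p _ => ?_ }
  obtain ⟨g, hg, hci⟩ := h.2 ⟨p, ‹_›⟩
  let T := Localization.Away g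
  have hd : Disjoint (Submonoid.powers g : Set S) p := Set.disjoint_left.2 fun x ⟨m, hm⟩ hx =>
    hg (‹p.IsPrime›.mem_of_pow_mem m (show g ^ m ∈ p by rwa [show g ^ m = x from hm]))
  haveI hP : (p.map (algebraMap S T)).IsPrime := IsLocalization.isPrime_of_isPrime_disjoint _ T p ‹_› hd
  haveI := isCohenMacaulayLocalRing_of_isGlobalCI hci (p.map (algebraMap S T))
  have hc : (p.map (algebraMap S T)).comap (algebraMap S T) = p :=
    IsLocalization.comap_map_of_isPrime_disjoint (Submonoid.powers g) T ‹_› hd
  haveI : ((p.map (algebraMap S T)).comap (algebraMap S T)).IsPrime := Ideal.IsPrime.comap _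
  haveI : IsLocalization.AtPrime (Localization.AtPrime (p.map (algebraMap S T))) p := by
    have := IsLocalization.isLocalization_isLocalization_atPrime_isLocalization (Submonoid.powers g)
      (Localization.AtPrime (p.map (algebraMap S T))) (p.map (algebraMap S T))
    convert this
    exact hc.symm
  exact CMCat.isCohenMacaulayLocalRing_of_ringEquiv
    (IsLocalization.algEquiv p.primeCompl (Localization.AtPrime (p.map (algebraMap S T)))
      (Localization.AtPrime p)).toRingEquiv

theorem isLCIOver_of_isGlobalCI {S : Type u} [CommRing S] [Algebra k S] (h : Synt.IsGlobalCI k S) :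
    Synt.IsLCIOver k S :=
  ⟨finiteType_of_isGlobalCI h, fun p => ⟨1, p.2.one_notMem, isGlobalCI_away h 1 _⟩⟩

theorem isLCIOver_away {S : Type u} [CommRing S] [Algebra k S] (h : Synt.IsLCIOver k S) (g : S)
    (T : Type u) [CommRing T] [Algebra k T] [Algebra S T] [IsScalarTower k S T] [IsLocalization.Away g T] :
    Synt.IsLCIOver k T := by
  haveI := h.1
  haveI : Algebra.FiniteType S T := IsLocalization.finiteType_of_monoid_fg (Submonoid.powers g) T
  refine ⟨Algebra.FiniteType.trans ‹Algebra.FiniteType k S› ‹_›, fun p => ?_⟩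
  obtain ⟨f, hf, hci⟩ := h.2 (p.comap (algebraMap S T))
  refine ⟨algebraMap S T f, hf, ?_⟩
  let U := Localization.Away (algebraMap S T f)
  haveI : IsLocalization.Away (g * f) U := IsLocalization.Away.mul' T U g f
  let V := Localization.Away f
  have hW := isGlobalCI_away hci (algebraMap S V g) (Localization.Away (algebraMap S V g))
  haveI : IsLocalization.Away (g * f) (Localization.Away (algebraMap S V g)) :=
    IsLocalization.Away.mul V (Localization.Away (algebraMap S V g)) f g
  exact isGlobalCI_congr ((IsLocalization.algEquiv (Submonoid.powers (g * f))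
    (Localization.Away (algebraMap S V g)) U).restrictScalars k) hW

theorem isLCIOver_congr {S T : Type u} [CommRing S] [Algebra k S] [CommRing T] [Algebra k T] (e : S ≃ₐ[k] T)
    (h : Synt.IsLCIOver k S) : Synt.IsLCIOver k T := by
  letI : Algebra S T := e.toAlgHom.toRingHom.toAlgebra
  haveI : IsScalarTower k S T := IsScalarTower.of_algebraMap_eq fun x => (e.commutes x).symm
  haveI : IsLocalization.Away (1 : S) T :=
    IsLocalization.away_of_isUnit_of_bijective T isUnit_one e.bijective
  exact isLCIOver_away h 1 T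

end Groth.Agent.CILib
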