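import Mathlib

/-!
Coordinates on base changes of free modules along a quotient.
-/

set_option autoImplicit false
set_option backward.isDefEq.respectTransparency false

universe u

open TensorProduct

namespace Groth.Agent.CILib

theorem exists_coord_equiv {P C κ : Type u} [CommRing P] [CommRing C] [CommRing κ] [Algebra P C] [Algebra P κ]
    [Algebra C κ] [IsScalarTower P C κ] (hsurj : Function.Surjective (algebraMap P C))
    {ι : Type} [Fintype ι] {M : Type u} [AddCommGroup M] [Module P M] [Module C M] [IsScalarTower P C M]
    (b : Module.Basis ι C M) :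
    ∃ e : (ι → κ) ≃ₗ[κ] κ ⊗[P] M, ∀ v, e v = ∑ i, v i ⊗ₜ[P] b i := by
  classical
  let f : (ι → κ) →ₗ[κ] κ ⊗[P] M := Fintype.linearCombination κ (fun i => (1 : κ) ⊗ₜ[P] b i)
  have hf : ∀ v, f v = ∑ i, v i ⊗ₜ[P] b i := fun v => by
    simp [f, Fintype.linearCombination_apply, TensorProduct.smul_tmul']
  let co : M →ₗ[P] (ι → κ) :=
    { toFun := fun m i => algebraMap C κ (b.repr m i)
      map_add' := fun x y => by funext i; simp
      map_smul' := fun a x => by
        funext i
        show algebraMap C κ (b.repr (a • x) i) = a • algebraMap C κ (b.repr x i)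
        rw [← algebraMap_smul C a x, map_smul, Finsupp.smul_apply, smul_eq_mul, map_mul,
          ← IsScalarTower.algebraMap_apply, Algebra.smul_def] }
  let g : κ ⊗[P] M →ₗ[P] (ι → κ) := TensorProduct.lift
    { toFun := fun a => a • co
      map_add' := fun x y => by ext; simp [add_mul]
      map_smul' := fun a x => by ext; simp [mul_assoc, Algebra.smul_def] }
  have hg : ∀ (a : κ) (m : M), g (a ⊗ₜ[P] m) = a • co m := fun a m => rfl
  have hinj : Function.Injective f := by
    intro v w hvw
    have key : ∀ v, g (f v) = v := fun v => by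
      funext j
      rw [hf, map_sum, Finset.sum_apply]
      simp only [hg, Pi.smul_apply, co, LinearMap.coe_mk, AddHom.coe_mk, Module.Basis.repr_self, smul_eq_mul,
        Finsupp.single_apply]
      simp
    rw [← key v, ← key w, hvw]
  have hs : Function.Surjective f := by
    intro z
    induction z using TensorProduct.induction_on with
    | zero => exact ⟨0, map_zero f⟩
    | add x y hx hy =>
      obtain ⟨v, rfl⟩ := hx
      obtain ⟨w, rfl⟩ := hy
      exact ⟨v + w, map_add f v w⟩
    | tmul a m =>
      choose s hs using fun i => hsurj (b.repr m i)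
      refine ⟨fun i => a * algebraMap P κ (s i), ?_⟩
      rw [hf, show a ⊗ₜ[P] m = ∑ i, a ⊗ₜ[P] ((s i) • b i) by
        rw [← TensorProduct.tmul_sum]
        congr 1
        conv_lhs => rw [← b.sum_repr m]
        refine Finset.sum_congr rfl fun i _ => ?_
        rw [← hs i, algebraMap_smul]]
      refine Finset.sum_congr rfl fun i _ => ?_
      rw [← TensorProduct.smul_tmul, Algebra.smul_def, mul_comm]
  exact ⟨LinearEquiv.ofBijective f ⟨hinj, hs⟩, hf⟩

end Groth.Agent.CILib
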