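import Groth.Agent.CILib.KoszulRegular
import Groth.Agent.KosStableLib.Main

/-!
Calculus of Koszul complexes: appending elements of the ideal, permutations, invariance under the
choice of generators, and cutting by a Koszul-regular sequence.
-/

set_option autoImplicit false
set_option linter.style.haveILetI false
set_option backward.isDefEq.respectTransparency false

universe u

open CategoryTheory CategoryTheory.Limits CochainComplex

noncomputable section

namespace Groth.Agent.CILib

open Groth.Agent.KoszulCech Groth.Agent.KosStableLib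

variable {A : Type u} [CommRing A]

theorem isKoszulRegularSeq_iff_ex (l : List A) :
    LCI.IsKoszulRegularSeq A l ↔ ∀ k : ℤ, k ≠ 0 → Ex (Koszul.koszul A l) k :=
  forall₂_congr fun k _ => (ex_iff _ k).symm

theorem koszul_append : ∀ h l : List A, Koszul.koszul A (h ++ l) = kz h (Koszul.koszul A l)
  | [], _ => rfl
  | f :: h, l => by
    show mappingCone (f • 𝟙 (Koszul.koszul A (h ++ l))) = mappingCone (f • 𝟙 (kz h _))
    rw [koszul_append h l]

theorem nonempty_homotopy_koszul (l : List A) {y : A} (hy : y ∈ Ideal.ofList l) :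
    Nonempty (Homotopy (y • 𝟙 (Koszul.koszul A l)) 0) := by
  rw [koszul_eq]
  exact nonempty_homotopy_smul _ l y hy

/-- Vanishing for the cone of a null-homotopic multiplication. -/
theorem ex_cone_iff {K : CochainComplex (ModuleCat.{u} A) ℤ} {y : A} (H : Homotopy (y • 𝟙 K) 0) (m : ℤ) :
    Ex (mappingCone (y • 𝟙 K)) m ↔ Ex K m ∧ Ex K (m + 1) := by
  obtain ⟨h, e⟩ := exists_family_of_homotopy H
  have hm : m - 1 + 1 = m := by omega
  have key : ∀ i j l (hj : j + 1 = i) (hl : i + 1 = l) (x : K.X i), K.d i l x = 0 →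
      y • x = K.d j i (h i j hj x) := fun i j l hj hl x hx => by
    rw [← smulId_f_apply, e i j l hj hl x, hx, map_zero, zero_add]
  constructor
  · intro hC
    refine ⟨fun b hb => ?_, fun a ha => ?_⟩
    · obtain ⟨w, hw⟩ := hC (cmk (y • 𝟙 K) m (m + 1) rfl 0 b) (by
        refine cone_ext _ (rfl : m + 1 + 1 = m + 1 + 1) ?_ ?_
        · rw [cfst_d _ rfl rfl, cfst_cmk, map_zero, neg_zero, map_zero]
        · rw [csnd_d _ rfl, cfst_cmk, csnd_cmk, map_zero, hb, add_zero, map_zero])
      have h1 := congrArg (cfst (y • 𝟙 K) m (m + 1) rfl) hw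
      have h2 := congrArg (csnd (y • 𝟙 K) m) hw
      rw [cfst_d _ hm rfl, cfst_cmk, neg_eq_zero] at h1
      rw [csnd_d _ hm, csnd_cmk, smulId_f_apply, key m (m - 1) (m + 1) hm rfl _ h1, ← map_add] at h2
      exact ⟨_, h2⟩
    · have e1 := key (m + 1) m (m + 1 + 1) rfl rfl a ha
      obtain ⟨w, hw⟩ := hC (cmk (y • 𝟙 K) m (m + 1) rfl a (-h (m + 1) m rfl a)) (by
        refine cone_ext _ (rfl : m + 1 + 1 = m + 1 + 1) ?_ ?_
        · rw [cfst_d _ rfl rfl, cfst_cmk, ha, neg_zero, map_zero]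
        · rw [csnd_d _ rfl, cfst_cmk, csnd_cmk, smulId_f_apply, map_neg, e1, add_neg_cancel, map_zero])
      have h1 := congrArg (cfst (y • 𝟙 K) m (m + 1) rfl) hw
      rw [cfst_d _ hm rfl, cfst_cmk, ← map_neg] at h1
      obtain ⟨n, hn⟩ : ∃ n : ℤ, n = m + 1 - 1 := ⟨_, rfl⟩
      rw [← hn]
      obtain rfl : n = m := by omega
      exact ⟨_, h1⟩
  · rintro ⟨hb', ha'⟩ x hx
    have hx1 := congrArg (cfst (y • 𝟙 K) (m + 1) (m + 1 + 1) rfl) hx
    have hx2 := congrArg (csnd (y • 𝟙 K) (m + 1)) hx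
    rw [cfst_d _ rfl rfl, map_zero, neg_eq_zero] at hx1
    rw [csnd_d _ rfl, map_zero, smulId_f_apply] at hx2
    obtain ⟨n, hn, a', ha⟩ : ∃ n, n = m ∧ ∃ a' : K.X n, K.d n (m + 1) a' = cfst (y • 𝟙 K) m (m + 1) rfl x :=
      ⟨m + 1 - 1, by omega, ha' _ hx1⟩
    subst hn
    obtain ⟨b', hb⟩ := hb' (csnd (y • 𝟙 K) n x + y • a') (by
      rw [map_add, map_smul, ha]; exact (add_comm _ _).trans hx2)
    refine ⟨cmk (y • 𝟙 K) (n - 1) n hm (-a') b', cone_ext _ rfl ?_ ?_⟩
    · rw [cfst_d _ hm rfl, cfst_cmk, map_neg, neg_neg, ha]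
    · rw [csnd_d _ hm, cfst_cmk, csnd_cmk, smulId_f_apply, smul_neg, hb]
      abel

/-- Vanishing for a Koszul complex extended by elements of the ideal. -/
theorem ex_append_iff : ∀ (ys l : List A), (∀ y ∈ ys, y ∈ Ideal.ofList l) → ∀ m : ℤ,
    Ex (Koszul.koszul A (ys ++ l)) m ↔ ∀ j : ℕ, j ≤ ys.length → Ex (Koszul.koszul A l) (m + j)
  | [], l, _, m => by simp
  | y :: ys, l, hys, m => by
    obtain ⟨H⟩ := nonempty_homotopy_koszul (ys ++ l)
      (show y ∈ Ideal.ofList (ys ++ l) from Ideal.ofList_append ys l ▸ Ideal.mem_sup_right (hys y (by simp)))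
    show Ex (mappingCone (y • 𝟙 (Koszul.koszul A (ys ++ l)))) m ↔ _
    rw [ex_cone_iff H, ex_append_iff ys l (fun z hz => hys z (by simp [hz])),
      ex_append_iff ys l (fun z hz => hys z (by simp [hz]))]
    simp only [List.length_cons]
    constructor
    · rintro ⟨h1, h2⟩ j hj
      rcases Nat.lt_or_ge j (ys.length + 1) with hlt | hge
      · exact h1 j (by omega)
      · have := h2 ys.length le_rfl
        rwa [show m + 1 + (ys.length : ℤ) = m + j by omega] at this
    · intro h
      refine ⟨fun j hj => h j (by omega), fun j hj => ?_⟩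
      have := h (j + 1) (by omega)
      rwa [show m + ((j + 1 : ℕ) : ℤ) = m + 1 + j by omega] at this

theorem exists_bij_of_perm {l l' : List A} (h : l.Perm l') (K : CochainComplex (ModuleCat.{u} A) ℤ) :
    ∃ e : kz l K ⟶ kz l' K, ∀ k, Function.Bijective (e.f k) := by
  induction h with
  | nil => exact ⟨𝟙 _, fun _ => Function.bijective_id⟩
  | @cons x s t _ ih =>
    obtain ⟨e, he⟩ := ih
    exact ⟨sq (x • 𝟙 (kz s K)) (x • 𝟙 (kz t K)) e e (by simp),
      bijective_map_f _ _ _ _ _ he he⟩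
  | swap x y s =>
    obtain ⟨e, he⟩ := exists_swap_smul (x • 𝟙 (kz s K)) y
    refine ⟨e ≫ eqToHom ?_, bijective_comp he fun k => ?_⟩
    · show _ = mappingCone (x • 𝟙 (mappingCone (y • 𝟙 (kz s K))))
      rw [smul_id_cone (y • 𝟙 (kz s K)) x]
    · rw [← ConcreteCategory.isIso_iff_bijective]
      infer_instance
  | trans _ _ ih₁ ih₂ =>
    obtain ⟨e₁, h₁⟩ := ih₁
    obtain ⟨e₂, h₂⟩ := ih₂
    exact ⟨e₁ ≫ e₂, bijective_comp h₁ h₂⟩

theorem ex_perm {l l' : List A} (h : l.Perm l') (k : ℤ) :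
    Ex (Koszul.koszul A l) k ↔ Ex (Koszul.koszul A l') k := by
  obtain ⟨e, he⟩ := exists_bij_of_perm h ((HomologicalComplex.single _ (ComplexShape.up ℤ) 0).obj (ModuleCat.of A A))
  have := ex_iff_of_bijective e he k
  rwa [kz_single_eq, kz_single_eq] at this

theorem isKoszulRegularSeq_perm {l l' : List A} (h : l.Perm l') (hl : LCI.IsKoszulRegularSeq A l) :
    LCI.IsKoszulRegularSeq A l' :=
  (isKoszulRegularSeq_iff_ex l').2 fun k hk => (ex_perm h k).1 ((isKoszulRegularSeq_iff_ex l).1 hl k hk)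

theorem ex_of_out_of_range (l : List A) {k : ℤ} (hk : 0 < k ∨ k < -(l.length : ℤ)) :
    Ex (Koszul.koszul A l) k := by
  rw [koszul_eq]
  intro x _
  haveI := subsingleton_X (ModuleCat.of A A) l k hk
  exact ⟨0, Subsingleton.elim _ _⟩

theorem not_ex_zero {l : List A} (h : Ideal.ofList l ≠ ⊤) : ¬ Ex (Koszul.koszul A l) 0 := by
  intro hE
  rw [ex_iff, koszul_eq] at hE
  obtain ⟨e⟩ := nonempty_top_equiv (ModuleCat.of A A) l
  haveI := ModuleCat.subsingleton_of_isZero hE
  haveI := e.symm.toEquiv.subsingleton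
  have h2 : Ideal.ofList l • (⊤ : Submodule A A) = ⊤ := Submodule.Quotient.subsingleton_iff.mp this
  rw [smul_eq_mul, Ideal.mul_top] at h2
  exact h h2

/-- Vanishing for two lists generating the same ideal. -/
theorem ex_iff_of_ofList_eq {h l : List A} (hhl : Ideal.ofList h = Ideal.ofList l) (m : ℤ) :
    (∀ j : ℕ, j ≤ h.length → Ex (Koszul.koszul A l) (m + j)) ↔
      ∀ j : ℕ, j ≤ l.length → Ex (Koszul.koszul A h) (m + j) := by
  rw [← ex_append_iff h l (fun y hy => hhl ▸ Ideal.subset_span hy),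
    ← ex_append_iff l h (fun y hy => hhl.symm ▸ Ideal.subset_span hy), ex_perm List.perm_append_comm]

/-- A list of generators no longer than a Koszul-regular one is Koszul regular. -/
theorem isKoszulRegularSeq_of_ofList_eq {h l : List A} (hl : LCI.IsKoszulRegularSeq A l)
    (hhl : Ideal.ofList h = Ideal.ofList l) (hlen : h.length ≤ l.length) : LCI.IsKoszulRegularSeq A h := by
  rw [isKoszulRegularSeq_iff_ex] at hl ⊢
  intro k hk
  by_cases hpos : 0 < k
  · exact ex_of_out_of_range h (Or.inl hpos)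
  · have := (ex_iff_of_ofList_eq hhl (k - l.length)).1 (fun j hj => hl _ (by omega)) l.length le_rfl
    rwa [show k - (l.length : ℤ) + l.length = k by omega] at this

/-- Koszul-regular generating lists of a proper ideal have the same length. -/
theorem length_le_of_ofList_eq {h l : List A} (hl : LCI.IsKoszulRegularSeq A l)
    (hhl : Ideal.ofList h = Ideal.ofList l) (hI : Ideal.ofList l ≠ ⊤) : l.length ≤ h.length := by
  by_contra hlt
  have h1 := (ex_iff_of_ofList_eq hhl (-(l.length : ℤ))).1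
    (fun j hj => (isKoszulRegularSeq_iff_ex l).1 hl _ (by omega)) l.length le_rfl
  rw [show -(l.length : ℤ) + l.length = 0 by omega] at h1
  exact not_ex_zero (hhl ▸ hI) h1

section Semilinear

variable {B : Type u} [CommRing B]

/-- An additive isomorphism of complexes, semilinear along a ring map. -/
structure SemiIso (φ : A →+* B) (K : CochainComplex (ModuleCat.{u} A) ℤ)
    (K' : CochainComplex (ModuleCat.{u} B) ℤ) where
  e : ∀ k, K.X k ≃+ K'.X k
  comm : ∀ i j, i + 1 = j → ∀ x, e j (K.d i j x) = K'.d i j (e i x)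
  smul : ∀ k (a : A) x, e k (a • x) = φ a • e k x

variable {φ : A →+* B} {K : CochainComplex (ModuleCat.{u} A) ℤ} {K' : CochainComplex (ModuleCat.{u} B) ℤ}

theorem SemiIso.ex_iff (S : SemiIso φ K K') (k : ℤ) : Ex K k ↔ Ex K' k := by
  have hk : k - 1 + 1 = k := by omega
  constructor
  · intro h x hx
    obtain ⟨x, rfl⟩ := (S.e k).surjective x
    obtain ⟨w, hw⟩ := h x ((S.e (k + 1)).injective (by rw [S.comm k (k + 1) rfl, hx, map_zero]))
    exact ⟨S.e (k - 1) w, by rw [← S.comm _ _ hk, hw]⟩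
  · intro h x hx
    obtain ⟨w, hw⟩ := h (S.e k x) (by rw [← S.comm k (k + 1) rfl, hx, map_zero])
    obtain ⟨w, rfl⟩ := (S.e (k - 1)).surjective w
    exact ⟨w, (S.e k).injective (by rw [S.comm _ _ hk, hw])⟩

/-- The cone of a multiplication. -/
def SemiIso.cone (S : SemiIso φ K K') (f : A) :
    SemiIso φ (mappingCone (f • 𝟙 K)) (mappingCone (φ f • 𝟙 K')) where
  e k :=
    { toFun := fun x => cmk (φ f • 𝟙 K') k (k + 1) rfl (S.e (k + 1) (cfst (f • 𝟙 K) k (k + 1) rfl x))
        (S.e k (csnd (f • 𝟙 K) k x))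
      invFun := fun y => cmk (f • 𝟙 K) k (k + 1) rfl
        ((S.e (k + 1)).symm (cfst (φ f • 𝟙 K') k (k + 1) rfl y)) ((S.e k).symm (csnd (φ f • 𝟙 K') k y))
      left_inv := fun x => cone_ext _ rfl (by simp [cfst_cmk]) (by simp [csnd_cmk])
      right_inv := fun y => cone_ext _ rfl (by simp [cfst_cmk]) (by simp [csnd_cmk])
      map_add' := fun x y => cone_ext _ rfl (by simp [cfst_cmk]) (by simp [csnd_cmk]) }
  comm i j hij x := by
    subst hij
    refine cone_ext _ rfl ?_ ?_
    · simp [cfst_cmk, cfst_d _ rfl rfl, S.comm _ _ rfl]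
    · simp [cfst_cmk, csnd_cmk, csnd_d _ rfl, S.comm _ _ rfl, smulId_f_apply, S.smul]
  smul k a x := cone_ext _ rfl (by simp [cfst_cmk, S.smul]) (by simp [csnd_cmk, S.smul])

/-- Iterated cones. -/
def SemiIso.kz (S : SemiIso φ K K') : ∀ l : List A, SemiIso φ (KosStableLib.kz l K) (KosStableLib.kz (l.map φ) K')
  | [] => S
  | f :: l => (SemiIso.kz S l).cone f

/-- The degree zero complexes. -/
def SemiIso.single [Algebra A B] : SemiIso (algebraMap A B)
    ((HomologicalComplex.single (ModuleCat.{u} A) (ComplexShape.up ℤ) 0).obj (ModuleCat.of A B))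
    ((HomologicalComplex.single (ModuleCat.{u} B) (ComplexShape.up ℤ) 0).obj (ModuleCat.of B B)) where
  e k :=
    if h : k = 0 then
      (HomologicalComplex.singleObjXIsoOfEq (ComplexShape.up ℤ) 0 (ModuleCat.of A B) k h).toLinearEquiv.toAddEquiv.trans
        (HomologicalComplex.singleObjXIsoOfEq (ComplexShape.up ℤ) 0 (ModuleCat.of B B) k h).toLinearEquiv.symm.toAddEquiv
    else
      haveI := ModuleCat.subsingleton_of_isZero
        (HomologicalComplex.isZero_single_obj_X (ComplexShape.up ℤ) 0 (ModuleCat.of A B) k h)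
      haveI := ModuleCat.subsingleton_of_isZero
        (HomologicalComplex.isZero_single_obj_X (ComplexShape.up ℤ) 0 (ModuleCat.of B B) k h)
      { toFun := fun _ => 0
        invFun := fun _ => 0
        left_inv := fun _ => Subsingleton.elim _ _
        right_inv := fun _ => Subsingleton.elim _ _
        map_add' := fun _ _ => (add_zero _).symm }
  comm i j _ x := by simp
  smul k a x := by
    split_ifs with h
    · let e₁ := (HomologicalComplex.singleObjXIsoOfEq (ComplexShape.up ℤ) 0 (ModuleCat.of A B) k h).toLinearEquiv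
      let e₂ := (HomologicalComplex.singleObjXIsoOfEq (ComplexShape.up ℤ) 0 (ModuleCat.of B B) k h).toLinearEquiv
      show e₂.symm (e₁ (a • x)) = algebraMap A B a • e₂.symm (e₁ x)
      rw [← LinearEquiv.map_smul e₂.symm, LinearEquiv.map_smul e₁]
      exact congrArg e₂.symm (algebra_compatible_smul B a (e₁ x : B))
    · haveI := ModuleCat.subsingleton_of_isZero
        (HomologicalComplex.isZero_single_obj_X (ComplexShape.up ℤ) 0 (ModuleCat.of B B) k h)
      exact Subsingleton.elim _ _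

end Semilinear

theorem exists_hBij_kz : ∀ (l : List A) {K L : CochainComplex (ModuleCat.{u} A) ℤ} (ψ : K ⟶ L), HBij ψ →
    ∃ χ : kz l K ⟶ kz l L, HBij χ
  | [], _, _, ψ, h => ⟨ψ, h⟩
  | f :: l, K, L, ψ, h => by
    obtain ⟨χ, hχ⟩ := exists_hBij_kz l ψ h
    exact ⟨mappingCone.map (f • 𝟙 (kz l K)) (f • 𝟙 (kz l L)) χ χ (by simp), HBij.cone _ hχ hχ⟩

/-- The augmentation of a Koszul-regular Koszul complex is a quasi-isomorphism. -/
theorem exists_hBij_quot {B : Type u} [CommRing B] [Algebra A B] (g : List A)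
    (hg : LCI.IsKoszulRegularSeq A g) (hs : Function.Surjective (algebraMap A B))
    (hk : RingHom.ker (algebraMap A B) = Ideal.ofList g) :
    ∃ ψ : Koszul.koszul A g ⟶
      (HomologicalComplex.single (ModuleCat.{u} A) (ComplexShape.up ℤ) 0).obj (ModuleCat.of A B), HBij ψ := by
  rw [isKoszulRegularSeq_iff_ex] at hg
  rw [koszul_eq] at hg ⊢
  let K := CohIII.koszulCx (ModuleCat.of A A) g
  let S := (HomologicalComplex.single (ModuleCat.{u} A) (ComplexShape.up ℤ) 0).obj (ModuleCat.of A B)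
  let a : K.X 0 →ₗ[A] B := (Algebra.linearMap A B).comp (kaug (ModuleCat.of A A) g)
  have ha : ∀ x : K.X 0, a x = 0 ↔ ∃ w, K.d (-1) 0 w = x := fun x => by
    refine Iff.trans ?_ (kaug_mem_iff (ModuleCat.of A A) g x)
    rw [smul_eq_mul, Ideal.mul_top, ← hk, RingHom.mem_ker]
    rfl
  let ψ : K ⟶ S := HomologicalComplex.mkHomToSingle (ModuleCat.ofHom a) fun i hi => by
    change i + 1 = 0 at hi
    obtain rfl : i = -1 := by omega
    ext w
    exact (ha _).2 ⟨w, rfl⟩
  have hψ : ∀ x : K.X 0, (HomologicalComplex.singleObjXSelf (ComplexShape.up ℤ) 0 (ModuleCat.of A B)).hom (ψ.f 0 x)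
      = a x := fun x => by
    simp [ψ]
    exact ConcreteCategory.congr_hom
      (HomologicalComplex.singleObjXSelf (ComplexShape.up ℤ) 0 (ModuleCat.of A B)).inv_hom_id (a x)
  have hne : ∀ k : ℤ, k ≠ 0 → Subsingleton (S.X k) := fun k hk =>
    ModuleCat.subsingleton_of_isZero (HomologicalComplex.isZero_single_obj_X _ _ _ _ hk)
  refine ⟨ψ, ⟨fun i k l hik hkl x hx w hw => ?_, fun i k l hik hkl y hy => ?_⟩⟩
  · obtain rfl : i = k - 1 := by omega
    obtain rfl : l = k + 1 := by omega
    by_cases hk0 : k = 0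
    · subst hk0
      haveI := hne (0 - 1) (by omega)
      have h0 : ψ.f 0 x = 0 := hw.trans (by rw [Subsingleton.elim w 0, map_zero])
      obtain ⟨v, hv⟩ := (ha x).1 (by rw [← hψ, h0, map_zero])
      exact ⟨v, hv⟩
    · exact hg k hk0 x hx
  · by_cases hk0 : k = 0
    · subst hk0
      obtain ⟨b, hb⟩ := hs ((HomologicalComplex.singleObjXSelf (ComplexShape.up ℤ) 0 (ModuleCat.of A B)).hom y)
      obtain ⟨x, hx⟩ := kaug_surjective (ModuleCat.of A A) g b
      haveI := subsingleton_X (ModuleCat.of A A) g l (Or.inl (by omega))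
      refine ⟨x, 0, Subsingleton.elim _ _, ?_⟩
      rw [map_zero, add_zero]
      apply (HomologicalComplex.singleObjXSelf (ComplexShape.up ℤ) 0 (ModuleCat.of A B)).toLinearEquiv.injective
      refine Eq.trans ?_ (hψ x).symm
      show _ = algebraMap A B (kaug (ModuleCat.of A A) g x)
      rw [hx, hb]
      rfl
    · haveI := hne k hk0
      exact ⟨0, 0, map_zero _, Subsingleton.elim _ _⟩

/-- Cutting by a Koszul-regular sequence. -/
theorem ex_append_iff_quot {B : Type u} [CommRing B] [Algebra A B] (g : List A)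
    (hg : LCI.IsKoszulRegularSeq A g) (hs : Function.Surjective (algebraMap A B))
    (hk : RingHom.ker (algebraMap A B) = Ideal.ofList g) (h : List A) (k : ℤ) :
    Ex (Koszul.koszul A (h ++ g)) k ↔ Ex (Koszul.koszul B (h.map (algebraMap A B))) k := by
  obtain ⟨ψ, hψ⟩ := exists_hBij_quot g hg hs hk
  obtain ⟨χ, hχ⟩ := exists_hBij_kz h ψ hψ
  have h1 : Ex (kz h (Koszul.koszul A g)) k ↔
      Ex (kz h ((HomologicalComplex.single (ModuleCat.{u} A) (ComplexShape.up ℤ) 0).obj (ModuleCat.of A B))) k := by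
    rw [KosStableLib.ex_iff, KosStableLib.ex_iff]
    have e := (LinearEquiv.ofBijective _ (hχ.bijective_homologyMap k)).toModuleIso
    exact ⟨fun hz => hz.of_iso e.symm, fun hz => hz.of_iso e⟩
  rw [koszul_append, h1, ((SemiIso.single (A := A) (B := B)).kz h).ex_iff, kz_single_eq]

theorem isKoszulRegularSeq_append_iff {B : Type u} [CommRing B] [Algebra A B] (g : List A)
    (hg : LCI.IsKoszulRegularSeq A g) (hs : Function.Surjective (algebraMap A B))
    (hk : RingHom.ker (algebraMap A B) = Ideal.ofList g) (h : List A) :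
    LCI.IsKoszulRegularSeq A (h ++ g) ↔ LCI.IsKoszulRegularSeq B (h.map (algebraMap A B)) := by
  rw [isKoszulRegularSeq_iff_ex, isKoszulRegularSeq_iff_ex]
  exact forall₂_congr fun k _ => ex_append_iff_quot g hg hs hk h k

end Groth.Agent.CILib
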