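import Groth.Agent.CILib.KoszulLCI
import Groth.Agent.RelDivLib.ImmBC

/-!
Flat base change and faithfully flat descent of Koszul regularity and of lci ring maps.
-/

set_option autoImplicit false
set_option linter.style.haveILetI false
set_option backward.isDefEq.respectTransparency false

universe u

open CategoryTheory CategoryTheory.Limits
open scoped TensorProduct

noncomputable section

namespace Groth.Agent.CILib

variable {A B : Type u} [CommRing A] [CommRing B] [Algebra A B]

theorem subsingleton_of_isZero_extend [Module.FaithfullyFlat A B] (H : ModuleCat.{u} A)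
    (h : IsZero ((ModuleCat.extendScalars.{u, u, u} (algebraMap A B)).obj H)) : Subsingleton H := by
  let N : ModuleCat.{u} B := ModuleCat.of B (B ⊗[A] H)
  let g : H ⟶ (ModuleCat.restrictScalars.{u} (algebraMap A B)).obj N := ModuleCat.ofHom
    (Y := (ModuleCat.restrictScalars.{u} (algebraMap A B)).obj N)
    { toFun := fun x => (TensorProduct.mk A B H 1 x : N)
      map_add' := fun x y => map_add _ x y
      map_smul' := fun a x => by
        rw [map_smul]
        exact (algebraMap_smul B a (TensorProduct.mk A B H 1 x)).symm }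
  have hg : g = 0 := by
    let adj := ModuleCat.extendRestrictScalarsAdj.{u, u, u} (algebraMap A B)
    rw [← (adj.homEquiv H N).apply_symm_apply g, h.eq_of_src ((adj.homEquiv H N).symm g) 0, Adjunction.homEquiv_unit,
      Functor.map_zero, comp_zero]
  refine subsingleton_of_forall_eq 0 fun z => Module.FaithfullyFlat.tensorProduct_mk_injective (A := A) (B := B) H ?_
  rw [map_zero]
  exact congrArg (fun φ => (ModuleCat.Hom.hom φ) z) hg

/-- Koszul regularity descends along faithfully flat maps. -/
theorem isKoszulRegularSeq_of_faithfullyFlat [Module.FaithfullyFlat A B] {l : List A}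
    (h : LCI.IsKoszulRegularSeq B (l.map (algebraMap A B))) : LCI.IsKoszulRegularSeq A l := by
  intro i hi
  obtain ⟨e⟩ := Groth.Agent.RelDivLib.nonempty_koszul_extendScalars (S := B) l
  haveI : Limits.PreservesFiniteLimits (ModuleCat.extendScalars.{u, u, u} (algebraMap A B)) :=
    ModuleCat.preservesFiniteLimits_extendScalars_of_flat (RingHom.flat_algebraMap_iff.2 inferInstance)
  haveI := subsingleton_of_isZero_extend (B := B) ((Koszul.koszul A l).homology i)
    ((h i hi).of_iso ((((Koszul.koszul A l).sc i).mapHomologyIso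
      (ModuleCat.extendScalars.{u, u, u} (algebraMap A B))).symm ≪≫
      (HomologicalComplex.homologyFunctor (ModuleCat.{u} B) (ComplexShape.up ℤ) i).mapIso e))
  exact ModuleCat.isZero_of_subsingleton _

theorem fg_of_map_fg [Module.FaithfullyFlat A B] {I : Ideal A} (h : (I.map (algebraMap A B)).FG) : I.FG := by
  classical
  obtain ⟨s, hs⟩ := h
  have hsub : ∀ x ∈ s, ∃ t : Finset A, (↑t ⊆ (I : Set A)) ∧ x ∈ (Ideal.span (t : Set A)).map (algebraMap A B) := by
    intro x hx
    have hxI : x ∈ Ideal.span (algebraMap A B '' (I : Set A)) := by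
      change x ∈ I.map (algebraMap A B)
      rw [← hs]
      exact Submodule.subset_span hx
    obtain ⟨t, ht, hxt⟩ := Submodule.mem_span_finite_of_mem_span hxI
    obtain ⟨t', ht', rfl⟩ := Finset.subset_set_image_iff.1 ht
    refine ⟨t', ht', ?_⟩
    rw [Ideal.map_span, ← Finset.coe_image]
    exact hxt
  choose! t ht htx using hsub
  refine ⟨s.biUnion t, ?_⟩
  change Ideal.span (↑(s.biUnion t) : Set A) = I
  have hle : Ideal.span (↑(s.biUnion t) : Set A) ≤ I := Ideal.span_le.2 (by
    simp only [Finset.coe_biUnion, Set.iUnion_subset_iff]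
    exact ht)
  refine le_antisymm hle ?_
  have hm : I.map (algebraMap A B) ≤ (Ideal.span (↑(s.biUnion t) : Set A)).map (algebraMap A B) := by
    rw [← hs]
    refine Submodule.span_le.2 fun x hx => ?_
    exact Ideal.map_mono (Ideal.span_mono (Finset.coe_subset.2 (Finset.subset_biUnion_of_mem t hx))) (htx x hx)
  have := Ideal.comap_mono (f := algebraMap A B) hm
  rwa [Ideal.comap_map_eq_self_of_faithfullyFlat, Ideal.comap_map_eq_self_of_faithfullyFlat] at this

/-- Koszul regularity of a list in the local ring at a prime. -/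
def RegAt (l : List A) (r : Ideal A) [r.IsPrime] : Prop :=
  LCI.IsKoszulRegularSeq (Localization.AtPrime r) (l.map (algebraMap A (Localization.AtPrime r)))

theorem regAt_comap_iff [Module.Flat A B] (l : List A) (q : Ideal B) [q.IsPrime] (r : Ideal A) [r.IsPrime]
    (hr : r = q.comap (algebraMap A B)) : RegAt (l.map (algebraMap A B)) q ↔ RegAt l r := by
  subst hr
  let r := q.comap (algebraMap A B)
  haveI : q.LiesOver r := ⟨rfl⟩
  let L := Localization.AtPrime r
  let L' := Localization.AtPrime q
  letI : Algebra L L' := (Localization.localRingHom r q (algebraMap A B) rfl).toAlgebra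
  haveI : IsScalarTower A L L' := .of_algebraMap_eq fun x => by
    rw [IsScalarTower.algebraMap_apply A B L', RingHom.algebraMap_toAlgebra, Localization.localRingHom_to_map]
  haveI : IsLocalHom (algebraMap L L') := inferInstanceAs (IsLocalHom (Localization.localRingHom r q (algebraMap A B) rfl))
  haveI : Module.Flat L L' := by
    haveI : Module.Flat A L' := Module.Flat.trans A B L'
    exact (Module.flat_iff_of_isLocalization L r.primeCompl L').2 inferInstance
  haveI : Module.FaithfullyFlat L L' := .of_flat_of_isLocalHom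
  have hm : (l.map (algebraMap A B)).map (algebraMap B L') = (l.map (algebraMap A L)).map (algebraMap L L') := by
    rw [List.map_map, List.map_map]
    exact List.map_congr_left fun x _ => by
      simp only [Function.comp_apply, ← IsScalarTower.algebraMap_apply]
  show LCI.IsKoszulRegularSeq L' _ ↔ LCI.IsKoszulRegularSeq L _
  rw [hm]
  exact ⟨isKoszulRegularSeq_of_faithfullyFlat, Groth.Agent.RelDivLib.isKoszulRegularSeq_flat⟩

theorem map_eq_top_of_not_le {I : Ideal A} {r : Ideal A} [r.IsPrime] (h : ¬ I ≤ r) :
    I.map (algebraMap A (Localization.AtPrime r)) = ⊤ := by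
  obtain ⟨x, hx, hxr⟩ := SetLike.not_le_iff_exists.1 h
  exact Ideal.eq_top_of_isUnit_mem _ (Ideal.mem_map_of_mem _ hx)
    (IsLocalization.map_units _ (⟨x, hxr⟩ : r.primeCompl))

/-- The Koszul regularity of generators of a Koszul regular ideal spreads out. -/
theorem exists_regAt_nhd {I : Ideal A} (hI : LCI.IsKoszulRegularIdeal I) (l : List A) (c : A)
    (hlI : Ideal.ofList l ≤ I) (hgen : ∀ x ∈ I, c * x ∈ Ideal.ofList l) (r : Ideal A) [r.IsPrime] (hc : c ∉ r)
    (hreg : RegAt l r) : ∃ w, w ∉ r ∧ ∀ (r' : Ideal A) [r'.IsPrime], w ∉ r' → RegAt l r' := by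
  have hmap : ∀ (r' : Ideal A) [r'.IsPrime], c ∉ r' →
      I.map (algebraMap A (Localization.AtPrime r')) = Ideal.ofList (l.map (algebraMap A (Localization.AtPrime r'))) := by
    intro r' _ hc'
    rw [← Ideal.map_ofList]
    refine le_antisymm (Ideal.map_le_iff_le_comap.2 fun x hx => ?_) (Ideal.map_mono hlI)
    rw [Ideal.mem_comap, ← Ideal.unit_mul_mem_iff_mem _ (IsLocalization.map_units (Localization.AtPrime r')
      (⟨c, hc'⟩ : r'.primeCompl)), ← map_mul]
    exact Ideal.mem_map_of_mem _ (hgen x hx)
  by_cases hIr : I ≤ r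
  · obtain ⟨g, hg, l₀, -, hl₀⟩ := exists_nearGen hI r hIr
    let L := Localization.AtPrime r
    haveI : Module.Flat A L := IsLocalization.flat _ r.primeCompl
    obtain ⟨h₁, h₂⟩ := hl₀ L (IsLocalization.map_units L (⟨g, hg⟩ : r.primeCompl))
    have hne : Ideal.ofList (l.map (algebraMap A L)) ≠ ⊤ := by
      rw [← hmap r hc]
      refine ne_top_of_le_ne_top ?_ (Ideal.map_mono hIr)
      rw [Localization.AtPrime.map_eq_maximalIdeal]
      exact (IsLocalRing.maximalIdeal.isMaximal L).ne_top
    have hlen : l.length ≤ l₀.length := by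
      have := length_le_of_ofList_eq hreg ((h₂.symm.trans (hmap r hc))) hne
      simpa using this
    refine ⟨g * c, fun h => ((‹r.IsPrime›).mem_or_mem h).elim hg hc, fun r' _ hw => ?_⟩
    have hg' : g ∉ r' := fun h => hw (Ideal.mul_mem_right _ _ h)
    have hc' : c ∉ r' := fun h => hw (Ideal.mul_mem_left _ _ h)
    haveI : Module.Flat A (Localization.AtPrime r') := IsLocalization.flat _ r'.primeCompl
    obtain ⟨h₁', h₂'⟩ := hl₀ (Localization.AtPrime r') (IsLocalization.map_units _ (⟨g, hg'⟩ : r'.primeCompl))
    exact isKoszulRegularSeq_of_ofList_eq h₁' ((hmap r' hc').symm.trans h₂') (by simpa using hlen)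
  · obtain ⟨x, hx, hxr⟩ := SetLike.not_le_iff_exists.1 hIr
    refine ⟨x * c, fun h => ((‹r.IsPrime›).mem_or_mem h).elim hxr hc, fun r' _ hw => ?_⟩
    refine isKoszulRegularSeq_of_span_eq_top _ ?_
    show Ideal.ofList _ = ⊤
    rw [← hmap r' fun h => hw (Ideal.mul_mem_left _ _ h)]
    exact map_eq_top_of_not_le fun h => hw (Ideal.mul_mem_right _ _ (h hx))

/-- Koszul regularity of an ideal descends along faithfully flat maps. -/
theorem isKoszulRegularIdeal_of_faithfullyFlat [Module.FaithfullyFlat A B] {I : Ideal A}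
    (h : LCI.IsKoszulRegularIdeal (I.map (algebraMap A B))) : LCI.IsKoszulRegularIdeal I := by
  classical
  have hfg : I.FG := fg_of_map_fg (fg_of_isKoszulRegularIdeal h)
  refine isKoszulRegularIdeal_of_nearGen fun p _ hp => ?_
  obtain ⟨n, f, hfI, hirr, c, hc, hgen⟩ := exists_irred hfg p
  let l : List A := (Finset.univ : Finset (Fin n)).toList.map f
  have hl : Ideal.ofList l = Ideal.span (Set.range f) := ofList_ofFn f
  have hlI : Ideal.ofList l ≤ I := hl ▸ Ideal.span_le.2 (Set.range_subset_iff.2 hfI)
  have hlI' : Ideal.ofList (l.map (algebraMap A B)) ≤ I.map (algebraMap A B) := by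
    rw [← Ideal.map_ofList]; exact Ideal.map_mono hlI
  have hgen' : ∀ x ∈ I.map (algebraMap A B), algebraMap A B c * x ∈ Ideal.ofList (l.map (algebraMap A B)) := by
    intro x hx
    rw [← Ideal.map_ofList, hl]
    refine Submodule.span_induction (p := fun x _ => algebraMap A B c * x ∈ (Ideal.span (Set.range f)).map (algebraMap A B))
      ?_ (by simp) (fun a b _ _ ha hb => by rw [mul_add]; exact add_mem ha hb)
      (fun r a _ ha => by rw [smul_eq_mul, mul_left_comm]; exact Ideal.mul_mem_left _ _ ha) hx
    rintro _ ⟨y, hy, rfl⟩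
    rw [← map_mul]
    exact Ideal.mem_map_of_mem _ (hgen y hy)
  -- regular at `p`
  have hregp : RegAt l p := by
    obtain ⟨q', hq'⟩ := PrimeSpectrum.comap_surjective_of_faithfullyFlat (B := B) ⟨p, inferInstance⟩
    let q := q'.asIdeal
    have hqp : p = q.comap (algebraMap A B) := congrArg PrimeSpectrum.asIdeal hq'.symm
    obtain ⟨g, hg, l₀, -, hl₀⟩ := exists_nearGen h q (Ideal.map_le_iff_le_comap.2 (hqp ▸ hp))
    refine (regAt_comap_iff l q p hqp).1 ?_
    let L := Localization.AtPrime q
    haveI : Module.Flat B L := IsLocalization.flat _ q.primeCompl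
    obtain ⟨h₁, h₂⟩ := hl₀ L (IsLocalization.map_units L (⟨g, hg⟩ : q.primeCompl))
    have hcu : IsUnit (algebraMap B L (algebraMap A B c)) :=
      IsLocalization.map_units L (⟨algebraMap A B c, fun hm => hc (hqp.symm ▸ hm)⟩ : q.primeCompl)
    have hspan : Ideal.ofList ((l.map (algebraMap A B)).map (algebraMap B L)) =
        Ideal.ofList (l₀.map (algebraMap B L)) := by
      rw [← h₂, ← Ideal.map_ofList]
      refine le_antisymm (Ideal.map_mono hlI') (Ideal.map_le_iff_le_comap.2 fun x hx => ?_)
      rw [Ideal.mem_comap, ← Ideal.unit_mul_mem_iff_mem _ hcu, ← map_mul]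
      exact Ideal.mem_map_of_mem _ (hgen' x hx)
    refine isKoszulRegularSeq_of_ofList_eq h₁ hspan ?_
    let F : Fin n → L := algebraMap A L ∘ f
    have hF : Ideal.span (Set.range F) = Ideal.ofList (l₀.map (algebraMap B L)) := by
      rw [← hspan, ← Ideal.map_ofList, ← Ideal.map_ofList, hl, Ideal.map_map, ← IsScalarTower.algebraMap_eq,
        Ideal.map_span, Set.range_comp]
    have hirrF : Irred F := by
      intro k hk
      let Lp := Localization.AtPrime p
      letI : Algebra Lp L := (Localization.localRingHom p q (algebraMap A B) hqp).toAlgebra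
      haveI : IsScalarTower A Lp L := .of_algebraMap_eq fun x => by
        rw [IsScalarTower.algebraMap_apply A B L, RingHom.algebraMap_toAlgebra, Localization.localRingHom_to_map]
      haveI : IsLocalHom (algebraMap Lp L) :=
        inferInstanceAs (IsLocalHom (Localization.localRingHom p q (algebraMap A B) hqp))
      haveI : Module.Flat Lp L := by
        haveI : Module.Flat A L := Module.Flat.trans A B L
        exact (Module.flat_iff_of_isLocalization Lp p.primeCompl L).2 inferInstance
      haveI : Module.FaithfullyFlat Lp L := .of_flat_of_isLocalHom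
      rw [show F '' {k}ᶜ = algebraMap Lp L '' (algebraMap A Lp '' (f '' {k}ᶜ)) from by
          rw [← Set.image_comp, ← Set.image_comp]
          exact Set.image_congr fun x _ => IsScalarTower.algebraMap_apply A Lp L (f x),
        ← Ideal.map_span, show F k = algebraMap Lp L (algebraMap A Lp (f k)) from
          IsScalarTower.algebraMap_apply A Lp L (f k)] at hk
      have hk' : algebraMap A Lp (f k) ∈
          ((Ideal.span (algebraMap A Lp '' (f '' {k}ᶜ))).map (algebraMap Lp L)).comap (algebraMap Lp L) := hk
      rw [Ideal.comap_map_eq_self_of_faithfullyFlat, ← Ideal.map_span] at hk'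
      obtain ⟨d, hd, hdk⟩ := exists_mul_mem_of_localization (M := p.primeCompl) hk'
      exact hirr k d hd hdk
    simpa [l] using card_le_of_irred F hirrF _ hF
  -- regular nearby
  let U : Set (PrimeSpectrum A) := {r | c ∉ r.asIdeal ∧ RegAt l r.asIdeal}
  have hU : IsOpen U := by
    have hq : Topology.IsQuotientMap (PrimeSpectrum.comap (algebraMap A B)) :=
      PrimeSpectrum.isQuotientMap_of_generalizingMap (PrimeSpectrum.comap_surjective_of_faithfullyFlat (B := B))
        (RingHom.Flat.generalizingMap_comap (RingHom.flat_algebraMap_iff.2 inferInstance))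
    rw [← hq.isOpen_preimage, isOpen_iff_forall_mem_open]
    intro s hs
    obtain ⟨hcs, hsr⟩ := hs
    have hsr' : RegAt (l.map (algebraMap A B)) s.asIdeal := (regAt_comap_iff l s.asIdeal _ rfl).2 hsr
    obtain ⟨w, hw, hwreg⟩ := exists_regAt_nhd h (l.map (algebraMap A B)) (algebraMap A B c) hlI' hgen' s.asIdeal hcs hsr'
    refine ⟨PrimeSpectrum.basicOpen (w * algebraMap A B c), fun t ht => ⟨fun hm => ht (Ideal.mul_mem_left _ _ hm), ?_⟩,
      PrimeSpectrum.isOpen_basicOpen, fun hm => (s.isPrime.mem_or_mem hm).elim hw hcs⟩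
    exact (regAt_comap_iff l t.asIdeal _ rfl).1 (hwreg t.asIdeal fun hm => ht (Ideal.mul_mem_right _ _ hm))
  obtain ⟨_, ⟨z, rfl⟩, hzp, hzU⟩ :=
    PrimeSpectrum.isTopologicalBasis_basic_opens.exists_subset_of_mem_open (show (⟨p, inferInstance⟩ : PrimeSpectrum A) ∈ U
      from ⟨hc, hregp⟩) hU
  refine ⟨z * c, fun hm => ((‹p.IsPrime›).mem_or_mem hm).elim hzp hc, l, fun L _ _ _ hu => ?_⟩
  rw [map_mul] at hu
  refine ⟨?_, ?_⟩
  · let L₀ := Localization.Away z
    letI : Algebra L₀ L := (IsLocalization.Away.lift z (isUnit_of_mul_isUnit_left hu)).toAlgebra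
    haveI : IsScalarTower A L₀ L :=
      .of_algebraMap_eq fun x => (IsLocalization.Away.lift_eq z (isUnit_of_mul_isUnit_left hu) x).symm
    haveI : Module.Flat L₀ L := (Module.flat_iff_of_isLocalization L₀ (Submonoid.powers z) L).2 inferInstance
    have hm : l.map (algebraMap A L) = (l.map (algebraMap A L₀)).map (algebraMap L₀ L) := by
      simp only [l, List.map_map]
      exact List.map_congr_left fun x _ => IsScalarTower.algebraMap_apply A L₀ L (f x)
    rw [hm]
    refine Groth.Agent.RelDivLib.isKoszulRegularSeq_flat ?_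
    refine isKoszulRegularSeq_of_localization _ fun m _ => ?_
    haveI : Module.Flat A L₀ := IsLocalization.flat _ (Submonoid.powers z)
    refine (regAt_comap_iff l m _ rfl).2 (hzU (show (⟨m.comap (algebraMap A L₀), inferInstance⟩ : PrimeSpectrum A) ∈
      (PrimeSpectrum.basicOpen z : Set (PrimeSpectrum A)) from fun hzm => Ideal.IsMaximal.ne_top ‹m.IsMaximal›
        (Ideal.eq_top_of_isUnit_mem _ hzm (IsLocalization.Away.algebraMap_isUnit z)))).2
  · rw [← Ideal.map_ofList]
    refine le_antisymm (Ideal.map_le_iff_le_comap.2 fun x hx => ?_) (Ideal.map_mono hlI)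
    rw [Ideal.mem_comap, ← Ideal.unit_mul_mem_iff_mem _ (isUnit_of_mul_isUnit_right hu), ← map_mul, hl]
    exact Ideal.mem_map_of_mem _ (hgen x hx)

section BaseChange

variable {A' B' : Type u} [CommRing A'] [CommRing B'] [Algebra A A'] [Algebra A' B'] [Algebra B B'] [Algebra A B']
  [IsScalarTower A A' B'] [IsScalarTower A B B'] [Algebra.IsPushout A A' B B']

theorem exists_baseChange_pres {n : ℕ} (φ : MvPolynomial (Fin n) A →ₐ[A] B) (hφ : Function.Surjective φ) :
    ∃ φ' : MvPolynomial (Fin n) A' →ₐ[A'] B', Function.Surjective φ' ∧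
      RingHom.ker φ'.toRingHom = (RingHom.ker φ.toRingHom).map (MvPolynomial.map (algebraMap A A')) := by
  let φ' : MvPolynomial (Fin n) A' →ₐ[A'] B' := MvPolynomial.aeval fun i => algebraMap B B' (φ (MvPolynomial.X i))
  let P := MvPolynomial (Fin n) A
  let P' := MvPolynomial (Fin n) A'
  letI : Algebra P P' := MvPolynomial.algebraMvPolynomial
  have hPP : algebraMap P P' = MvPolynomial.map (algebraMap A A') := rfl
  haveI : IsScalarTower A P P' := .of_algebraMap_eq fun a => by
    rw [hPP, MvPolynomial.algebraMap_eq, MvPolynomial.map_C]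
    rfl
  letI : Algebra P B := φ.toRingHom.toAlgebra
  letI : Algebra P' B' := φ'.toRingHom.toAlgebra
  letI : Algebra P B' := ((algebraMap B B').comp φ.toRingHom).toAlgebra
  haveI : IsScalarTower A P B := .of_algebraMap_eq fun a => (φ.commutes a).symm
  haveI : IsScalarTower A' P' B' := .of_algebraMap_eq fun a => (φ'.commutes a).symm
  haveI : IsScalarTower P B B' := .of_algebraMap_eq' rfl
  haveI : IsScalarTower A P B' := .of_algebraMap_eq fun a => by
    show algebraMap A B' a = algebraMap B B' (φ (algebraMap A P a))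
    rw [φ.commutes, ← IsScalarTower.algebraMap_apply]
  haveI : IsScalarTower P P' B' := .of_algebraMap_eq' (MvPolynomial.ringHom_ext (fun a => by
      show algebraMap B B' (φ (MvPolynomial.C a)) = φ' (MvPolynomial.map (algebraMap A A') (MvPolynomial.C a))
      rw [MvPolynomial.map_C, ← MvPolynomial.algebraMap_eq, ← MvPolynomial.algebraMap_eq, φ.commutes, φ'.commutes,
        ← IsScalarTower.algebraMap_apply, ← IsScalarTower.algebraMap_apply]) fun i => by
      show algebraMap B B' (φ (MvPolynomial.X i)) = φ' (MvPolynomial.map (algebraMap A A') (MvPolynomial.X i))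
      rw [MvPolynomial.map_X]
      simp [φ'])
  haveI : IsScalarTower A P' B' := .of_algebraMap_eq fun a => by
    rw [IsScalarTower.algebraMap_apply A A' P', ← IsScalarTower.algebraMap_apply A' P' B',
      ← IsScalarTower.algebraMap_apply A A' B']
  haveI hpo : Algebra.IsPushout P P' B B' := by
    refine Algebra.IsPushout.symm ?_
    have h0 : Algebra.IsPushout A B A' B' := Algebra.IsPushout.symm inferInstance
    exact (Algebra.IsPushout.comp_iff (R := A) (S := P) (R' := A') (S' := P') (T := B) (T' := B')).1 h0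
  have hs : Function.Surjective (algebraMap P B) := hφ
  refine ⟨φ', ?_, ?_⟩
  · intro y
    refine IsBaseChange.inductionOn hpo.out y (fun z => ∃ x, φ' x = z) ⟨0, map_zero φ'⟩ (fun b => ?_)
      (fun c z ⟨x, hx⟩ => ⟨c * x, ?_⟩) (fun z₁ z₂ ⟨x₁, h₁⟩ ⟨x₂, h₂⟩ => ⟨x₁ + x₂, by rw [map_add, h₁, h₂]⟩)
    · obtain ⟨x, rfl⟩ := hs b
      exact ⟨algebraMap P P' x,
        ((IsScalarTower.algebraMap_apply P P' B' x).symm.trans (IsScalarTower.algebraMap_apply P B B' x))⟩
    · rw [map_mul, hx]
      exact (Algebra.smul_def c z).symm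
  · exact Groth.Agent.RelDivLib.ker_pushout (R := P) (R' := P') (S := B) (P := B') hs

end BaseChange

end Groth.Agent.CILib
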