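import Groth.Agent.CILib.KoszulIdeal
import Groth.Agent.CMSliceLib.Poly

/-!
Independence of the presentation for Koszul-regular kernels.
-/

set_option autoImplicit false
set_option linter.style.haveILetI false
set_option backward.isDefEq.respectTransparency false

universe u

open MvPolynomial

noncomputable section

namespace Groth.Agent.CILib

variable {A : Type u} [CommRing A]

theorem isKoszulRegularSeq_nil : LCI.IsKoszulRegularSeq A [] :=
  isKoszulRegularSeq_of_isWeaklyRegular [] (RingTheory.Sequence.IsWeaklyRegular.nil A A)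

theorem isKoszulRegularIdeal_bot : LCI.IsKoszulRegularIdeal (⊥ : Ideal A) :=
  isKoszulRegularIdeal_of_nearGen fun p _ _ => ⟨1, (Ideal.ne_top_iff_one p).1 (Ideal.IsPrime.ne_top ‹_›), [],
    fun L _ _ _ _ => ⟨isKoszulRegularSeq_nil, by simp⟩⟩

theorem isKoszulRegularIdeal_comap_equiv {B : Type u} [CommRing B] (e : A ≃+* B) {I : Ideal B}
    (hI : LCI.IsKoszulRegularIdeal I) : LCI.IsKoszulRegularIdeal (I.comap e.toRingHom) := by
  letI := e.toRingHom.toAlgebra
  refine isKoszulRegularIdeal_comap (A := A) (C := B) e.surjective ?_ hI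
  rw [show RingHom.ker (algebraMap A B) = ⊥ from (RingHom.injective_iff_ker_eq_bot _).1 e.injective]
  exact isKoszulRegularIdeal_bot

section Graph

variable {n m : ℕ}

/-- The coordinates of a graph. -/
def graphGen (h : Fin m → MvPolynomial (Fin n) A) (j : Fin m) : MvPolynomial (Fin n ⊕ Fin m) A :=
  X (Sum.inr j) - rename Sum.inl (h j)

/-- The section of a graph. -/
def graphMap (h : Fin m → MvPolynomial (Fin n) A) : MvPolynomial (Fin n ⊕ Fin m) A →ₐ[A] MvPolynomial (Fin n) A :=
  aeval (Sum.elim X h)

variable (h : Fin m → MvPolynomial (Fin n) A)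

theorem graphMap_rename (q : MvPolynomial (Fin n) A) : graphMap h (rename Sum.inl q) = q := by
  rw [graphMap, aeval_rename]
  exact aeval_X_left_apply q

theorem graphMap_surjective : Function.Surjective (graphMap h) := fun q => ⟨_, graphMap_rename h q⟩

theorem ker_graphMap : RingHom.ker (graphMap h).toRingHom = Ideal.span (Set.range (graphGen h)) := by
  refine le_antisymm (fun p hp => ?_) (Ideal.span_le.2 ?_)
  · have key : ∀ q, q - rename Sum.inl (graphMap h q) ∈ Ideal.span (Set.range (graphGen h)) := by
      intro q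
      induction q using MvPolynomial.induction_on with
      | C a => simp [graphMap]
      | add p q hp hq =>
        rw [map_add, map_add, add_sub_add_comm]
        exact add_mem hp hq
      | mul_X p s hs =>
        rw [map_mul, map_mul, show p * X s - rename Sum.inl (graphMap h p) * rename Sum.inl (graphMap h (X s)) =
          (p - rename Sum.inl (graphMap h p)) * X s +
            rename Sum.inl (graphMap h p) * (X s - rename Sum.inl (graphMap h (X s))) by ring]
        refine add_mem (Ideal.mul_mem_right _ _ hs) (Ideal.mul_mem_left _ _ ?_)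
        rcases s with i | j
        · simp [graphMap]
        · exact Ideal.subset_span ⟨j, by simp [graphMap, graphGen]⟩
    have := key p
    rwa [show graphMap h p = 0 from hp, map_zero, sub_zero] at this
  · rintro _ ⟨j, rfl⟩
    show graphMap h (graphGen h j) = 0
    rw [graphGen, map_sub, graphMap_rename]
    simp [graphMap]

/-- Graph coordinates are the variables over the base. -/
def graphEquiv : MvPolynomial (Fin m) (MvPolynomial (Fin n) A) ≃+* MvPolynomial (Fin n ⊕ Fin m) A :=
  RingEquiv.ofRingHom (eval₂Hom (rename Sum.inl).toRingHom (graphGen h))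
    (eval₂Hom ((C : MvPolynomial (Fin n) A →+* _).comp C)
      (Sum.elim (fun i => C (X i)) fun j => X j + C (h j)))
    (by
      refine MvPolynomial.ringHom_ext (fun a => by simp) fun s => ?_
      rcases s with i | j <;> simp [graphGen])
    (by
      refine MvPolynomial.ringHom_ext (fun q => ?_) fun j => ?_
      · simp only [RingHom.comp_apply, eval₂Hom_C, AlgHom.toRingHom_eq_coe, RingHom.coe_coe, RingHom.id_apply]
        induction q using MvPolynomial.induction_on with
        | C a => simp
        | add p q hp hq => simp only [map_add, hp, hq]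
        | mul_X p s hs => simp only [map_mul, hs]; simp
      · simp only [RingHom.comp_apply, eval₂Hom_X', RingHom.id_apply, graphGen, map_sub]
        have : ∀ q : MvPolynomial (Fin n) A, eval₂Hom ((C : MvPolynomial (Fin n) A →+* _).comp C)
            (Sum.elim (fun i => C (X i)) fun j => X j + C (h j)) (rename Sum.inl q) = C q := fun q => by
          induction q using MvPolynomial.induction_on with
          | C a => simp
          | add p q hp hq => simp only [map_add, hp, hq]
          | mul_X p s hs => simp only [map_mul, hs]; simp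
        rw [this]
        simp)

theorem isKoszulRegularIdeal_ker_graphMap : LCI.IsKoszulRegularIdeal (RingHom.ker (graphMap h).toRingHom) := by
  refine isKoszulRegularIdeal_of_nearGen fun p _ _ => ⟨1, (Ideal.ne_top_iff_one p).1 (Ideal.IsPrime.ne_top ‹_›),
    List.ofFn (graphGen h), fun L _ _ _ _ => ⟨?_, ?_⟩⟩
  · refine Groth.Agent.RelDivLib.isKoszulRegularSeq_flat (S := L) ?_
    let e := graphEquiv h
    letI := e.toRingHom.toAlgebra
    haveI : Module.Flat (MvPolynomial (Fin m) (MvPolynomial (Fin n) A)) (MvPolynomial (Fin n ⊕ Fin m) A) :=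
      RingHom.flat_algebraMap_iff.1 (RingHom.Flat.of_bijective e.bijective)
    have hX : LCI.IsKoszulRegularSeq (MvPolynomial (Fin m) (MvPolynomial (Fin n) A)) (List.ofFn fun j : Fin m => X j) :=
      isKoszulRegularSeq_of_isWeaklyRegular _ (Groth.Agent.CMSliceLib.isWeaklyRegular_X _ m)
    convert Groth.Agent.RelDivLib.isKoszulRegularSeq_flat (S := MvPolynomial (Fin n ⊕ Fin m) A) hX using 1
    rw [List.map_ofFn]
    refine congrArg List.ofFn (funext fun j => ?_)
    exact (eval₂Hom_X' _ _ j).symm
  · rw [← Ideal.map_ofList, ker_graphMap]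
    congr 1
    unfold Ideal.ofList
    congr 1
    ext x
    simp [List.mem_ofFn]

theorem sep_graphGen (p : Ideal (MvPolynomial (Fin n ⊕ Fin m) A)) [p.IsPrime]
    (hp : RingHom.ker (graphMap h).toRingHom ≤ p) : Sep (graphGen h) p := by
  classical
  refine sep_of_det (graphGen h) p (fun i => hp (ker_graphMap h ▸ Ideal.subset_span ⟨i, rfl⟩))
    (fun i => pderiv (Sum.inr i)) ?_
  have h1 : (Matrix.of fun i k => pderiv (Sum.inr i) (graphGen h k)) = 1 := by
    ext i k
    have h0 : pderiv (Sum.inr i) (rename Sum.inl (h k) : MvPolynomial (Fin n ⊕ Fin m) A) = 0 := by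
      refine pderiv_eq_zero_of_notMem_vars fun hm => ?_
      obtain ⟨_, -, hx⟩ := Finset.mem_image.1 (vars_rename Sum.inl (h k) hm)
      exact Sum.inl_ne_inr hx
    simp only [Matrix.of_apply, graphGen, map_sub, h0, sub_zero, pderiv_X, Matrix.one_apply, Pi.single_apply]
    by_cases hik : i = k <;> simp [hik, Ne.symm]
  rw [h1, Matrix.det_one]
  exact (Ideal.ne_top_iff_one p).1 (Ideal.IsPrime.ne_top ‹_›)

theorem isKoszulRegularIdeal_graph_comap {I : Ideal (MvPolynomial (Fin n) A)} (hI : LCI.IsKoszulRegularIdeal I) :
    LCI.IsKoszulRegularIdeal (I.comap (graphMap h).toRingHom) := by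
  letI := (graphMap h).toRingHom.toAlgebra
  exact isKoszulRegularIdeal_comap (A := MvPolynomial (Fin n ⊕ Fin m) A) (C := MvPolynomial (Fin n) A)
    (graphMap_surjective h) (isKoszulRegularIdeal_ker_graphMap h) hI

theorem isKoszulRegularIdeal_of_graph_comap {I : Ideal (MvPolynomial (Fin n) A)}
    (hI : LCI.IsKoszulRegularIdeal (I.comap (graphMap h).toRingHom)) : LCI.IsKoszulRegularIdeal I := by
  letI := (graphMap h).toRingHom.toAlgebra
  rw [← Ideal.map_comap_of_surjective (graphMap h).toRingHom (graphMap_surjective h) I]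
  refine isKoszulRegularIdeal_map (A := MvPolynomial (Fin n ⊕ Fin m) A) (C := MvPolynomial (Fin n) A)
    (graphMap_surjective h) (isKoszulRegularIdeal_ker_graphMap h) hI ?_ fun p _ hp => ?_
  · intro x hx
    show graphMap h x ∈ I
    rw [show graphMap h x = 0 from hx]
    exact I.zero_mem
  · refine ⟨Fin m, inferInstance, graphGen h, fun i => ker_graphMap h ▸ Ideal.subset_span ⟨i, rfl⟩,
      sep_graphGen h p (le_trans (fun x hx => ?_) hp), 1,
      (Ideal.ne_top_iff_one p).1 (Ideal.IsPrime.ne_top ‹_›), fun x hx => by rw [one_mul, ← ker_graphMap h]; exact hx⟩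
    show graphMap h x ∈ I
    rw [show graphMap h x = 0 from hx]
    exact I.zero_mem

end Graph

/-- Koszul regularity of the kernel does not depend on the presentation. -/
theorem isKoszulRegularIdeal_ker_of_ker {B : Type u} [CommRing B] [Algebra A B] {n m : ℕ}
    (α : MvPolynomial (Fin n) A →ₐ[A] B) (hα : Function.Surjective α)
    (β : MvPolynomial (Fin m) A →ₐ[A] B) (hβ : Function.Surjective β)
    (h : LCI.IsKoszulRegularIdeal (RingHom.ker α.toRingHom)) :
    LCI.IsKoszulRegularIdeal (RingHom.ker β.toRingHom) := by
  choose h₁ hh₁ using fun j : Fin m => hα (β (X j))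
  choose h₂ hh₂ using fun i : Fin n => hβ (α (X i))
  let γ : MvPolynomial (Fin n ⊕ Fin m) A →ₐ[A] B := aeval (Sum.elim (fun i => α (X i)) fun j => β (X j))
  let sw := renameEquiv A (Equiv.sumComm (Fin m) (Fin n))
  have hγ₁ : γ = α.comp (graphMap h₁) := by
    refine MvPolynomial.algHom_ext fun s => ?_
    rcases s with i | j <;> simp [γ, graphMap, hh₁]
  have hγ₂ : γ.comp sw.toAlgHom = β.comp (graphMap h₂) := by
    refine MvPolynomial.algHom_ext fun s => ?_
    rcases s with j | i <;> simp [γ, sw, graphMap, hh₂]
  have hK : LCI.IsKoszulRegularIdeal (RingHom.ker γ.toRingHom) := by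
    rw [hγ₁]
    exact isKoszulRegularIdeal_graph_comap h₁ h
  refine isKoszulRegularIdeal_of_graph_comap h₂ ?_
  have he : (RingHom.ker β.toRingHom).comap (graphMap h₂).toRingHom =
      (RingHom.ker γ.toRingHom).comap sw.toRingEquiv.toRingHom := by
    ext x
    have := DFunLike.congr_fun hγ₂ x
    show β (graphMap h₂ x) = 0 ↔ γ (sw x) = 0
    rw [show β (graphMap h₂ x) = γ (sw x) from this.symm]
  rw [he]
  exact isKoszulRegularIdeal_comap_equiv _ hK

end Groth.Agent.CILib
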