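import Groth.Agent.CILib.GlobalCI
import Groth.Agent.CILib.Cut
import Groth.Agent.RatliffLib.Formal

/-!
Local complete intersection rings essentially of finite type over a field.
-/

set_option autoImplicit false
set_option backward.isDefEq.respectTransparency false

universe u

open IsLocalRing MvPolynomial

namespace Groth.Agent.CILib

variable {k : Type u} [Field k]

theorem regularLocal_mvPolynomial {n : ℕ} (Q : Ideal (MvPolynomial (Fin n) k)) [Q.IsPrime] :
    IsRegularLocalRing (Localization.AtPrime Q) :=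
  IsRegularRing.isRegularLocalRing_localization Q

/-- `R` is a localisation of the image of `ψ`. -/
def Generates {n : ℕ} {R : Type u} [CommRing R] [Algebra k R] (ψ : MvPolynomial (Fin n) k →ₐ[k] R) : Prop :=
  ∀ z : R, ∃ a b, IsUnit (ψ b) ∧ z * ψ b = ψ a

theorem exists_generates (R : Type u) [CommRing R] [Algebra k R] [Algebra.EssFiniteType k R] :
    ∃ (n : ℕ) (ψ : MvPolynomial (Fin n) k →ₐ[k] R), Generates ψ := by
  classical
  let s := Algebra.EssFiniteType.finset k R
  let g : Fin s.card → R := fun i => (s.equivFin.symm i : R)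
  refine ⟨s.card, MvPolynomial.aeval g, fun z => ?_⟩
  have hr : (MvPolynomial.aeval g).range = Algebra.adjoin k (s : Set R) := by
    rw [← Algebra.adjoin_range_eq_range_aeval]
    congr 1
    ext x
    constructor
    · rintro ⟨i, rfl⟩; exact (s.equivFin.symm i).2
    · exact fun hx => ⟨s.equivFin ⟨x, hx⟩, by simp [g]⟩
  obtain ⟨⟨a, b⟩, h⟩ := IsLocalization.surj (Algebra.EssFiniteType.submonoid k R) z
  have ha : (a.1 : R) ∈ (MvPolynomial.aeval (R := k) g).range := by rw [hr]; exact a.2
  have hb : ((b : Algebra.EssFiniteType.subalgebra k R) : R) ∈ (MvPolynomial.aeval (R := k) g).range := by rw [hr]; exact b.1.2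
  obtain ⟨a', ha'⟩ := ha
  obtain ⟨b', hb'⟩ := hb
  refine ⟨a', b', ?_, ?_⟩
  · show IsUnit (MvPolynomial.aeval g b')
    rw [show MvPolynomial.aeval g b' = _ from hb']
    exact b.2
  · rw [show MvPolynomial.aeval g b' = _ from hb', show MvPolynomial.aeval g a' = _ from ha']
    exact h

/-- A generating map gives a surjection from a local ring of affine space. -/
theorem exists_surjection {n : ℕ} {R : Type u} [CommRing R] [IsLocalRing R] [Algebra k R]
    (ψ : MvPolynomial (Fin n) k →ₐ[k] R) (hψ : Generates ψ) (Q : Ideal (MvPolynomial (Fin n) k)) [Q.IsPrime]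
    (hQ : Q = (maximalIdeal R).comap ψ.toRingHom) :
    ∃ ρ : Localization.AtPrime Q →+* R, Function.Surjective ρ ∧
      ρ.comp (algebraMap _ (Localization.AtPrime Q)) = ψ.toRingHom := by
  have hu : ∀ y : Q.primeCompl, IsUnit (ψ.toRingHom y) := fun y => by
    by_contra h
    exact y.2 (hQ ▸ (IsLocalRing.mem_maximalIdeal _).2 h : (y : MvPolynomial (Fin n) k) ∈ Q)
  refine ⟨IsLocalization.lift hu, fun z => ?_, IsLocalization.lift_comp hu⟩
  obtain ⟨a, b, hb, h⟩ := hψ z
  have hbQ : b ∉ Q := fun hb' => (IsLocalRing.mem_maximalIdeal _).1 (hQ ▸ hb' : b ∈ (maximalIdeal R).comap ψ.toRingHom) hb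
  refine ⟨IsLocalization.mk' _ a (⟨b, hbQ⟩ : Q.primeCompl), ?_⟩
  rw [IsLocalization.lift_mk'_spec]
  show ψ a = ψ b * z
  rw [← h, mul_comm]

variable {S : Type u} [CommRing S] [IsLocalRing S] [Algebra k S]

/-- Two regular presentations are cut out simultaneously. -/
theorem cutBy_iff_cutBy {R R' : Type u} [CommRing R] [CommRing R'] [IsRegularLocalRing R] [IsRegularLocalRing R']
    [Algebra k R] [Algebra k R'] [Algebra.EssFiniteType k R] [Algebra.EssFiniteType k R']
    (π : R →ₐ[k] S) (π' : R' →ₐ[k] S) (hπ : Function.Surjective π) (hπ' : Function.Surjective π') :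
    CutBy π.toRingHom ↔ CutBy π'.toRingHom := by
  obtain ⟨n, ψ₁, h₁⟩ := exists_generates (k := k) R
  obtain ⟨m, ψ₂, h₂⟩ := exists_generates (k := k) R'
  choose l hl using fun j : Fin m => hπ (π' (ψ₂ (X j)))
  choose l' hl' using fun i : Fin n => hπ' (π (ψ₁ (X i)))
  let χ : MvPolynomial (Fin (n + m)) k →ₐ[k] R := MvPolynomial.aeval (Fin.append (fun i => ψ₁ (X i)) l)
  let χ' : MvPolynomial (Fin (n + m)) k →ₐ[k] R' := MvPolynomial.aeval (Fin.append l' (fun j => ψ₂ (X j)))
  have hχ : π.comp χ = π'.comp χ' := by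
    refine MvPolynomial.algHom_ext fun i => ?_
    refine Fin.addCases (fun a => ?_) (fun a => ?_) i
    · simp [χ, χ', Fin.append_left, hl']
    · simp [χ, χ', Fin.append_right, hl]
  have hg : Generates χ := fun z => by
    obtain ⟨a, b, hb, h⟩ := h₁ z
    have key : ∀ q, χ (rename (Fin.castAdd m) q) = ψ₁ q := fun q => by
      have : χ.comp (rename (Fin.castAdd m)) = ψ₁ :=
        MvPolynomial.algHom_ext fun i => by simp [χ, Fin.append_left]
      exact AlgHom.congr_fun this q
    exact ⟨rename (Fin.castAdd m) a, rename (Fin.castAdd m) b, by rwa [key], by rwa [key, key]⟩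
  have hg' : Generates χ' := fun z => by
    obtain ⟨a, b, hb, h⟩ := h₂ z
    have key : ∀ q, χ' (rename (Fin.natAdd n) q) = ψ₂ q := fun q => by
      have : χ'.comp (rename (Fin.natAdd n)) = ψ₂ :=
        MvPolynomial.algHom_ext fun i => by simp [χ', Fin.append_right]
      exact AlgHom.congr_fun this q
    exact ⟨rename (Fin.natAdd n) a, rename (Fin.natAdd n) b, by rwa [key], by rwa [key, key]⟩
  haveI : IsLocalHom π.toRingHom := IsLocalHom.of_surjective _ hπ
  haveI : IsLocalHom π'.toRingHom := IsLocalHom.of_surjective _ hπ'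
  let Q := (maximalIdeal R).comap χ.toRingHom
  haveI : Q.IsPrime := Ideal.IsPrime.comap _
  have hQ' : Q = (maximalIdeal R').comap χ'.toRingHom := by
    ext q
    show χ q ∈ maximalIdeal R ↔ χ' q ∈ maximalIdeal R'
    simp only [IsLocalRing.mem_maximalIdeal, mem_nonunits_iff]
    rw [← isUnit_map_iff π.toRingHom (χ q), ← isUnit_map_iff π'.toRingHom (χ' q)]
    show ¬ IsUnit (π.comp χ q) ↔ ¬ IsUnit (π'.comp χ' q)
    rw [hχ]
  obtain ⟨ρ, hρ, hρc⟩ := exists_surjection χ hg Q rfl
  obtain ⟨ρ', hρ', hρc'⟩ := exists_surjection χ' hg' Q hQ'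
  haveI := regularLocal_mvPolynomial Q
  rw [← cutBy_comp_iff ρ π.toRingHom hρ hπ, ← cutBy_comp_iff ρ' π'.toRingHom hρ' hπ',
    show π.toRingHom.comp ρ = π'.toRingHom.comp ρ' from IsLocalization.ringHom_ext Q.primeCompl (by
      rw [RingHom.comp_assoc, RingHom.comp_assoc, hρc, hρc']
      exact congrArg AlgHom.toRingHom hχ)]

theorem isRegular_of_cutBy {R S : Type u} [CommRing R] [CommRing S] [IsRegularLocalRing R] [Nontrivial S]
    (π : R →+* S) (hπ : Function.Surjective π) (h : CutBy π) :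
    ∃ rs : List R, RingTheory.Sequence.IsRegular R rs ∧ RingHom.ker π = Ideal.ofList rs := by
  obtain ⟨c, ⟨f, hf⟩, hd⟩ := h
  haveI := RatliffLib.cm_of_regularLocal R
  have hof : Ideal.ofList (List.ofFn f) = RingHom.ker π := by
    rw [hf, Ideal.ofList]; congr 1; ext x; simp [List.mem_ofFn]
  refine ⟨List.ofFn f, (isRegular_of_ringKrullDim_quotient_add_le _ ?_ ?_).1, hof.symm⟩
  · intro r hr
    exact IsLocalRing.le_maximalIdeal (RingHom.ker_ne_top π) (hof ▸ Ideal.subset_span hr)
  · rw [ringKrullDim_eq_of_ringEquiv ((Ideal.quotEquivOfEq hof).trans (RingHom.quotientKerEquivOfSurjective hπ)),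
      List.length_ofFn, hd]

theorem cutBy_of_isRegular {R S : Type u} [CommRing R] [CommRing S] [IsRegularLocalRing R]
    (π : R →+* S) (hπ : Function.Surjective π) (rs : List R) (hreg : RingTheory.Sequence.IsRegular R rs)
    (hk : RingHom.ker π = Ideal.ofList rs) : CutBy π := by
  refine ⟨rs.length, ⟨fun i => rs.get i, ?_⟩, ?_⟩
  · rw [hk, Ideal.ofList]; congr 1; ext x; simp [List.mem_iff_getElem, Fin.exists_iff, eq_comm]
  · rw [← ringKrullDim_add_length_eq_ringKrullDim_of_isRegular rs hreg,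
      ringKrullDim_eq_of_ringEquiv ((Ideal.quotEquivOfEq hk.symm).trans (RingHom.quotientKerEquivOfSurjective hπ))]

theorem isCIOver_iff_exists :
    Synt.IsCIOver k S ↔ ∃ (R : Type u) (_ : CommRing R) (_ : IsRegularLocalRing R) (_ : Algebra k R),
      Algebra.EssFiniteType k R ∧ ∃ π : R →ₐ[k] S, Function.Surjective π ∧ CutBy π.toRingHom := by
  constructor
  · rintro ⟨R, _, _, _, hR, rs, -, hreg, ⟨e⟩⟩
    refine ⟨R, inferInstance, inferInstance, inferInstance, hR,
      e.symm.toAlgHom.comp (Ideal.Quotient.mkₐ k _), e.symm.surjective.comp Ideal.Quotient.mk_surjective, ?_⟩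
    refine cutBy_of_isRegular _ (e.symm.surjective.comp Ideal.Quotient.mk_surjective) rs hreg ?_
    ext x
    simp [RingHom.mem_ker, Ideal.Quotient.eq_zero_iff_mem]
  · rintro ⟨R, _, _, _, hR, π, hπ, h⟩
    obtain ⟨rs, hreg, hk⟩ := isRegular_of_cutBy π.toRingHom hπ h
    refine ⟨R, inferInstance, inferInstance, inferInstance, hR, rs, fun r hr => ?_, hreg, ⟨?_⟩⟩
    · exact IsLocalRing.le_maximalIdeal (RingHom.ker_ne_top π.toRingHom) (hk ▸ Ideal.subset_span hr)
    · exact (Ideal.quotientKerAlgEquivOfSurjective hπ).symm.trans (Ideal.quotientEquivAlgOfEq k hk)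

theorem isCIOver_iff_cutBy {R : Type u} [CommRing R] [IsRegularLocalRing R] [Algebra k R]
    [Algebra.EssFiniteType k R] (π : R →ₐ[k] S) (hπ : Function.Surjective π) :
    Synt.IsCIOver k S ↔ CutBy π.toRingHom := by
  rw [isCIOver_iff_exists]
  exact ⟨fun ⟨R', _, _, _, hR', π', hπ', h⟩ => (cutBy_iff_cutBy π' π hπ' hπ).1 h,
    fun h => ⟨R, inferInstance, inferInstance, inferInstance, inferInstance, π, hπ, h⟩⟩

theorem exists_regular_presentation [Algebra.EssFiniteType k S] :
    ∃ (n : ℕ) (Q : Ideal (MvPolynomial (Fin n) k)) (_ : Q.IsPrime)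
      (π : Localization.AtPrime Q →ₐ[k] S), Function.Surjective π := by
  obtain ⟨n, ψ, hψ⟩ := exists_generates (k := k) S
  refine ⟨n, (maximalIdeal S).comap ψ.toRingHom, Ideal.IsPrime.comap _, ?_⟩
  haveI : ((maximalIdeal S).comap ψ.toRingHom).IsPrime := Ideal.IsPrime.comap _
  obtain ⟨ρ, hρ, hρc⟩ := exists_surjection ψ hψ _ rfl
  refine ⟨{ ρ with commutes' := fun a => ?_ }, hρ⟩
  show ρ (algebraMap k _ a) = _
  rw [IsScalarTower.algebraMap_apply k (MvPolynomial (Fin n) k)]
  exact (RingHom.congr_fun hρc _).trans (ψ.commutes a)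

end Groth.Agent.CILib
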