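import Groth.Agent.CILib.LocalCI

/-!
A complete intersection local ring has a global complete intersection neighbourhood.
-/

set_option autoImplicit false
set_option backward.isDefEq.respectTransparency false

universe u

open IsLocalRing MvPolynomial

namespace Groth.Agent.CILib

variable {k : Type u} [Field k] {S : Type u} [CommRing S] [Algebra k S] {n : ℕ}

/-- The map of local rings of a surjection from affine space, over the field. -/
noncomputable def atPrimeMap (φ : MvPolynomial (Fin n) k →ₐ[k] S) (q : Ideal S) [q.IsPrime]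
    [(q.comap φ.toRingHom).IsPrime] :
    Localization.AtPrime (q.comap φ.toRingHom) →ₐ[k] Localization.AtPrime q where
  __ := Localization.localRingHom (q.comap φ.toRingHom) q φ.toRingHom rfl
  commutes' a := by
    show Localization.localRingHom (q.comap φ.toRingHom) q φ.toRingHom rfl (algebraMap k _ a) = _
    rw [IsScalarTower.algebraMap_apply k (MvPolynomial (Fin n) k), Localization.localRingHom_to_map]
    show algebraMap S _ (φ (algebraMap k _ a)) = _
    rw [φ.commutes, ← IsScalarTower.algebraMap_apply]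

theorem atPrimeMap_surjective (φ : MvPolynomial (Fin n) k →ₐ[k] S) (hφ : Function.Surjective φ) (q : Ideal S)
    [q.IsPrime] [(q.comap φ.toRingHom).IsPrime] : Function.Surjective (atPrimeMap φ q) :=
  CMGraded.localRingHom_surjective hφ _ q rfl

theorem isCIOver_atPrime_iff (φ : MvPolynomial (Fin n) k →ₐ[k] S) (hφ : Function.Surjective φ) (q : Ideal S)
    [q.IsPrime] [(q.comap φ.toRingHom).IsPrime] :
    Synt.IsCIOver k (Localization.AtPrime q) ↔
      CutBy (Localization.localRingHom (q.comap φ.toRingHom) q φ.toRingHom rfl) := by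
  haveI := regularLocal_mvPolynomial (q.comap φ.toRingHom)
  haveI : Algebra.EssFiniteType k (Localization.AtPrime (q.comap φ.toRingHom)) :=
    Algebra.EssFiniteType.comp k (MvPolynomial (Fin n) k) _
  exact isCIOver_iff_cutBy (atPrimeMap φ q) (atPrimeMap_surjective φ hφ q)

theorem isCIOver_congr {A B : Type u} [CommRing A] [CommRing B] [IsLocalRing A] [IsLocalRing B] [Algebra k A]
    [Algebra k B] (e : A ≃ₐ[k] B) (h : Synt.IsCIOver k A) : Synt.IsCIOver k B := by
  obtain ⟨R, _, _, _, hR, rs, hm, hreg, ⟨e'⟩⟩ := h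
  exact ⟨R, inferInstance, inferInstance, inferInstance, hR, rs, hm, hreg, ⟨e.symm.trans e'⟩⟩

theorem isCIOver_of_isGlobalCI (h : Synt.IsGlobalCI k S) (q : Ideal S) [q.IsPrime] :
    Synt.IsCIOver k (Localization.AtPrime q) := by
  rcases h with h | ⟨n, c, hc, φ, r, hφ, hker, hd⟩
  · exact absurd (Subsingleton.elim q ⊤) (Ideal.IsPrime.ne_top ‹_›)
  haveI : (q.comap φ.toRingHom).IsPrime := Ideal.IsPrime.comap _
  haveI := regularLocal_mvPolynomial (q.comap φ.toRingHom)
  obtain ⟨-, hreg, hk, -⟩ := local_data hc φ r hφ hker hd.le q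
  exact (isCIOver_atPrime_iff φ hφ q).2
    (cutBy_of_isRegular _ (CMGraded.localRingHom_surjective hφ _ q rfl) _ hreg hk)

theorem le_of_lt_natCast_add_one {a : WithBot ℕ∞} {m : ℕ} (h : a < ((m + 1 : ℕ) : WithBot ℕ∞)) :
    a ≤ ((m : ℕ) : WithBot ℕ∞) := by
  induction a using WithBot.recBotCoe with
  | bot => exact bot_le
  | coe a =>
    have h' : a < ((m + 1 : ℕ) : ℕ∞) := WithBot.coe_lt_coe.1 h
    obtain ⟨b, rfl⟩ := ENat.ne_top_iff_exists.mp (ne_top_of_lt h')
    have hb : b < m + 1 := by exact_mod_cast h'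
    exact WithBot.coe_le_coe.2 (Nat.cast_le.2 (by omega : b ≤ m))

/-- A prime with complete intersection local ring has a global complete intersection basic neighbourhood. -/
theorem exists_away_isGlobalCI (φ : MvPolynomial (Fin n) k →ₐ[k] S) (hφ : Function.Surjective φ) (q : Ideal S)
    [q.IsPrime] [(q.comap φ.toRingHom).IsPrime]
    (h : CutBy (Localization.localRingHom (q.comap φ.toRingHom) q φ.toRingHom rfl)) :
    ∃ g : S, g ∉ q ∧ Synt.IsGlobalCI k (Localization.Away g) := by
  classical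
  haveI : Algebra.FiniteType k S := Algebra.FiniteType.of_surjective φ hφ
  let Q := q.comap φ.toRingHom
  let R := Localization.AtPrime Q
  let I := RingHom.ker φ.toRingHom
  obtain ⟨c, ⟨f, hf⟩, hd⟩ := h
  rw [CMGraded.ker_localRingHom hφ Q q rfl] at hf
  -- dimensions
  obtain ⟨b, rb, hb, hrb, hbn⟩ := height_add_trdeg_mvPolynomial k Q
  obtain ⟨ra, hra⟩ := DimFormulaLib.exists_nat_trdeg_quotient k S q
  obtain ⟨a, ha, hl, -⟩ := DimFormulaLib.localDim_eq_height_add k S ⟨q, ‹_›⟩ ra hra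
  have hrr : ra = rb := by
    let ψ : (MvPolynomial (Fin n) k ⧸ Q) →ₐ[k] S ⧸ q := Ideal.quotientMapₐ q φ le_rfl
    let e : (MvPolynomial (Fin n) k ⧸ Q) ≃ₐ[k] S ⧸ q := AlgEquiv.ofBijective ψ
      ⟨Ideal.quotientMap_injective (I := q) (f := φ.toRingHom),
        Ideal.quotientMap_surjective (H := le_rfl) (f := φ.toRingHom) hφ⟩
    have := e.trdeg_eq
    rw [hrb, hra] at this
    exact_mod_cast this.symm
  rw [IsLocalization.AtPrime.ringKrullDim_eq_height Q R, IsLocalization.AtPrime.ringKrullDim_eq_height q, hb, ha] at hd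
  have hbac : b = a + c := by
    have : ((b : ℕ∞) : WithBot ℕ∞) = (((a + c : ℕ) : ℕ∞) : WithBot ℕ∞) := by rw [hd]; push_cast; rfl
    exact_mod_cast this
  have hcn : c ≤ n := by omega
  -- equations in the polynomial ring
  have hex : ∀ i, ∃ y ∈ I, ∃ s : Q.primeCompl, f i * algebraMap _ R (s : MvPolynomial (Fin n) k) = algebraMap _ R y := by
    intro i
    have hmem : f i ∈ I.map (algebraMap _ R) := hf ▸ Ideal.subset_span ⟨i, rfl⟩
    obtain ⟨⟨⟨y, hy⟩, s⟩, e⟩ := (IsLocalization.mem_map_algebraMap_iff Q.primeCompl R).1 hmem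
    exact ⟨y, hy, s, e⟩
  choose r hrI s hrs using hex
  have hspanR : I.map (algebraMap _ R) = (Ideal.span (Set.range r)).map (algebraMap _ R) := by
    refine le_antisymm ?_ (Ideal.map_mono (Ideal.span_le.2 (by rintro _ ⟨i, rfl⟩; exact hrI i)))
    rw [hf, Ideal.span_le]
    rintro _ ⟨i, rfl⟩
    refine (Ideal.mul_unit_mem_iff_mem _ (IsLocalization.map_units R (s i))).1 ?_
    rw [hrs]
    exact Ideal.mem_map_of_mem _ (Ideal.subset_span ⟨i, rfl⟩)
  have hkill : ∀ x ∈ I, ∃ t ∉ Q, t * x ∈ Ideal.span (Set.range r) := by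
    intro x hx
    have hmem : algebraMap _ R x ∈ (Ideal.span (Set.range r)).map (algebraMap _ R) :=
      hspanR ▸ Ideal.mem_map_of_mem _ hx
    obtain ⟨t, ht, e⟩ := (IsLocalization.algebraMap_mem_map_algebraMap_iff Q.primeCompl R _ _).1 hmem
    exact ⟨t, ht, e⟩
  obtain ⟨T₀, hT₀⟩ : I.FG := IsNoetherian.noetherian I
  choose! t htQ htmem using hkill
  let h₁ : MvPolynomial (Fin n) k := ∏ x ∈ T₀, t x
  have hT₀I : ∀ x ∈ T₀, x ∈ I := fun x hx => hT₀ ▸ Submodule.subset_span hx
  have hh₁Q : h₁ ∉ Q := fun hmem => by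
    obtain ⟨x, hx, hxm⟩ := ((‹Q.IsPrime›).prod_mem_iff).1 hmem
    exact htQ x (hT₀I x hx) hxm
  have hh₁ : ∀ x ∈ I, h₁ * x ∈ Ideal.span (Set.range r) := by
    intro x hx
    rw [← hT₀] at hx
    induction hx using Submodule.span_induction with
    | mem y hy =>
      rw [show h₁ = (∏ z ∈ T₀.erase y, t z) * t y from (Finset.prod_erase_mul T₀ t hy).symm, mul_assoc]
      exact Ideal.mul_mem_left _ _ (htmem y (hT₀I y hy))
    | zero => simp
    | add y z _ _ hy hz => rw [mul_add]; exact add_mem hy hz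
    | smul a y _ hy => rw [smul_eq_mul, mul_left_comm]; exact Ideal.mul_mem_left _ _ hy
  -- a small neighbourhood
  obtain ⟨U, hU⟩ : ∃ U : {U : TopologicalSpace.Opens (PrimeSpectrum S) // (⟨q, ‹_›⟩ : PrimeSpectrum S) ∈ U},
      topologicalKrullDim (U.1 : Set (PrimeSpectrum S)) < (((a + ra) + 1 : ℕ) : WithBot ℕ∞) := by
    refine iInf_lt_iff.1 ?_
    show FlatMor.localDim (PrimeSpectrum S) ⟨q, ‹_›⟩ < _
    rw [hl]
    exact_mod_cast Nat.lt_succ_self (a + ra)
  obtain ⟨_, ⟨g₂, rfl⟩, hg₂, hsub⟩ :=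
    PrimeSpectrum.isTopologicalBasis_basic_opens.exists_subset_of_mem_open
      (show (⟨q, ‹_›⟩ : PrimeSpectrum S) ∈ (U.1 : Set (PrimeSpectrum S)) from U.2) U.1.isOpen
  obtain ⟨h₂, rfl⟩ := hφ g₂
  let h := h₁ * h₂
  have hg : φ h ∉ q := by
    rw [map_mul]
    exact ‹q.IsPrime›.mul_notMem hh₁Q hg₂
  refine ⟨φ h, hg, ?_⟩
  have hdimT : ringKrullDim (Localization.Away (φ h)) ≤ ((n - c : ℕ) : WithBot ℕ∞) := by
    rw [← DimFormulaLib.topologicalKrullDim_basicOpen]
    refine (Topology.IsEmbedding.inclusion (?_ : (PrimeSpectrum.basicOpen (φ h) : Set (PrimeSpectrum S)) ⊆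
      (U.1 : Set (PrimeSpectrum S)))).isInducing.topologicalKrullDim_le.trans
      ((le_of_lt_natCast_add_one hU).trans (by exact_mod_cast (by omega : a + ra ≤ n - c)))
    refine Set.Subset.trans ?_ hsub
    rw [map_mul]
    exact PrimeSpectrum.basicOpen_mul_le_right (φ h₁) (φ h₂)
  -- the presented algebra
  let J := Ideal.span (Set.range r)
  let S₀ := MvPolynomial (Fin n) k ⧸ J
  have hJI : ∀ x ∈ J, φ x = 0 := fun x hx => by
    have : J ≤ I := Ideal.span_le.2 (by rintro _ ⟨i, rfl⟩; exact hrI i)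
    exact this hx
  let θ : S₀ →ₐ[k] S := Ideal.Quotient.liftₐ J φ hJI
  letI : Algebra S₀ (Localization.Away (φ h)) := ((algebraMap S (Localization.Away (φ h))).comp θ.toRingHom).toAlgebra
  haveI : IsScalarTower k S₀ (Localization.Away (φ h)) :=
    IsScalarTower.of_algebraMap_eq (R := k) (S := S₀) (A := Localization.Away (φ h)) fun x => by
    show _ = algebraMap S (Localization.Away (φ h)) (θ (algebraMap k S₀ x))
    rw [θ.commutes, ← IsScalarTower.algebraMap_apply]
  have hhI : ∀ x ∈ I, h * x ∈ J := fun x hx => by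
    rw [show h * x = h₂ * (h₁ * x) by ring]
    exact Ideal.mul_mem_left _ _ (hh₁ x hx)
  haveI : IsLocalization.Away (Ideal.Quotient.mk J h) (Localization.Away (φ h)) := by
    refine IsLocalization.Away.mk _ (IsLocalization.Away.algebraMap_isUnit (φ h)) (fun z => ?_) (fun x y hxy => ?_)
    · obtain ⟨N, y, hy⟩ := IsLocalization.Away.surj (φ h) z
      obtain ⟨w, rfl⟩ := hφ y
      exact ⟨N, Ideal.Quotient.mk J w, hy⟩
    · obtain ⟨x, rfl⟩ := Ideal.Quotient.mk_surjective x
      obtain ⟨y, rfl⟩ := Ideal.Quotient.mk_surjective y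
      obtain ⟨N, hN⟩ := IsLocalization.Away.exists_of_eq (φ h) hxy
      refine ⟨N + 1, ?_⟩
      rw [← map_pow, ← map_mul, ← map_mul, Ideal.Quotient.mk_eq_mk_iff_sub_mem,
        show h ^ (N + 1) * x - h ^ (N + 1) * y = h * (h ^ N * x - h ^ N * y) by ring]
      refine hhI _ ?_
      show φ (h ^ N * x - h ^ N * y) = 0
      rw [map_sub, map_mul, map_mul, map_pow, sub_eq_zero]
      exact hN
  exact isGlobalCI_away_of_pres hcn (Ideal.Quotient.mkₐ k J) r Ideal.Quotient.mk_surjective
    (Ideal.mk_ker) (Ideal.Quotient.mk J h) _ hdimT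

end Groth.Agent.CILib
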