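import Groth.Agent.CILib.RelGCIQuot
import Groth.Agent.CILib.RelGCISyntomic

/-!
The kernel of a presentation of a syntomic algebra is locally generated by regular sequences.
-/

set_option autoImplicit false
set_option backward.isDefEq.respectTransparency false

universe u

open TensorProduct RingTheory.Sequence
open scoped Pointwise

namespace Groth.Agent.CILib

variable {R : Type u} [CommRing R] {n c : ℕ}

theorem exists_pres_nhd {S : Type u} [CommRing S] [Algebra R S] (h : Synt.IsSyntomic R S)
    (φ : MvPolynomial (Fin n) R →ₐ[R] S) (hφ : Function.Surjective φ) (hfg : (RingHom.ker φ.toRingHom).FG)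
    (q : PrimeSpectrum S) :
    ∃ (c : ℕ) (F : Fin c → MvPolynomial (Fin n) R) (v : MvPolynomial (Fin n) R), φ v ∉ q.asIdeal ∧
      (∀ i, F i ∈ RingHom.ker φ.toRingHom) ∧ (∀ x ∈ RingHom.ker φ.toRingHom, x * v ∈ Ideal.span (Set.range F)) ∧
      Synt.IsRelGCI R (n + 1) (c + 1) (awayPres F v) := by
  let p : PrimeSpectrum R := PrimeSpectrum.comap (algebraMap R S) q
  let Q := PrimeSpectrum.preimageEquivFiber R S p ⟨q, rfl⟩
  have hQ : Q.asIdeal.comap (Algebra.TensorProduct.includeRight : S →ₐ[R] p.asIdeal.Fiber S).toRingHom = q.asIdeal :=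
    congrArg (fun z => z.1.asIdeal) ((PrimeSpectrum.preimageEquivFiber R S p).symm_apply_apply ⟨q, rfl⟩)
  have h1 : (1 : S) ∉ q.asIdeal := fun h => q.2.ne_top ((Ideal.eq_top_iff_one _).2 h)
  obtain ⟨-, hfl, hci⟩ := conditions_of_syntomic p.asIdeal q.asIdeal Q.asIdeal h1 hQ (isSyntomic_away h 1 _)
  obtain ⟨c, F, v, hv, hF, hk, hG, -⟩ := exists_relGCI_pres φ hφ hfg p.asIdeal q.asIdeal Q.asIdeal hQ hci
  exact ⟨c, F, v, hv, hF, hk, hG⟩

/-- Weak regularity descends along a faithfully flat algebra. -/
theorem isWeaklyRegular_of_faithfullyFlat_map {L M : Type u} [CommRing L] [CommRing M] [Algebra L M]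
    [Module.FaithfullyFlat L M] (rs : List L) (h : IsWeaklyRegular M (rs.map (algebraMap L M))) :
    IsWeaklyRegular L rs := by
  rw [isWeaklyRegular_iff_Fin] at h ⊢
  intro i
  have hi := h ⟨i, by simp⟩
  rw [isSMulRegular_quotient_iff_mem_of_smul_mem] at hi ⊢
  intro x hx
  simp only [smul_eq_mul, Ideal.mul_top, Fin.getElem_fin, List.getElem_map, ← List.map_take, ← Ideal.map_ofList] at hi hx ⊢
  rw [← Ideal.comap_map_eq_self_of_faithfullyFlat (A := L) (B := M) (Ideal.ofList (rs.take i))]
  rw [Ideal.mem_comap]
  exact hi _ (by rw [← map_mul]; exact Ideal.mem_map_of_mem _ hx)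

/-- Weak regularity at a prime descends along a flat algebra. -/
theorem isWeaklyRegular_of_flat_comap {P P' : Type u} [CommRing P] [CommRing P'] [Algebra P P'] [Module.Flat P P']
    (r' : Ideal P') [r'.IsPrime] (r : Ideal P) [r.IsPrime] (hrr : r = r'.comap (algebraMap P P')) (rs : List P)
    (h : IsWeaklyRegular (Localization.AtPrime r') ((rs.map (algebraMap P P')).map (algebraMap P' (Localization.AtPrime r')))) :
    IsWeaklyRegular (Localization.AtPrime r) (rs.map (algebraMap P (Localization.AtPrime r))) := by
  let g := Localization.localRingHom r r' (algebraMap P P') hrr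
  letI : Algebra (Localization.AtPrime r) (Localization.AtPrime r') := g.toAlgebra
  haveI : IsLocalHom (algebraMap (Localization.AtPrime r) (Localization.AtPrime r')) :=
    Localization.isLocalHom_localRingHom r r' (algebraMap P P') hrr
  haveI : IsScalarTower P (Localization.AtPrime r) (Localization.AtPrime r') := .of_algebraMap_eq fun x =>
    (IsScalarTower.algebraMap_apply P P' (Localization.AtPrime r') x).trans
      (Localization.localRingHom_to_map r r' (algebraMap P P') hrr x).symm
  haveI : Module.Flat P (Localization.AtPrime r') := Module.Flat.trans P P' _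
  haveI : Module.Flat (Localization.AtPrime r) (Localization.AtPrime r') :=
    (Module.flat_iff_of_isLocalization (Localization.AtPrime r) r.primeCompl (Localization.AtPrime r')).2 inferInstance
  haveI : Module.FaithfullyFlat (Localization.AtPrime r) (Localization.AtPrime r') :=
    Module.FaithfullyFlat.of_flat_of_isLocalHom
  refine isWeaklyRegular_of_faithfullyFlat_map (M := Localization.AtPrime r') _ ?_
  have el : (rs.map (algebraMap P (Localization.AtPrime r))).map (algebraMap (Localization.AtPrime r) (Localization.AtPrime r')) =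
      (rs.map (algebraMap P P')).map (algebraMap P' (Localization.AtPrime r')) := by
    rw [List.map_map, List.map_map]
    exact List.map_congr_left fun x _ => (Localization.localRingHom_to_map r r' (algebraMap P P') hrr x)
  rw [el]
  exact h

theorem flat_rename (R : Type u) [CommRing R] (n : ℕ) :
    (MvPolynomial.rename (R := R) (Fin.castSucc : Fin n → Fin (n + 1))).toRingHom.Flat := by
  let e : MvPolynomial (Fin (n + 1)) R ≃ₐ[R] Polynomial (MvPolynomial (Fin n) R) :=
    (MvPolynomial.renameEquiv R finSuccEquivLast).trans (MvPolynomial.optionEquivLeft R (Fin n))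
  have he : e.toAlgHom.comp (MvPolynomial.rename Fin.castSucc) = Polynomial.CAlgHom :=
    MvPolynomial.algHom_ext fun i => by simp [e]
  rw [show (MvPolynomial.rename (R := R) (Fin.castSucc : Fin n → Fin (n + 1))).toRingHom =
    e.toRingEquiv.symm.toRingHom.comp (Polynomial.C : MvPolynomial (Fin n) R →+* _) from RingHom.ext fun x =>
      (e.eq_symm_apply.2 (AlgHom.congr_fun he x))]
  exact RingHom.Flat.comp (RingHom.flat_algebraMap_iff.2 inferInstance) (RingHom.Flat.of_bijective e.symm.bijective)

/-- A prime of the presentation of `D(v)` over a prime of `D(v)`. -/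
theorem exists_prime_awayPres (F : Fin c → MvPolynomial (Fin n) R) (v : MvPolynomial (Fin n) R)
    (L : Type u) [CommRing L] [IsLocalRing L] [Algebra (MvPolynomial (Fin n) R) L] [Algebra R L]
    [IsScalarTower R (MvPolynomial (Fin n) R) L] (hF : ∀ i, algebraMap _ L (F i) ∈ IsLocalRing.maximalIdeal L)
    (w : L) (hw : algebraMap _ L v * w = 1) :
    ∃ r' : Ideal (MvPolynomial (Fin (n + 1)) R), r'.IsPrime ∧
      r'.comap (MvPolynomial.rename Fin.castSucc).toRingHom =
        (IsLocalRing.maximalIdeal L).comap (algebraMap (MvPolynomial (Fin n) R) L) ∧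
      Ideal.span (Set.range (awayPres F v)) ≤ r' := by
  let χ : MvPolynomial (Fin (n + 1)) R →ₐ[R] L :=
    MvPolynomial.aeval (Fin.snoc (fun i => algebraMap (MvPolynomial (Fin n) R) L (MvPolynomial.X i)) w)
  have hχ : χ.comp (MvPolynomial.rename Fin.castSucc) = IsScalarTower.toAlgHom R (MvPolynomial (Fin n) R) L :=
    MvPolynomial.algHom_ext fun i => by
      show χ (MvPolynomial.rename Fin.castSucc (MvPolynomial.X i)) = algebraMap _ L (MvPolynomial.X i)
      rw [MvPolynomial.rename_X]
      show MvPolynomial.aeval _ (MvPolynomial.X _) = _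
      rw [MvPolynomial.aeval_X, Fin.snoc_castSucc]
  have hχι : ∀ x, χ (MvPolynomial.rename Fin.castSucc x) = algebraMap _ L x := fun x => AlgHom.congr_fun hχ x
  refine ⟨(IsLocalRing.maximalIdeal L).comap χ.toRingHom, Ideal.IsPrime.comap _, ?_, Ideal.span_le.2 ?_⟩
  · ext x
    show χ (MvPolynomial.rename Fin.castSucc x) ∈ IsLocalRing.maximalIdeal L ↔ _
    rw [hχι]
    rfl
  · rintro _ ⟨i, rfl⟩
    show χ (awayPres F v i) ∈ IsLocalRing.maximalIdeal L
    refine Fin.lastCases ?_ (fun j => ?_) i
    · rw [awayPres, Fin.snoc_last, map_sub, map_mul, map_one, hχι,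
        show χ (MvPolynomial.X (Fin.last n)) = w from (MvPolynomial.aeval_X _ _).trans (Fin.snoc_last _ _), hw, sub_self]
      exact zero_mem _
    · rw [awayPres, Fin.snoc_castSucc, hχι]
      exact hF j

/-- Where `v` is invertible, the equations of a presentation of `D(v)` form a regular sequence. -/
theorem isWeaklyRegular_of_awayPres (F : Fin c → MvPolynomial (Fin n) R) (v : MvPolynomial (Fin n) R)
    (h : Synt.IsRelGCI R (n + 1) (c + 1) (awayPres F v)) (r : Ideal (MvPolynomial (Fin n) R)) [r.IsPrime]
    (hr : Ideal.span (Set.range F) ≤ r) (hv : v ∉ r) :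
    IsWeaklyRegular (Localization.AtPrime r)
      ((List.ofFn F).map (algebraMap (MvPolynomial (Fin n) R) (Localization.AtPrime r))) := by
  classical
  obtain ⟨w, hw⟩ := (IsLocalization.map_units (Localization.AtPrime r) (⟨v, hv⟩ : r.primeCompl)).exists_right_inv
  obtain ⟨r', _, hrr, hle⟩ := exists_prime_awayPres F v (Localization.AtPrime r)
    (fun i => (IsLocalization.AtPrime.to_map_mem_maximal_iff _ r _).2 (hr (Ideal.subset_span ⟨i, rfl⟩))) w hw
  rw [show (IsLocalRing.maximalIdeal (Localization.AtPrime r)).comap (algebraMap _ (Localization.AtPrime r)) = r from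
    IsLocalization.AtPrime.under_maximalIdeal (Localization.AtPrime r) r] at hrr
  have hreg := isWeaklyRegular_take (regular_flat_of_isRelGCI (awayPres F v) h r' hle).1 c
  letI : Algebra (MvPolynomial (Fin n) R) (MvPolynomial (Fin (n + 1)) R) :=
    (MvPolynomial.rename Fin.castSucc).toRingHom.toAlgebra
  haveI : Module.Flat (MvPolynomial (Fin n) R) (MvPolynomial (Fin (n + 1)) R) := flat_rename R n
  refine isWeaklyRegular_of_flat_comap r' r hrr.symm (List.ofFn F) ?_
  rw [← List.map_take] at hreg
  refine Eq.mp ?_ hreg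
  congr 2
  rw [List.map_ofFn]
  refine List.ext_getElem (by simp) fun i h₁ h₂ => ?_
  simp only [List.getElem_take, List.getElem_ofFn, Function.comp_apply]
  unfold awayPres
  refine Eq.trans ?_ (rfl : MvPolynomial.rename Fin.castSucc (F ⟨i, by simpa using h₂⟩) = _)
  exact Fin.snoc_castSucc (α := fun _ : Fin (c + 1) => MvPolynomial (Fin (n + 1)) R) _ _ ⟨i, by simpa using h₂⟩

end Groth.Agent.CILib
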