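import Groth.Agent.CMSeqLib.Basic
import Groth.Agent.CMGraded.FlatCM

/-!
Parameter sequences in Cohen-Macaulay local rings are regular and have Cohen-Macaulay quotients.
-/

set_option autoImplicit false
set_option backward.isDefEq.respectTransparency false

universe u

open IsLocalRing RingTheory.Sequence

namespace Groth.Agent.CILib

theorem le_of_add_one_le_add_one {a b : WithBot ℕ∞} (h : a + 1 ≤ b + 1) : a ≤ b := by
  induction a using WithBot.recBotCoe with
  | bot => exact bot_le
  | coe a => induction b using WithBot.recBotCoe with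
    | bot =>
      rw [WithBot.bot_add, ← WithBot.coe_one, ← WithBot.coe_add] at h
      exact absurd h (WithBot.not_coe_le_bot _)
    | coe b =>
      rw [← WithBot.coe_one, ← WithBot.coe_add, ← WithBot.coe_add, WithBot.coe_le_coe] at h
      exact WithBot.coe_le_coe.2 ((ENat.add_le_add_iff_right ENat.one_ne_top).1 h)

variable {A : Type u} [CommRing A] [IsLocalRing A] [IsNoetherianRing A]

/-- A system of parameters part on a Cohen-Macaulay module is a regular sequence. -/
theorem isWeaklyRegular_and_cm : ∀ (rs : List A) (M : Type u) [AddCommGroup M] [Module A M]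
    [Module.Finite A M], LocCoh.IsCohenMacaulayModule A M → (∀ r ∈ rs, r ∈ maximalIdeal A) →
      Module.supportDim A (M ⧸ (Ideal.ofList rs • ⊤ : Submodule A M)) + rs.length ≤ Module.supportDim A M →
      IsWeaklyRegular M rs ∧ LocCoh.IsCohenMacaulayModule A (M ⧸ (Ideal.ofList rs • ⊤ : Submodule A M))
  | [], M, _, _, _, hM, _, _ => by
    refine ⟨IsWeaklyRegular.nil A M, CMSeqLib.cm_congr ?_ hM⟩
    exact ((Submodule.quotEquivOfEq _ _ (by simp [Ideal.ofList_nil])).trans
      (Submodule.quotEquivOfEqBot _ rfl)).symm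
  | x :: rs, M, _, _, _, hM, hm, hd => by
    have hx := hm x List.mem_cons_self
    have hrs : ∀ r ∈ rs, r ∈ maximalIdeal A := fun r hr => hm r (List.mem_cons_of_mem _ hr)
    let e := Submodule.quotOfListConsSMulTopEquivQuotSMulTopInner M x rs
    rw [Module.supportDim_eq_of_equiv e, List.length_cons, Nat.cast_add, Nat.cast_one, ← add_assoc] at hd
    have h1 := CMSeqLib.supportDim_quot_add_length_le (M := QuotSMulTop x M) rs hrs
    have h2 : Module.supportDim A M ≤ Module.supportDim A (QuotSMulTop x M) + 1 :=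
      Module.supportDim_le_supportDim_quotSMulTop_succ hx
    have hreg : IsSMulRegular M x :=
      CMSeqLib.isSMulRegular_of_supportDim_drop hM ((add_le_add_left h1 1).trans hd)
    have heq := Module.supportDim_quotSMulTop_succ_eq_supportDim hreg hx
    rw [← heq] at hd
    have hd' : Module.supportDim A (QuotSMulTop x M ⧸ (Ideal.ofList rs • ⊤ : Submodule A (QuotSMulTop x M))) +
        rs.length ≤ Module.supportDim A (QuotSMulTop x M) := by
      exact le_of_add_one_le_add_one hd
    obtain ⟨hw, hc⟩ := isWeaklyRegular_and_cm rs (QuotSMulTop x M)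
      (CMSeqLib.isCohenMacaulayModule_quotSMulTop hM hx hreg) hrs hd'
    exact ⟨IsWeaklyRegular.cons hreg hw, CMSeqLib.cm_congr e.symm hc⟩

/-- A part of a system of parameters of a Cohen-Macaulay local ring is regular, with Cohen-Macaulay
quotient. -/
theorem isRegular_of_ringKrullDim_quotient_add_le [LocCoh.IsCohenMacaulayLocalRing A] (rs : List A)
    (hm : ∀ r ∈ rs, r ∈ maximalIdeal A)
    (hd : ringKrullDim (A ⧸ Ideal.ofList rs) + rs.length ≤ ringKrullDim A) :
    IsRegular A rs ∧ LocCoh.IsCohenMacaulayLocalRing (A ⧸ Ideal.ofList rs) := by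
  set J := Ideal.ofList rs with hJ
  have hJm : J ≤ maximalIdeal A := Ideal.span_le.2 hm
  have hJtop : J ≠ ⊤ := fun h => (maximalIdeal.isMaximal A).ne_top (top_le_iff.1 (h ▸ hJm))
  haveI : Nontrivial (A ⧸ J) := Ideal.Quotient.nontrivial_iff.2 hJtop
  haveI : IsLocalRing (A ⧸ J) := .of_surjective' (Ideal.Quotient.mk J) Ideal.Quotient.mk_surjective
  let e : (A ⧸ (J • ⊤ : Submodule A A)) ≃ₗ[A] A ⧸ J :=
    Submodule.quotEquivOfEq _ _ (by simp [smul_eq_mul, Ideal.mul_top])
  obtain ⟨hw, hc⟩ := isWeaklyRegular_and_cm rs A LocCoh.IsCohenMacaulayLocalRing.supportDim_eq_depth hm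
    (by rwa [← hJ, Module.supportDim_eq_of_equiv e, Module.supportDim_quotient_eq_ringKrullDim,
      Module.supportDim_self_eq_ringKrullDim])
  refine ⟨IsRegular.of_isWeaklyRegular_of_mem_maximalIdeal A hm hw, ?_⟩
  have hc' : LocCoh.IsCohenMacaulayModule A (A ⧸ J) := CMSeqLib.cm_congr e hc
  have hI : maximalIdeal A • (⊤ : Submodule A (A ⧸ J)) ≠ ⊤ := by
    rw [ne_comm]
    exact Submodule.top_ne_ideal_smul_of_le_jacobson_annihilator (maximalIdeal_le_jacobson _)
  obtain ⟨d, hd'⟩ : ∃ d : ℕ, LocCoh.depth A (A ⧸ J) = d := FlatDepth.exists_depth_eq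
  obtain ⟨ys, hys, hym, hyw⟩ := (Depth.le_idealDepth_iff (I := maximalIdeal A) hI d).1 hd'.ge
  refine CMGraded.isCohenMacaulayLocalRing_of_seq (rs := ys.map (algebraMap A (A ⧸ J))) ?_ ?_ ?_
  · intro y hy
    obtain ⟨z, hz, rfl⟩ := List.mem_map.1 hy
    haveI : IsLocalHom (algebraMap A (A ⧸ J)) := IsLocalHom.of_surjective _ Ideal.Quotient.mk_surjective
    exact map_nonunit (algebraMap A (A ⧸ J)) z (hym z hz)
  · exact (isWeaklyRegular_map_algebraMap_iff (A ⧸ J) (A ⧸ J) ys).2 hyw
  · have := hc'
    rw [LocCoh.IsCohenMacaulayModule, Module.supportDim_quotient_eq_ringKrullDim, hd'] at this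
    rw [this, List.length_map, hys]
    rfl

end Groth.Agent.CILib
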