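import Groth.Prelude.Def_RegImm
import Groth.Agent.NearGen.Constr
import Mathlib.RingTheory.Spectrum.Prime.ConstructibleSet

/-!
Base change and descent of relative global complete intersections.
-/

set_option autoImplicit false
set_option backward.isDefEq.respectTransparency false

universe u

open TensorProduct MvPolynomial Topology

namespace Groth.Agent.CILib

variable {R : Type u} [CommRing R] {n c : ℕ}

/-- The equations over a larger base. -/
noncomputable def mapF (A : Type u) [CommRing A] [Algebra R A] (F : Fin c → MvPolynomial (Fin n) R) :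
    Fin c → MvPolynomial (Fin n) A :=
  fun i => MvPolynomial.map (algebraMap R A) (F i)

theorem mapF_mapF (A A' : Type u) [CommRing A] [CommRing A'] [Algebra R A] [Algebra R A'] [Algebra A A']
    [IsScalarTower R A A'] (F : Fin c → MvPolynomial (Fin n) R) : mapF A' (mapF A F) = mapF A' F := by
  funext i
  simp [mapF, MvPolynomial.map_map, ← IsScalarTower.algebraMap_eq]

/-- Base change of a presentation. -/
noncomputable def baseChangeEquiv (A : Type u) [CommRing A] [Algebra R A] (F : Fin c → MvPolynomial (Fin n) R) :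
    A ⊗[R] Synt.RelGCIRing R n c F ≃ₐ[A] Synt.RelGCIRing A n c (mapF A F) :=
  (Algebra.TensorProduct.tensorQuotientEquiv (R := R) A (MvPolynomial (Fin n) R) A (Ideal.span (Set.range F))).trans
    (Ideal.quotientEquivAlg _ _ (MvPolynomial.algebraTensorAlgEquiv R A) (by
      rw [Ideal.map_span, Ideal.map_span, ← Set.range_comp, ← Set.range_comp]
      congr 2
      funext i
      simp [mapF]))

theorem ringKrullDim_baseChange_eq (A : Type u) [CommRing A] [Algebra R A] (F : Fin c → MvPolynomial (Fin n) R) :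
    ringKrullDim (A ⊗[R] Synt.RelGCIRing R n c F) = ringKrullDim (Synt.RelGCIRing A n c (mapF A F)) :=
  ringKrullDim_eq_of_ringEquiv (R := A ⊗[R] Synt.RelGCIRing R n c F) (baseChangeEquiv A F).toRingEquiv

/-- The fibre condition. -/
def DimOK (n c : ℕ) (d : WithBot ℕ∞) : Prop := d = ⊥ ∨ (c ≤ n ∧ d = ((n - c : ℕ) : WithBot ℕ∞))

theorem dimOK_iff {A : Type u} [CommSemiring A] :
    DimOK n c (ringKrullDim A) ↔
      (Nontrivial A → c ≤ n ∧ ringKrullDim A = ((n - c : ℕ) : WithBot ℕ∞)) := by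
  constructor
  · rintro (h | h) hA
    · exact absurd h (fun h => by simpa [h] using (ringKrullDim_nonneg_of_nontrivial (R := A)))
    · exact h
  · intro h
    rcases subsingleton_or_nontrivial A with hA | hA
    · exact Or.inl ringKrullDim_eq_bot_of_subsingleton
    · exact Or.inr (h hA)

theorem isRelGCI_iff (F : Fin c → MvPolynomial (Fin n) R) :
    Synt.IsRelGCI R n c F ↔
      ∀ p : PrimeSpectrum R, DimOK n c (ringKrullDim (p.asIdeal.Fiber (Synt.RelGCIRing R n c F))) :=
  forall_congr' fun _ => dimOK_iff.symm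

theorem finiteType (F : Fin c → MvPolynomial (Fin n) R) : Algebra.FiniteType R (Synt.RelGCIRing R n c F) :=
  inferInstance

theorem finitePresentation (F : Fin c → MvPolynomial (Fin n) R) :
    Algebra.FinitePresentation R (Synt.RelGCIRing R n c F) := by
  classical
  exact Algebra.FinitePresentation.quotient ⟨Finset.univ.image F, by simp⟩

/-- The condition can be tested in any field. -/
theorem dimOK_of_field {F : Fin c → MvPolynomial (Fin n) R} (h : Synt.IsRelGCI R n c F)
    (L : Type u) [Field L] [Algebra R L] :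
    DimOK n c (ringKrullDim (Synt.RelGCIRing L n c (mapF L F))) := by
  let p : PrimeSpectrum R := ⟨RingHom.ker (algebraMap R L), RingHom.ker_isPrime _⟩
  haveI : p.asIdeal.IsPrime := p.2
  let φ := Ideal.ResidueField.lift p.asIdeal (algebraMap R L) le_rfl
    (fun x hx => isUnit_iff_ne_zero.2 fun h0 => hx (RingHom.mem_ker.2 h0))
  letI : Algebra p.asIdeal.ResidueField L := φ.toAlgebra
  haveI : IsScalarTower R p.asIdeal.ResidueField L := .of_algebraMap_eq fun a => by
    rw [RingHom.algebraMap_toAlgebra]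
    exact (Ideal.ResidueField.lift_algebraMap ..).symm
  rw [← ringKrullDim_baseChange_eq L F,
    NearGen.ringKrullDim_tensor_tower p.asIdeal.ResidueField L]
  exact (isRelGCI_iff F).1 h p

theorem isRelGCI_baseChange {F : Fin c → MvPolynomial (Fin n) R} (h : Synt.IsRelGCI R n c F)
    (A : Type u) [CommRing A] [Algebra R A] : Synt.IsRelGCI A n c (mapF A F) := by
  rw [isRelGCI_iff]
  intro p
  rw [ringKrullDim_baseChange_eq p.asIdeal.ResidueField (mapF A F), mapF_mapF]
  exact dimOK_of_field h p.asIdeal.ResidueField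

section Descent

/-- A constructible set containing the image of the spectrum of a ring contains the image of the spectrum
of one of its finitely generated subalgebras. -/
theorem exists_fg_subalgebra_forall_mem (R₀ : Subalgebra ℤ R) (hR₀ : R₀.FG)
    {E : Set (PrimeSpectrum R₀)} (hE : IsConstructible E)
    (h : ∀ p : PrimeSpectrum R, PrimeSpectrum.comap (algebraMap R₀ R) p ∈ E) :
    ∃ (R₁ : Subalgebra ℤ R) (hle : R₀ ≤ R₁), R₁.FG ∧
      ∀ q : PrimeSpectrum R₁, PrimeSpectrum.comap (Subalgebra.inclusion hle).toRingHom q ∈ E := by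
  classical
  obtain ⟨s, hs⟩ := PrimeSpectrum.exists_constructibleSetData_iff.mpr hE.compl
  have key : ∀ C : s, ∃ (N : ℕ) (a : Fin C.1.n → R),
      (C.1.f : R) ^ N = ∑ i, a i * (C.1.g i : R) := by
    intro C
    have : (C.1.f : R) ∈ (Ideal.span (Set.range fun i => (C.1.g i : R))).radical := by
      rw [Ideal.radical_eq_sInf, Submodule.mem_sInf]
      rintro J ⟨hJ, hJp⟩
      by_contra hf
      have hm := h ⟨J, hJp⟩
      have : PrimeSpectrum.comap (algebraMap R₀ R) ⟨J, hJp⟩ ∈ Eᶜ := by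
        rw [← hs, PrimeSpectrum.ConstructibleSetData.toSet]
        refine Set.mem_biUnion C.2 ⟨?_, ?_⟩
        · rw [PrimeSpectrum.mem_zeroLocus]
          rintro _ ⟨i, rfl⟩
          exact hJ (Ideal.subset_span ⟨i, rfl⟩)
        · rw [PrimeSpectrum.mem_zeroLocus, Set.singleton_subset_iff]
          exact hf
      exact this hm
    obtain ⟨N, hN⟩ := this
    obtain ⟨a, ha⟩ := Submodule.mem_span_range_iff_exists_fun R |>.1 hN
    exact ⟨N, a, ha.symm⟩
  choose N a ha using key
  let T : Set R := ⋃ C : s, Set.range (a C)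
  have hT : T.Finite := Set.finite_iUnion fun C => Set.finite_range _
  let R₁ : Subalgebra ℤ R := R₀ ⊔ Algebra.adjoin ℤ T
  refine ⟨R₁, le_sup_left, hR₀.sup ⟨hT.toFinset, by rw [hT.coe_toFinset]⟩, fun q => ?_⟩
  by_contra hq
  have hq' : PrimeSpectrum.comap (Subalgebra.inclusion (le_sup_left : R₀ ≤ R₁)).toRingHom q ∈ Eᶜ := hq
  rw [← hs, PrimeSpectrum.ConstructibleSetData.toSet] at hq'
  obtain ⟨C, hC, hg, hf⟩ := Set.mem_iUnion₂.1 hq'
  apply hf
  rw [PrimeSpectrum.mem_zeroLocus, Set.singleton_subset_iff]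
  rw [PrimeSpectrum.mem_zeroLocus] at hg
  show Subalgebra.inclusion (le_sup_left : R₀ ≤ R₁) C.f ∈ q.asIdeal
  refine q.2.mem_of_pow_mem (N ⟨C, hC⟩) ?_
  have hmem : ∀ i, a ⟨C, hC⟩ i ∈ R₁ := fun i =>
    (le_sup_right : Algebra.adjoin ℤ T ≤ R₁) (Algebra.subset_adjoin (Set.mem_iUnion.2 ⟨⟨C, hC⟩, i, rfl⟩))
  have heq : (Subalgebra.inclusion (le_sup_left : R₀ ≤ R₁) C.f) ^ N ⟨C, hC⟩ =
      ∑ i, (⟨a ⟨C, hC⟩ i, hmem i⟩ : R₁) * Subalgebra.inclusion (le_sup_left : R₀ ≤ R₁) (C.g i) := by
    apply Subtype.ext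
    push_cast
    exact ha ⟨C, hC⟩
  rw [heq]
  exact Ideal.sum_mem _ fun i _ => Ideal.mul_mem_left _ _ (hg ⟨i, rfl⟩)

/-- The points over which the fibre has the right dimension. -/
def dimLocus (F : Fin c → MvPolynomial (Fin n) R) : Set (PrimeSpectrum R) :=
  {p | DimOK n c (ringKrullDim (p.asIdeal.ResidueField ⊗[R] Synt.RelGCIRing R n c F))}

theorem isConstructible_dimLocus (F : Fin c → MvPolynomial (Fin n) R) : IsConstructible (dimLocus F) :=
  haveI := finitePresentation F
  NearGen.isConstructible_ringKrullDim (DimOK n c)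

theorem dimOK_comap_iff (F₀ : Fin c → MvPolynomial (Fin n) R) {A : Type u} [CommRing A] [Algebra R A] (p : PrimeSpectrum A) :
    PrimeSpectrum.comap (algebraMap R A) p ∈ dimLocus F₀ ↔
      DimOK n c (ringKrullDim (p.asIdeal.Fiber (Synt.RelGCIRing A n c (mapF A F₀)))) := by
  let p₀ := PrimeSpectrum.comap (algebraMap R A) p
  let φ := Ideal.ResidueField.map p₀.asIdeal p.asIdeal (algebraMap R A) rfl
  letI : Algebra p₀.asIdeal.ResidueField p.asIdeal.ResidueField := φ.toAlgebra
  haveI : IsScalarTower R p₀.asIdeal.ResidueField p.asIdeal.ResidueField :=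
    .of_algebraMap_eq fun a => by
      rw [IsScalarTower.algebraMap_apply R A p.asIdeal.ResidueField]
      exact (Ideal.ResidueField.map_algebraMap ..).symm
  show DimOK n c (ringKrullDim (p₀.asIdeal.ResidueField ⊗[R] _)) ↔ _
  rw [← NearGen.ringKrullDim_tensor_tower p₀.asIdeal.ResidueField p.asIdeal.ResidueField,
    ringKrullDim_baseChange_eq p.asIdeal.ResidueField F₀]
  show _ ↔ DimOK n c (ringKrullDim (p.asIdeal.ResidueField ⊗[A] Synt.RelGCIRing A n c (mapF A F₀)))
  rw [ringKrullDim_baseChange_eq p.asIdeal.ResidueField (mapF A F₀), mapF_mapF]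

theorem exists_le_isRelGCI (R₀ : Subalgebra ℤ R) (hR₀ : R₀.FG) (F₀ : Fin c → MvPolynomial (Fin n) R₀)
    (h : Synt.IsRelGCI R n c (mapF R F₀)) :
    ∃ (R₁ : Subalgebra ℤ R) (F₁ : Fin c → MvPolynomial (Fin n) R₁),
      Algebra.FiniteType ℤ R₁ ∧ mapF R F₁ = mapF R F₀ ∧ Synt.IsRelGCI R₁ n c F₁ := by
  have hall : ∀ p : PrimeSpectrum R, PrimeSpectrum.comap (algebraMap R₀ R) p ∈
      dimLocus F₀ :=
    fun p => (dimOK_comap_iff F₀ p).2 ((isRelGCI_iff _).1 h p)
  obtain ⟨R₁, hle, hfg, hR₁⟩ := exists_fg_subalgebra_forall_mem R₀ hR₀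
    (isConstructible_dimLocus F₀) hall
  let i : Algebra R₀ R₁ := (Subalgebra.inclusion hle).toRingHom.toAlgebra
  haveI : IsScalarTower R₀ R₁ R := .of_algebraMap_eq fun _ => rfl
  exact ⟨R₁, mapF R₁ F₀, R₁.fg_iff_finiteType.1 hfg, mapF_mapF R₁ R F₀,
    (isRelGCI_iff _).2 fun p => (dimOK_comap_iff F₀ p).1 (hR₁ p)⟩

theorem exists_fg_subalgebra_isRelGCI (F : Fin c → MvPolynomial (Fin n) R) (h : Synt.IsRelGCI R n c F) :
    ∃ (R₁ : Subalgebra ℤ R) (F₁ : Fin c → MvPolynomial (Fin n) R₁),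
      Algebra.FiniteType ℤ R₁ ∧ mapF R F₁ = F ∧ Synt.IsRelGCI R₁ n c F₁ := by
  classical
  let T : Finset R := Finset.univ.biUnion fun i => (F i).coeffs
  have hF : ∀ i, ∃ F₀ : MvPolynomial (Fin n) (Algebra.adjoin ℤ (T : Set R)),
      MvPolynomial.map (algebraMap (Algebra.adjoin ℤ (T : Set R)) R) F₀ = F i := fun i => by
    refine RingHom.mem_range.1 (MvPolynomial.mem_range_map_iff_coeffs_subset.2 fun x hx => ?_)
    exact ⟨⟨x, Algebra.subset_adjoin (Finset.mem_biUnion.2 ⟨i, Finset.mem_univ _, hx⟩)⟩, rfl⟩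
  choose F₀ hF₀ using hF
  have hF₀' : mapF R F₀ = F := funext hF₀
  have := exists_le_isRelGCI _ (Subalgebra.fg_adjoin_finset T) F₀ (hF₀'.symm ▸ h)
  rwa [hF₀'] at this

end Descent

end Groth.Agent.CILib
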