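import Groth.Agent.CILib.RelGCIFlat

/-!
Flatness of relative global complete intersections over an arbitrary base.
-/

set_option autoImplicit false
set_option backward.isDefEq.respectTransparency false

universe u

open TensorProduct RingTheory.Sequence IsLocalRing

namespace Groth.Agent.CILib

section Transfer

/-- Regularity and flatness pass to local rings of the base change. -/
theorem regular_flat_baseChange {R₀ R P₀ L : Type u} [CommRing R₀] [CommRing R] [CommRing P₀] [CommRing L]
    [Algebra R₀ R] [Algebra R₀ P₀] (q₀ : Ideal P₀) [q₀.IsPrime] (q : Ideal (R ⊗[R₀] P₀)) [q.IsPrime]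
    (hq : q.comap (Algebra.TensorProduct.includeRight : P₀ →ₐ[R₀] R ⊗[R₀] P₀).toRingHom = q₀)
    [Algebra (R ⊗[R₀] P₀) L] [IsLocalization.AtPrime L q] [Algebra R L] [IsScalarTower R (R ⊗[R₀] P₀) L]
    (rs : List P₀) (hreg : IsWeaklyRegular (Localization.AtPrime q₀) (rs.map (algebraMap P₀ (Localization.AtPrime q₀))))
    (hflat : ∀ i, Module.Flat R₀ (Localization.AtPrime q₀ ⧸
      Ideal.ofList ((rs.map (algebraMap P₀ (Localization.AtPrime q₀))).take i))) :
    IsWeaklyRegular L (rs.map fun r => algebraMap (R ⊗[R₀] P₀) L (1 ⊗ₜ r)) ∧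
      ∀ i, Module.Flat R (L ⧸ Ideal.ofList ((rs.map fun r => algebraMap (R ⊗[R₀] P₀) L (1 ⊗ₜ r)).take i)) := by
  let S := Localization.AtPrime q₀
  let T := R ⊗[R₀] S
  letI : Algebra (R ⊗[R₀] P₀) T :=
    (Algebra.TensorProduct.map (AlgHom.id R R) (IsScalarTower.toAlgHom R₀ P₀ S)).toAlgebra
  haveI : IsScalarTower R (R ⊗[R₀] P₀) T := .of_algebraMap_eq fun a =>
    ((Algebra.TensorProduct.map (AlgHom.id R R) (IsScalarTower.toAlgHom R₀ P₀ S)).commutes a).symm
  let M : Submonoid (R ⊗[R₀] P₀) :=
    q₀.primeCompl.map (Algebra.TensorProduct.includeRight (R := R₀) (A := R))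
  haveI : IsLocalization M T := IsLocalization.tensorProduct_tensorProduct_right R₀ R q₀.primeCompl S
    (by ext x; simp [RingHom.algebraMap_toAlgebra])
  have hM : M ≤ q.primeCompl := by
    rintro _ ⟨x, hx, rfl⟩ hmem
    exact hx (hq ▸ hmem)
  let ψ : T →+* L := IsLocalization.lift (M := M) (g := algebraMap (R ⊗[R₀] P₀) L)
    fun y => IsLocalization.map_units L (⟨y.1, hM y.2⟩ : q.primeCompl)
  letI : Algebra T L := ψ.toAlgebra
  haveI : IsScalarTower (R ⊗[R₀] P₀) T L := .of_algebraMap_eq fun a =>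
    (IsLocalization.lift_eq _ a).symm
  haveI : IsScalarTower R T L := IsScalarTower.to₁₃₄ R (R ⊗[R₀] P₀) T L
  haveI : IsLocalization (q.primeCompl.map (algebraMap (R ⊗[R₀] P₀) T)) L :=
    IsLocalization.isLocalization_of_submonoid_le T L M q.primeCompl hM
  haveI : Module.Flat T L := IsLocalization.flat L (q.primeCompl.map (algebraMap (R ⊗[R₀] P₀) T))
  set ts : List T := rs.map fun r => (1 : R) ⊗ₜ[R₀] algebraMap P₀ S r with hts
  have hmap : ts.map (algebraMap T L) = rs.map fun r => algebraMap (R ⊗[R₀] P₀) L (1 ⊗ₜ r) := by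
    rw [hts, List.map_map]
    refine List.map_congr_left fun r _ => ?_
    rw [IsScalarTower.algebraMap_apply (R ⊗[R₀] P₀) T L]
    rfl
  rw [← hmap]
  refine ⟨?_, fun i => ?_⟩
  · refine IsWeaklyRegular.of_flat (S := L) ?_
    have h := weaklyRegular_tensor_of_flat_quotients R (rs.map (algebraMap P₀ S)) S hreg fun i => by
      haveI := hflat (i + 1)
      exact Module.Flat.of_linearEquiv ((Submodule.quotEquivOfEq _ _
        (show Ideal.ofList ((rs.map (algebraMap P₀ S)).take (i + 1)) • (⊤ : Submodule S S) =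
          Ideal.ofList ((rs.map (algebraMap P₀ S)).take (i + 1)) by rw [smul_eq_mul, Ideal.mul_top])).restrictScalars R₀)
    refine ((TensorProduct.comm R₀ S R).toAddEquiv.isWeaklyRegular_congr ?_).1 h
    rw [hts, List.forall₂_map_left_iff, List.forall₂_map_right_iff]
    refine List.forall₂_same.2 fun r _ z => ?_
    induction z using TensorProduct.induction_on with
    | zero => rw [smul_zero, map_zero, smul_zero]
    | tmul a b =>
      show (b : R) ⊗ₜ[R₀] (algebraMap P₀ S r * a) = ((1 : R) ⊗ₜ[R₀] algebraMap P₀ S r) * (b ⊗ₜ[R₀] a)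
      rw [Algebra.TensorProduct.tmul_mul_tmul, one_mul]
    | add a b ha hb => rw [smul_add, map_add, map_add, smul_add, ha, hb]
  · rw [← List.map_take, ← Ideal.map_ofList]
    let I : Ideal T := Ideal.ofList (ts.take i)
    let I₀ : Ideal S := Ideal.ofList ((rs.map (algebraMap P₀ S)).take i)
    have hI : I₀.map (Algebra.TensorProduct.includeRight (R := R₀) (A := R) : S →ₐ[R₀] T) = I := by
      show I₀.map ((Algebra.TensorProduct.includeRight (R := R₀) (A := R) : S →ₐ[R₀] T) : S →+* T) = _
      rw [Ideal.map_ofList, List.map_take, List.map_map]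
      rfl
    haveI := hflat i
    haveI : Module.Flat R (T ⧸ I) := Module.Flat.of_linearEquiv
      (((Algebra.TensorProduct.tensorQuotientEquiv (R := R₀) R S R I₀).trans
        (Ideal.quotientEquivAlgOfEq R hI)).toLinearEquiv.symm)
    haveI : Module.Flat R ((T ⧸ I) ⊗[T] L) := Module.Flat.trans R (T ⧸ I) _
    exact Module.Flat.of_linearEquiv
      ((((Submodule.Quotient.restrictScalarsEquiv T (I.map (algebraMap T L))).symm.trans
        (Submodule.quotEquivOfEq _ _ (Ideal.smul_top_eq_map I).symm)).trans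
          (TensorProduct.quotTensorEquivQuotSMul L I).symm).restrictScalars R)

end Transfer

section General

variable {R : Type u} [CommRing R] {n c : ℕ}

theorem regular_flat_of_equiv {R₀ R P₀ P : Type u} [CommRing R₀] [CommRing R] [CommRing P₀] [CommRing P]
    [Algebra R₀ R] [Algebra R₀ P₀] [Algebra R P] (e : R ⊗[R₀] P₀ ≃ₐ[R] P) (g : P₀ →+* P)
    (hg : ∀ x, e (1 ⊗ₜ x) = g x) (q : Ideal P) [q.IsPrime] [(q.comap g).IsPrime] (rs : List P₀)
    (hreg : IsWeaklyRegular (Localization.AtPrime (q.comap g))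
      (rs.map (algebraMap P₀ (Localization.AtPrime (q.comap g)))))
    (hflat : ∀ i, Module.Flat R₀ (Localization.AtPrime (q.comap g) ⧸
      Ideal.ofList ((rs.map (algebraMap P₀ (Localization.AtPrime (q.comap g)))).take i))) :
    IsWeaklyRegular (Localization.AtPrime q) ((rs.map g).map (algebraMap P (Localization.AtPrime q))) ∧
      ∀ i, Module.Flat R (Localization.AtPrime q ⧸
        Ideal.ofList (((rs.map g).map (algebraMap P (Localization.AtPrime q))).take i)) := by
  haveI : (q.comap e.toRingEquiv.toRingHom).IsPrime := Ideal.IsPrime.comap _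
  letI : Algebra (R ⊗[R₀] P₀) (Localization.AtPrime q) :=
    ((algebraMap P (Localization.AtPrime q)).comp e.toRingEquiv.toRingHom).toAlgebra
  haveI : IsScalarTower R (R ⊗[R₀] P₀) (Localization.AtPrime q) := .of_algebraMap_eq fun a => by
    show _ = algebraMap P (Localization.AtPrime q) (e (algebraMap R _ a))
    rw [e.commutes, ← IsScalarTower.algebraMap_apply]
  haveI : IsLocalization.AtPrime (Localization.AtPrime q) (q.comap e.toRingEquiv.toRingHom) := by
    have := IsLocalization.isLocalization_of_base_ringEquiv q.primeCompl (Localization.AtPrime q) e.toRingEquiv.symm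
    convert this using 1
    swap
    · rfl
    ext x
    simp [Submonoid.mem_map]
    exact ⟨fun hx => ⟨e x, hx, by simp⟩, by rintro ⟨y, hy, rfl⟩; simpa using hy⟩
  have hq' : (q.comap e.toRingEquiv.toRingHom).comap (Algebra.TensorProduct.includeRight :
      P₀ →ₐ[R₀] R ⊗[R₀] P₀).toRingHom = q.comap g := by
    ext x
    show e (1 ⊗ₜ x) ∈ q ↔ g x ∈ q
    rw [hg]
  obtain ⟨h1, h2⟩ := regular_flat_baseChange (q.comap g) _ hq' (L := Localization.AtPrime q) rs hreg hflat
  have hl : rs.map (fun r => algebraMap (R ⊗[R₀] P₀) (Localization.AtPrime q) (1 ⊗ₜ r)) =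
      (rs.map g).map (algebraMap P (Localization.AtPrime q)) := by
    rw [List.map_map]
    refine List.map_congr_left fun r _ => ?_
    exact congrArg (algebraMap P (Localization.AtPrime q)) (hg r)
  rw [hl] at h1 h2
  exact ⟨h1, h2⟩

theorem regular_flat_of_model {R₀ : Type u} [CommRing R₀] [IsNoetherianRing R₀] [Algebra R₀ R]
    (F₀ : Fin c → MvPolynomial (Fin n) R₀) (hR₀ : Synt.IsRelGCI R₀ n c F₀)
    (q : Ideal (MvPolynomial (Fin n) R)) [q.IsPrime] (hq : Ideal.span (Set.range (mapF R F₀)) ≤ q) :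
    IsWeaklyRegular (Localization.AtPrime q)
        ((List.ofFn (mapF R F₀)).map (algebraMap (MvPolynomial (Fin n) R) (Localization.AtPrime q))) ∧
      ∀ i, Module.Flat R (Localization.AtPrime q ⧸ Ideal.ofList
        (((List.ofFn (mapF R F₀)).map (algebraMap (MvPolynomial (Fin n) R) (Localization.AtPrime q))).take i)) := by
  haveI : (q.comap (MvPolynomial.map (algebraMap R₀ R))).IsPrime := Ideal.IsPrime.comap _
  have hq₀ : Ideal.span (Set.range F₀) ≤ q.comap (MvPolynomial.map (algebraMap R₀ R)) := by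
    rw [Ideal.span_le]
    rintro _ ⟨i, rfl⟩
    exact hq (Ideal.subset_span ⟨i, rfl⟩)
  obtain ⟨hreg, hflat⟩ := regular_flat_of_noetherian F₀ hR₀ _ hq₀
  have hl : (List.ofFn F₀).map (MvPolynomial.map (algebraMap R₀ R)) = List.ofFn (mapF R F₀) := by
    rw [List.map_ofFn]
    rfl
  rw [← hl]
  exact regular_flat_of_equiv (MvPolynomial.algebraTensorAlgEquiv R₀ R) _ (fun x => by simp) q _ hreg hflat

/-- Regularity and flatness over any base. -/
theorem regular_flat_of_isRelGCI (F : Fin c → MvPolynomial (Fin n) R) (h : Synt.IsRelGCI R n c F)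
    (q : Ideal (MvPolynomial (Fin n) R)) [q.IsPrime] (hq : Ideal.span (Set.range F) ≤ q) :
    IsWeaklyRegular (Localization.AtPrime q)
        ((List.ofFn F).map (algebraMap (MvPolynomial (Fin n) R) (Localization.AtPrime q))) ∧
      ∀ i, Module.Flat R (Localization.AtPrime q ⧸ Ideal.ofList
        (((List.ofFn F).map (algebraMap (MvPolynomial (Fin n) R) (Localization.AtPrime q))).take i)) := by
  obtain ⟨R₀, F₀, hft, hF, hR₀⟩ := exists_fg_subalgebra_isRelGCI F h
  subst hF
  haveI : IsNoetherianRing R₀ := Algebra.FiniteType.isNoetherianRing ℤ R₀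
  exact regular_flat_of_model F₀ hR₀ q hq

end General

end Groth.Agent.CILib
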