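import Groth.Agent.CILib.RelGCINhd
import Groth.Agent.CILib.RelGCIFlat
import Groth.Agent.CILib.Nbhd

/-!
Flat algebras of finite presentation with complete intersection fibre are locally relative global
complete intersections.
-/

set_option autoImplicit false
set_option backward.isDefEq.respectTransparency false

universe u

open TensorProduct MvPolynomial IsLocalRing

namespace Groth.Agent.CILib

section Poly

variable {R : Type u} [CommRing R] {n : ℕ} (p : Ideal R) [p.IsPrime]

theorem exists_smul_eq_map (x : MvPolynomial (Fin n) p.ResidueField) :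
    ∃ r ∉ p, ∃ s : MvPolynomial (Fin n) R,
      algebraMap R (MvPolynomial (Fin n) p.ResidueField) r * x = MvPolynomial.map (algebraMap R p.ResidueField) s := by
  have h1 : (1 : R) ∉ p := fun h => (‹p.IsPrime›).ne_top ((Ideal.eq_top_iff_one p).2 h)
  have hC : ∀ r, algebraMap R (MvPolynomial (Fin n) p.ResidueField) r = C (algebraMap R p.ResidueField r) := fun r => by
    rw [IsScalarTower.algebraMap_apply R p.ResidueField, MvPolynomial.algebraMap_eq]
  induction x using MvPolynomial.induction_on with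
  | C a =>
    obtain ⟨u, ⟨v, hv⟩, huv⟩ := IsLocalization.exists_mk'_eq (nonZeroDivisors (R ⧸ p)) a
    obtain ⟨u, rfl⟩ := Ideal.Quotient.mk_surjective u
    obtain ⟨v, rfl⟩ := Ideal.Quotient.mk_surjective v
    refine ⟨v, fun h => nonZeroDivisors.ne_zero hv (Ideal.Quotient.eq_zero_iff_mem.2 h), C u, ?_⟩
    rw [hC, MvPolynomial.map_C, ← map_mul]
    congr 1
    rw [← huv, IsScalarTower.algebraMap_apply R (R ⧸ p) p.ResidueField, IsScalarTower.algebraMap_apply R (R ⧸ p) p.ResidueField,
      Ideal.Quotient.algebraMap_eq, mul_comm]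
    exact IsLocalization.mk'_spec p.ResidueField (Ideal.Quotient.mk p u) ⟨Ideal.Quotient.mk p v, hv⟩
  | add a b ha hb =>
    obtain ⟨r, hr, k, e⟩ := ha
    obtain ⟨r', hr', k', e'⟩ := hb
    refine ⟨r * r', fun hm => ((‹p.IsPrime›).mem_or_mem hm).elim hr hr', C r' * k + C r * k', ?_⟩
    simp only [map_add, map_mul, MvPolynomial.map_C, ← hC, ← e, ← e']
    ring
  | mul_X a i ha =>
    obtain ⟨r, hr, k, e⟩ := ha
    refine ⟨r, hr, k * X i, ?_⟩
    rw [map_mul, MvPolynomial.map_X, ← e, mul_assoc]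

theorem isUnit_algebraMap_of_notMem {r : R} (hr : r ∉ p) :
    IsUnit (algebraMap R (MvPolynomial (Fin n) p.ResidueField) r) := by
  rw [IsScalarTower.algebraMap_apply R p.ResidueField]
  exact (isUnit_iff_ne_zero.2 fun h => hr ((Ideal.algebraMap_residueField_eq_zero).1 h)).map _

/-- A prime of the closed fibre is determined by its preimage. -/
theorem eq_of_comap_map_eq (Q₁ Q₂ : Ideal (MvPolynomial (Fin n) p.ResidueField))
    (h : Q₁.comap (MvPolynomial.map (algebraMap R p.ResidueField)) =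
      Q₂.comap (MvPolynomial.map (algebraMap R p.ResidueField))) : Q₁ = Q₂ := by
  ext x
  obtain ⟨r, hr, s, e⟩ := exists_smul_eq_map p x
  rw [← Ideal.unit_mul_mem_iff_mem Q₁ (isUnit_algebraMap_of_notMem p hr),
    ← Ideal.unit_mul_mem_iff_mem Q₂ (isUnit_algebraMap_of_notMem p hr), e]
  exact SetLike.ext_iff.1 h s

theorem exists_mul_eq_map_of_mem {K : Ideal (MvPolynomial (Fin n) R)} {x : MvPolynomial (Fin n) p.ResidueField}
    (hx : x ∈ K.map (MvPolynomial.map (algebraMap R p.ResidueField))) :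
    ∃ r ∉ p, ∃ k ∈ K, algebraMap R (MvPolynomial (Fin n) p.ResidueField) r * x =
      MvPolynomial.map (algebraMap R p.ResidueField) k := by
  have h1 : (1 : R) ∉ p := fun h => (‹p.IsPrime›).ne_top ((Ideal.eq_top_iff_one p).2 h)
  have hC : ∀ r, algebraMap R (MvPolynomial (Fin n) p.ResidueField) r =
      MvPolynomial.map (algebraMap R p.ResidueField) (algebraMap R _ r) := fun r => by
    rw [MvPolynomial.algebraMap_eq, MvPolynomial.map_C, IsScalarTower.algebraMap_apply R p.ResidueField,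
      MvPolynomial.algebraMap_eq]
  induction hx using Submodule.span_induction with
  | mem x hx =>
    obtain ⟨k, hk, rfl⟩ := hx
    exact ⟨1, h1, k, hk, by rw [map_one, one_mul]⟩
  | zero => exact ⟨1, h1, 0, K.zero_mem, by simp⟩
  | add a b _ _ ha hb =>
    obtain ⟨r, hr, k, hk, e⟩ := ha
    obtain ⟨r', hr', k', hk', e'⟩ := hb
    refine ⟨r * r', fun hm => ((‹p.IsPrime›).mem_or_mem hm).elim hr hr',
      algebraMap R _ r' * k + algebraMap R _ r * k', K.add_mem (K.mul_mem_left _ hk) (K.mul_mem_left _ hk'), ?_⟩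
    simp only [map_add, map_mul, ← hC, ← e, ← e']
    ring
  | smul t a _ ha =>
    obtain ⟨r, hr, k, hk, e⟩ := ha
    obtain ⟨r', hr', s, e'⟩ := exists_smul_eq_map p t
    refine ⟨r' * r, fun hm => ((‹p.IsPrime›).mem_or_mem hm).elim hr' hr, s * k, K.mul_mem_left _ hk, ?_⟩
    simp only [map_mul, ← e, ← e', smul_eq_mul]
    ring

/-- The presentation of the fibre. -/
theorem exists_fibre_presentation {T : Type u} [CommRing T] [Algebra R T] (φ : MvPolynomial (Fin n) R →ₐ[R] T)
    (hφ : Function.Surjective φ) :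
    ∃ ψ : MvPolynomial (Fin n) p.ResidueField →ₐ[p.ResidueField] p.Fiber T, Function.Surjective ψ ∧
      RingHom.ker ψ.toRingHom = (RingHom.ker φ.toRingHom).map (MvPolynomial.map (algebraMap R p.ResidueField)) ∧
      ∀ x, ψ (MvPolynomial.map (algebraMap R p.ResidueField) x) = (1 : p.ResidueField) ⊗ₜ[R] φ x := by
  let e := MvPolynomial.algebraTensorAlgEquiv (σ := Fin n) R p.ResidueField
  let ψ₀ : p.ResidueField ⊗[R] MvPolynomial (Fin n) R →ₐ[p.ResidueField] p.Fiber T :=
    Algebra.TensorProduct.map (AlgHom.id p.ResidueField p.ResidueField) φ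
  have he : ∀ x, e ((1 : p.ResidueField) ⊗ₜ[R] x) = MvPolynomial.map (algebraMap R p.ResidueField) x := fun x => by
    simp [e]
  have hker₀ : RingHom.ker ψ₀.toRingHom = (RingHom.ker φ.toRingHom).map
      (Algebra.TensorProduct.includeRight : MvPolynomial (Fin n) R →ₐ[R] p.ResidueField ⊗[R] MvPolynomial (Fin n) R).toRingHom :=
    Algebra.TensorProduct.lTensor_ker φ hφ
  refine ⟨ψ₀.comp e.symm.toAlgHom, ?_, ?_, fun x => ?_⟩
  · show Function.Surjective (ψ₀ ∘ e.symm)
    refine Function.Surjective.comp ?_ e.symm.surjective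
    show Function.Surjective (TensorProduct.map (LinearMap.id : p.ResidueField →ₗ[R] p.ResidueField) φ.toLinearMap)
    exact TensorProduct.map_surjective Function.surjective_id hφ
  · have h1 : RingHom.ker (ψ₀.comp e.symm.toAlgHom).toRingHom =
        (RingHom.ker ψ₀.toRingHom).map e.toRingEquiv.toRingHom := by
      ext z
      rw [Ideal.mem_map_iff_of_surjective e.toRingEquiv.toRingHom e.surjective]
      simp only [RingHom.mem_ker]
      constructor
      · exact fun hz => ⟨e.symm z, hz, e.apply_symm_apply z⟩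
      · rintro ⟨y, hy, rfl⟩
        show ψ₀ (e.symm (e y)) = 0
        rw [e.symm_apply_apply]
        exact hy
    rw [h1, hker₀, Ideal.map_map]
    congr 1
    exact RingHom.ext he
  · show ψ₀ (e.symm (MvPolynomial.map (algebraMap R p.ResidueField) x)) = _
    rw [← he, AlgEquiv.symm_apply_apply]
    rfl

end Poly

section Field

variable {k S : Type u} [Field k] [CommRing S] [Algebra k S] {n : ℕ}

/-- The local dimension of a quotient of affine space through the local ring. -/
theorem localDim_eq_of_dim (φ : MvPolynomial (Fin n) k →ₐ[k] S) (hφ : Function.Surjective φ) (q : Ideal S) [q.IsPrime]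
    (Q : Ideal (MvPolynomial (Fin n) k)) [Q.IsPrime] (hQ : Q = q.comap φ.toRingHom) {a b c : ℕ}
    (hd : ringKrullDim (Localization.AtPrime Q ⧸ (RingHom.ker φ.toRingHom).map (algebraMap _ (Localization.AtPrime Q))) =
      ((a : ℕ) : WithBot ℕ∞))
    (hb : Q.height = b) (habc : b = a + c) :
    c ≤ n ∧ FlatMor.localDim (PrimeSpectrum S) ⟨q, ‹_›⟩ = ((n - c : ℕ) : WithBot ℕ∞) := by
  haveI : Algebra.FiniteType k S := Algebra.FiniteType.of_surjective φ hφ
  obtain ⟨b', rb, hb', hrb, hbn⟩ := height_add_trdeg_mvPolynomial k Q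
  obtain ⟨ra, hra⟩ := DimFormulaLib.exists_nat_trdeg_quotient k S q
  obtain ⟨a', ha, hl, -⟩ := DimFormulaLib.localDim_eq_height_add k S ⟨q, ‹_›⟩ ra hra
  have hbb : b = b' := by
    have : (b : ℕ∞) = b' := hb.symm.trans hb'
    exact_mod_cast this
  have haa : a = a' := by
    rw [← CMGraded.ker_localRingHom hφ Q q hQ, ringKrullDim_eq_of_ringEquiv
      (RingHom.quotientKerEquivOfSurjective (CMGraded.localRingHom_surjective hφ Q q hQ)),
      IsLocalization.AtPrime.ringKrullDim_eq_height q, ha] at hd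
    exact_mod_cast hd.symm
  have hrr : ra = rb := by
    let ψ : (MvPolynomial (Fin n) k ⧸ Q) →ₐ[k] S ⧸ q := Ideal.quotientMapₐ q φ hQ.le
    let e : (MvPolynomial (Fin n) k ⧸ Q) ≃ₐ[k] S ⧸ q := AlgEquiv.ofBijective ψ
      ⟨Ideal.quotientMap_injective' (H := hQ.le) hQ.ge, Ideal.quotientMap_surjective (H := hQ.le) (f := φ.toRingHom) hφ⟩
    have := e.trdeg_eq
    rw [hrb, hra] at this
    exact_mod_cast this.symm
  exact ⟨by omega, by rw [hl]; exact_mod_cast (by omega : a' + ra = n - c)⟩

end Field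

section Flat

variable {R A : Type u} [CommRing R] [CommRing A] [Algebra R A]

/-- If the quotient by `K` is flat, `p A ∩ K = p K`. -/
theorem inf_map_le_map_mul (p : Ideal R) (K : Ideal A) [Module.Flat R (A ⧸ K)] :
    p.map (algebraMap R A) ⊓ K ≤ p.map (algebraMap R A) * K := by
  classical
  rintro x ⟨hx, hxK⟩
  obtain ⟨ι, _, r, a, hr, hsum⟩ : ∃ (ι : Type u) (_ : Fintype ι) (r : ι → R) (a : ι → A),
      (∀ i, r i ∈ p) ∧ ∑ i, algebraMap R A (r i) * a i = x := by
    have hx' : x ∈ Submodule.span A ((algebraMap R A) '' (p : Set R)) := hx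
    obtain ⟨t, ht, a, hs⟩ := (Submodule.mem_span_image_iff_exists_fun A).1 hx'
    exact ⟨t, inferInstance, fun i => i, a, fun i => ht i.2, by rw [← hs]; simp [mul_comm]⟩
  have h0 : ∑ i, r i • (Ideal.Quotient.mk K (a i)) = 0 := by
    simp_rw [Algebra.smul_def, IsScalarTower.algebraMap_apply R A (A ⧸ K), Ideal.Quotient.algebraMap_eq, ← map_mul]
    rw [← map_sum, hsum, Ideal.Quotient.eq_zero_iff_mem]
    exact hxK
  obtain ⟨k, b, y, hy, hb⟩ := Module.Flat.isTrivialRelation_of_sum_smul_eq_zero (R := R) (M := A ⧸ K) (f := r) (x := fun i => Ideal.Quotient.mk K (a i)) (by convert h0)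
  choose z hz using fun j => Ideal.Quotient.mk_surjective (y j)
  have hmem : ∀ i, a i - ∑ j, algebraMap R A (b i j) * z j ∈ K := fun i => by
    have hy' : Ideal.Quotient.mk K (a i) = ∑ j, b i j • y j := hy i
    rw [← Ideal.Quotient.eq_zero_iff_mem, map_sub, hy', map_sum, sub_eq_zero]
    refine Finset.sum_congr rfl fun j _ => ?_
    rw [map_mul, hz, Algebra.smul_def]
    rfl
  have hx2 : x = ∑ i, algebraMap R A (r i) * (a i - ∑ j, algebraMap R A (b i j) * z j) := by
    simp_rw [mul_sub, Finset.sum_sub_distrib, hsum, Finset.mul_sum, ← mul_assoc, ← map_mul]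
    rw [Finset.sum_comm]
    simp_rw [← Finset.sum_mul, ← map_sum, hb, map_zero, zero_mul, Finset.sum_const_zero, sub_zero]
  rw [hx2]
  exact Ideal.sum_mem _ fun i _ => Ideal.mul_mem_mul (Ideal.mem_map_of_mem _ (hr i)) (hmem i)

/-- Generators of the closed fibre of the kernel of a flat quotient generate. -/
theorem le_of_le_sup_map (p : Ideal R) (J K : Ideal A) [Module.Flat R (A ⧸ K)] (hK : K.FG) (hJK : J ≤ K)
    (hp : p.map (algebraMap R A) ≤ Ring.jacobson A) (h : K ≤ J ⊔ p.map (algebraMap R A)) : K ≤ J := by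
  refine Submodule.le_of_le_smul_of_le_jacobson_bot hK (hp.trans_eq (Ring.jacobson_eq_sInf_isMaximal A |> fun _ => by
    rw [Ideal.jacobson_bot])) fun x hx => ?_
  obtain ⟨y, hy, z, hz, rfl⟩ := Submodule.mem_sup.1 (h hx)
  exact Submodule.add_mem_sup hy (by
    rw [smul_eq_mul]
    exact inf_map_le_map_mul p K ⟨hz, by simpa using K.sub_mem hx (hJK hy)⟩)

end Flat

theorem exists_kill {A L : Type u} [CommRing A] [CommRing L] [Algebra A L] (q : Ideal A) [q.IsPrime]
    [IsLocalization.AtPrime L q] (K J : Ideal A) (hK : K.FG) (h : K.map (algebraMap A L) ≤ J.map (algebraMap A L)) :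
    ∃ u ∉ q, ∀ x ∈ K, u * x ∈ J := by
  obtain ⟨T, hT⟩ := hK
  have hk : ∀ x ∈ T, ∃ t ∉ q, t * x ∈ J := fun x hx => by
    obtain ⟨t, ht, e⟩ := (IsLocalization.algebraMap_mem_map_algebraMap_iff q.primeCompl L _ _).1
      (h (Ideal.mem_map_of_mem (algebraMap A L) (by rw [← hT]; exact Submodule.subset_span hx)))
    exact ⟨t, ht, e⟩
  choose! t ht htmem using hk
  refine ⟨∏ x ∈ T, t x, fun hm => ?_, fun x hx => ?_⟩
  · obtain ⟨x, hx, hxm⟩ := ((‹q.IsPrime›).prod_mem_iff).1 hm
    exact ht x hx hxm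
  · rw [← hT] at hx
    induction hx using Submodule.span_induction with
    | mem y hy =>
      classical
      rw [show (∏ z ∈ T, t z) = (∏ z ∈ T.erase y, t z) * t y from (Finset.prod_erase_mul T t hy).symm, mul_assoc]
      exact Ideal.mul_mem_left _ _ (htmem y hy)
    | zero => simp
    | add y z _ _ hy hz => rw [mul_add]; exact add_mem hy hz
    | smul a y _ hy => rw [smul_eq_mul, mul_left_comm]; exact Ideal.mul_mem_left _ _ hy

/-- Two quotients agreeing after inverting an element. -/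
theorem exists_equiv_away_quotient {R P S T : Type u} [CommRing R] [CommRing P] [CommRing S] [CommRing T]
    [Algebra R P] [Algebra R S] [Algebra R T] (φ : P →ₐ[R] T) (hφ : Function.Surjective φ) (ψ : P →ₐ[R] S)
    (hψ : Function.Surjective ψ) (hle : RingHom.ker ψ.toRingHom ≤ RingHom.ker φ.toRingHom) (h : P)
    (hkill : ∀ x ∈ RingHom.ker φ.toRingHom, h * x ∈ RingHom.ker ψ.toRingHom) :
    Nonempty (Localization.Away (ψ h) ≃ₐ[R] Localization.Away (φ h)) := by
  obtain ⟨θ, hθ⟩ := exists_factor ψ hψ φ hle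
  let LS := Localization.Away (ψ h)
  let LT := Localization.Away (φ h)
  obtain ⟨ρ, hρ⟩ := exists_factor φ hφ ((IsScalarTower.toAlgHom R S LS).comp ψ) fun x hx => RingHom.mem_ker.2 <| by
    show algebraMap S LS (ψ x) = 0
    refine (IsLocalization.Away.algebraMap_isUnit (S := LS) (ψ h)).mul_right_eq_zero.1 ?_
    rw [← map_mul, ← map_mul, show ψ (h * x) = 0 from hkill x hx, map_zero]
  let α : LS →ₐ[R] LT := IsLocalization.liftAlgHom (M := Submonoid.powers (ψ h))
    (f := (IsScalarTower.toAlgHom R T LT).comp θ) (by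
      rintro ⟨_, m, rfl⟩
      rw [map_pow]
      refine IsUnit.pow m ?_
      show IsUnit (algebraMap T LT (θ (ψ h)))
      rw [hθ]
      exact IsLocalization.Away.algebraMap_isUnit (φ h))
  let β : LT →ₐ[R] LS := IsLocalization.liftAlgHom (M := Submonoid.powers (φ h)) (f := ρ) (by
      rintro ⟨_, m, rfl⟩
      rw [map_pow, hρ]
      exact (IsLocalization.Away.algebraMap_isUnit (ψ h)).pow m)
  have hα : ∀ s, α (algebraMap S LS s) = algebraMap T LT (θ s) := fun s => IsLocalization.lift_eq _ s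
  have hβ : ∀ t, β (algebraMap T LT t) = ρ t := fun t => IsLocalization.lift_eq _ t
  refine ⟨AlgEquiv.ofAlgHom α β (IsLocalization.algHom_ext (Submonoid.powers (φ h)) (AlgHom.ext fun t => ?_))
    (IsLocalization.algHom_ext (Submonoid.powers (ψ h)) (AlgHom.ext fun s => ?_))⟩
  · obtain ⟨x, rfl⟩ := hφ t
    show α (β (algebraMap T LT (φ x))) = algebraMap T LT (φ x)
    rw [hβ, hρ]
    show α (algebraMap S LS (ψ x)) = _
    rw [hα, hθ]
  · obtain ⟨x, rfl⟩ := hψ s
    show β (α (algebraMap S LS (ψ x))) = algebraMap S LS (ψ x)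
    rw [hα, hθ, hβ, hρ]
    rfl

section Main

variable {R T : Type u} [CommRing R] [CommRing T] [Algebra R T] {n : ℕ}

theorem exists_equations (φ : MvPolynomial (Fin n) R →ₐ[R] T) (hφ : Function.Surjective φ)
    (p : Ideal R) [p.IsPrime] (Q : Ideal (p.Fiber T)) [Q.IsPrime]
    (hCI : Synt.IsCIOver p.ResidueField (Localization.AtPrime Q)) :
    ∃ (c : ℕ) (Q' : Ideal (MvPolynomial (Fin n) p.ResidueField)) (_ : Q'.IsPrime) (F : Fin c → MvPolynomial (Fin n) R),
      Q'.comap (MvPolynomial.map (algebraMap R p.ResidueField)) =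
        (Q.comap (Algebra.TensorProduct.includeRight : T →ₐ[R] p.Fiber T).toRingHom).comap φ.toRingHom ∧
      (∀ i, F i ∈ RingHom.ker φ.toRingHom) ∧
      ((RingHom.ker φ.toRingHom).map (MvPolynomial.map (algebraMap R p.ResidueField))).map
          (algebraMap _ (Localization.AtPrime Q')) =
        (Ideal.span (Set.range (mapF p.ResidueField F))).map (algebraMap _ (Localization.AtPrime Q')) ∧
      ∃ a b : ℕ, Q'.height = b ∧ b = a + c ∧
        ringKrullDim (Localization.AtPrime Q' ⧸
          (Ideal.span (Set.range (mapF p.ResidueField F))).map (algebraMap _ (Localization.AtPrime Q'))) =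
          ((a : ℕ) : WithBot ℕ∞) := by
  obtain ⟨ψ, hψ, hker, hψm⟩ := exists_fibre_presentation p φ hφ
  let Q' := Q.comap ψ.toRingHom
  haveI : Q'.IsPrime := Ideal.IsPrime.comap _
  haveI : Algebra.FiniteType p.ResidueField (p.Fiber T) := Algebra.FiniteType.of_surjective ψ hψ
  obtain ⟨c, ⟨f, hf⟩, hd⟩ := (isCIOver_atPrime_iff ψ hψ Q).1 hCI
  rw [CMGraded.ker_localRingHom hψ Q' Q rfl, hker] at hf
  let L := Localization.AtPrime Q'
  have hex : ∀ i, ∃ x ∈ RingHom.ker φ.toRingHom, ∃ w : L, IsUnit w ∧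
      f i * w = algebraMap _ L (MvPolynomial.map (algebraMap R p.ResidueField) x) := fun i => by
    have hmem : f i ∈ ((RingHom.ker φ.toRingHom).map (MvPolynomial.map (algebraMap R p.ResidueField))).map (algebraMap _ L) :=
      hf ▸ Ideal.subset_span ⟨i, rfl⟩
    obtain ⟨⟨⟨y, hy⟩, s⟩, e⟩ := (IsLocalization.mem_map_algebraMap_iff Q'.primeCompl L).1 hmem
    obtain ⟨r, hr, x, hx, e'⟩ := exists_mul_eq_map_of_mem p hy
    refine ⟨x, hx, algebraMap (MvPolynomial (Fin n) p.ResidueField) L (s : MvPolynomial (Fin n) p.ResidueField) *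
      algebraMap (MvPolynomial (Fin n) p.ResidueField) L (algebraMap R (MvPolynomial (Fin n) p.ResidueField) r),
      (IsLocalization.map_units L s).mul ((isUnit_algebraMap_of_notMem p hr).map _), ?_⟩
    rw [← mul_assoc, e, ← map_mul, mul_comm, e']
  choose F hF w hw hFw using hex
  have hspan : ((RingHom.ker φ.toRingHom).map (MvPolynomial.map (algebraMap R p.ResidueField))).map (algebraMap _ L) =
      (Ideal.span (Set.range (mapF p.ResidueField F))).map (algebraMap _ L) := by
    refine le_antisymm ?_ (Ideal.map_mono (Ideal.span_le.2 (by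
      rintro _ ⟨i, rfl⟩
      exact Ideal.mem_map_of_mem _ (hF i))))
    rw [hf, Ideal.span_le]
    rintro _ ⟨i, rfl⟩
    refine (Ideal.mul_unit_mem_iff_mem _ (hw i)).1 ?_
    rw [hFw]
    exact Ideal.mem_map_of_mem _ (Ideal.subset_span ⟨i, rfl⟩)
  refine ⟨c, Q', inferInstance, F, ?_, hF, hspan, ?_⟩
  · ext x
    show ψ (MvPolynomial.map _ x) ∈ Q ↔ ((1 : p.ResidueField) ⊗ₜ[R] φ x) ∈ Q
    rw [hψm]
  · obtain ⟨b, rb, hb, -, -⟩ := height_add_trdeg_mvPolynomial p.ResidueField Q'
    haveI : IsNoetherianRing (p.Fiber T) := Algebra.FiniteType.isNoetherianRing p.ResidueField _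
    obtain ⟨a, ha⟩ := ENat.ne_top_iff_exists.mp (Ideal.height_ne_top (I := Q) (‹Q.IsPrime›).ne_top)
    refine ⟨a, b, hb, ?_, ?_⟩
    · rw [IsLocalization.AtPrime.ringKrullDim_eq_height Q', IsLocalization.AtPrime.ringKrullDim_eq_height Q, hb, ← ha] at hd
      exact_mod_cast hd
    · rw [← hspan, ← hker, ← CMGraded.ker_localRingHom hψ Q' Q rfl, ringKrullDim_eq_of_ringEquiv
        (RingHom.quotientKerEquivOfSurjective (CMGraded.localRingHom_surjective hψ Q' Q rfl)),
        IsLocalization.AtPrime.ringKrullDim_eq_height Q, ← ha]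
      rfl

/-- The equations generate the kernel in the local ring. -/
theorem map_ker_le (φ : MvPolynomial (Fin n) R →ₐ[R] T) (hφ : Function.Surjective φ) (hfg : (RingHom.ker φ.toRingHom).FG)
    (q : Ideal T) [q.IsPrime] [(q.comap φ.toRingHom).IsPrime] [Module.Flat R (Localization.AtPrime q)] (p : Ideal R) [p.IsPrime]
    (hp : q.comap (algebraMap R T) = p) {c : ℕ} (F : Fin c → MvPolynomial (Fin n) R)
    (hF : ∀ i, F i ∈ RingHom.ker φ.toRingHom) (Q' : Ideal (MvPolynomial (Fin n) p.ResidueField)) [Q'.IsPrime]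
    (hQ' : Q'.comap (MvPolynomial.map (algebraMap R p.ResidueField)) = q.comap φ.toRingHom)
    (hspan : ((RingHom.ker φ.toRingHom).map (MvPolynomial.map (algebraMap R p.ResidueField))).map
          (algebraMap _ (Localization.AtPrime Q')) =
        (Ideal.span (Set.range (mapF p.ResidueField F))).map (algebraMap _ (Localization.AtPrime Q'))) :
    (RingHom.ker φ.toRingHom).map (algebraMap _ (Localization.AtPrime (q.comap φ.toRingHom))) ≤
      (Ideal.span (Set.range F)).map (algebraMap _ (Localization.AtPrime (q.comap φ.toRingHom))) := by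
  have hp' : (q.comap φ.toRingHom).comap (algebraMap R (MvPolynomial (Fin n) R)) = p := by
    rw [← hp, Ideal.comap_comap]
    congr 1
    exact φ.comp_algebraMap
  obtain ⟨Q'', _, hQ'', e, he⟩ := exists_closedFibre_equiv (q.comap φ.toRingHom) p hp'
  obtain rfl : Q'' = Q' := eq_of_comap_map_eq p _ _ (hQ''.trans hQ'.symm)
  let A := Localization.AtPrime (q.comap φ.toRingHom)
  let π₀ := Localization.localRingHom (q.comap φ.toRingHom) q φ.toRingHom rfl
  let π : A →ₐ[R] Localization.AtPrime q :=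
    { toRingHom := π₀
      commutes' := fun a => by
        show π₀ _ = _
        rw [IsScalarTower.algebraMap_apply R (MvPolynomial (Fin n) R) A, Localization.localRingHom_to_map,
          IsScalarTower.algebraMap_apply R T (Localization.AtPrime q), ← φ.commutes]
        rfl }
  have hπ : Function.Surjective π := CMGraded.localRingHom_surjective hφ _ q rfl
  have hker : RingHom.ker π = (RingHom.ker φ.toRingHom).map (algebraMap _ A) := CMGraded.ker_localRingHom hφ _ q rfl
  haveI : Module.Flat R (A ⧸ (RingHom.ker φ.toRingHom).map (algebraMap (MvPolynomial (Fin n) R) A)) :=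
    Module.Flat.of_linearEquiv ((Ideal.quotientEquivAlgOfEq R hker.symm).trans
      (Ideal.quotientKerAlgEquivOfSurjective hπ)).toLinearEquiv
  refine le_of_le_sup_map p _ _ (hfg.map _) (Ideal.map_mono (Ideal.span_le.2 (by rintro _ ⟨i, rfl⟩; exact hF i)))
    ?_ (Ideal.map_le_iff_le_comap.2 fun x hx => ?_)
  · rw [IsLocalRing.ringJacobson_eq_maximalIdeal, Ideal.map_le_iff_le_comap]
    intro a ha
    rw [Ideal.mem_comap, IsScalarTower.algebraMap_apply R (MvPolynomial (Fin n) R) A]
    exact (IsLocalization.AtPrime.to_map_mem_maximal_iff A (q.comap φ.toRingHom) _).2 (hp'.ge ha)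
  · have h1 := Ideal.mem_map_of_mem e.toRingHom
      (hspan.le (Ideal.mem_map_of_mem _ (Ideal.mem_map_of_mem (MvPolynomial.map (algebraMap R p.ResidueField)) hx)))
    rw [show e.toRingHom (algebraMap _ _ (MvPolynomial.map (algebraMap R p.ResidueField) x)) =
      Ideal.Quotient.mk _ (algebraMap _ A x) from he x] at h1
    rw [Ideal.mem_comap, ← Ideal.mem_quotient_iff_mem_sup]
    convert h1 using 1
    symm
    rw [Ideal.map_map, Ideal.map_span, Ideal.map_map, Ideal.map_span, ← Set.range_comp, ← Set.range_comp]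
    congr 2
    funext i
    exact he (F i)

/-- The local presentation of a flat algebra with complete intersection fibre inside a given presentation. -/
theorem exists_relGCI_pres (φ : MvPolynomial (Fin n) R →ₐ[R] T) (hφ : Function.Surjective φ)
    (hfg : (RingHom.ker φ.toRingHom).FG) (p : Ideal R) [p.IsPrime] (q : Ideal T) [q.IsPrime]
    (Q : Ideal (p.Fiber T)) [Q.IsPrime]
    (hQ : Q.comap (Algebra.TensorProduct.includeRight : T →ₐ[R] p.Fiber T).toRingHom = q)
    [Module.Flat R (Localization.AtPrime q)] (hCI : Synt.IsCIOver p.ResidueField (Localization.AtPrime Q)) :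
    ∃ (c : ℕ) (F : Fin c → MvPolynomial (Fin n) R) (v : MvPolynomial (Fin n) R), φ v ∉ q ∧
      (∀ i, F i ∈ RingHom.ker φ.toRingHom) ∧ (∀ x ∈ RingHom.ker φ.toRingHom, x * v ∈ Ideal.span (Set.range F)) ∧
      Synt.IsRelGCI R (n + 1) (c + 1) (awayPres F v) ∧
      Nonempty (Localization.Away (φ v) ≃ₐ[R] Synt.RelGCIRing R (n + 1) (c + 1) (awayPres F v)) := by
  have hp : q.comap (algebraMap R T) = p := by
    ext r
    rw [← hQ]
    show (Algebra.TensorProduct.includeRight : T →ₐ[R] p.Fiber T) (algebraMap R T r) ∈ Q ↔ r ∈ p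
    rw [AlgHom.commutes]
    exact (SetLike.ext_iff.1 (Ideal.LiesOver.over (P := Q) (p := p)) r).symm
  obtain ⟨c, Q', _, F, hQ', hF, hspan, a, b, hb, hab, hd⟩ := exists_equations φ hφ p Q hCI
  rw [hQ] at hQ'
  haveI : (q.comap φ.toRingHom).IsPrime := Ideal.IsPrime.comap _
  obtain ⟨u, hu, hkill⟩ := exists_kill (L := Localization.AtPrime (q.comap φ.toRingHom)) (q.comap φ.toRingHom) _ _ hfg
    (map_ker_le φ hφ hfg q p hp F hF Q' hQ' hspan)
  let S := Synt.RelGCIRing R n c F
  let mk : MvPolynomial (Fin n) R →ₐ[R] S := Ideal.Quotient.mkₐ R _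
  have hFle : Ideal.span (Set.range F) ≤ q.comap φ.toRingHom := Ideal.span_le.2 (by
    rintro _ ⟨i, rfl⟩
    show φ (F i) ∈ q
    rw [show φ (F i) = 0 from hF i]
    exact q.zero_mem)
  haveI : ((q.comap φ.toRingHom).map (Ideal.Quotient.mk (Ideal.span (Set.range F)))).IsPrime :=
    Ideal.map_isPrime_of_surjective Ideal.Quotient.mk_surjective (by rwa [Ideal.mk_ker])
  let q' : PrimeSpectrum S := ⟨(q.comap φ.toRingHom).map (Ideal.Quotient.mk (Ideal.span (Set.range F))), ‹_›⟩
  have hq' : q'.asIdeal.comap mk.toRingHom = q.comap φ.toRingHom := by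
    show Ideal.comap (Ideal.Quotient.mk _) _ = _
    rw [Ideal.comap_map_of_surjective _ Ideal.Quotient.mk_surjective, sup_eq_left, ← RingHom.ker_eq_comap_bot, Ideal.mk_ker]
    exact hFle
  have hq'p : PrimeSpectrum.comap (algebraMap R S) q' = ⟨p, ‹_›⟩ := by
    apply PrimeSpectrum.ext
    show q'.asIdeal.comap (algebraMap R S) = p
    ext r
    rw [← hp]
    show algebraMap R S r ∈ q'.asIdeal ↔ algebraMap R T r ∈ q
    rw [← mk.commutes, ← φ.commutes]
    exact SetLike.ext_iff.1 hq' (algebraMap R _ r)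
  let Q₂ := PrimeSpectrum.preimageEquivFiber R S ⟨p, ‹_›⟩ ⟨q', hq'p⟩
  have hQ₂ : q'.asIdeal = Q₂.asIdeal.comap (Algebra.TensorProduct.includeRight : S →ₐ[R] p.Fiber S).toRingHom :=
    (congrArg (fun z => z.1.asIdeal)
      ((PrimeSpectrum.preimageEquivFiber R S ⟨p, ‹_›⟩).symm_apply_apply ⟨q', hq'p⟩)).symm
  obtain ⟨ψ, hψ, hkerψ, hψm⟩ := exists_fibre_presentation p mk Ideal.Quotient.mk_surjective
  have hkerψ' : RingHom.ker ψ.toRingHom = Ideal.span (Set.range (mapF p.ResidueField F)) := by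
    rw [hkerψ, show RingHom.ker mk.toRingHom = Ideal.span (Set.range F) from Ideal.mk_ker, Ideal.map_span, ← Set.range_comp]
    rfl
  have hcomap : Q' = Q₂.asIdeal.comap ψ.toRingHom := by
    refine eq_of_comap_map_eq p _ _ (hQ'.trans ?_)
    rw [← hq', hQ₂]
    ext x
    show ((1 : p.ResidueField) ⊗ₜ[R] mk x) ∈ Q₂.asIdeal ↔ ψ (MvPolynomial.map _ x) ∈ Q₂.asIdeal
    rw [hψm]
  obtain ⟨hcn, hl⟩ := localDim_eq_of_dim (k := p.ResidueField) (S := p.Fiber S) (n := n) ψ hψ Q₂.asIdeal Q' hcomap (a := a) (b := b) (c := c) (by rw [hkerψ']; exact hd) hb hab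
  have hsmall : q' ∈ smallLocus R (n - c) :=
    ((localDim_point_eq ⟨p, ‹_›⟩ Q₂ q' hQ₂).trans hl).le
  obtain ⟨J, hJ, hJ'⟩ := exists_ideal_smallLocus (R := R) (S := S) (n - c)
  obtain ⟨g, hg, hgq⟩ := SetLike.not_le_iff_exists.1 (hJ q' hsmall)
  obtain ⟨g₀, rfl⟩ := Ideal.Quotient.mk_surjective g
  have hg₀ : g₀ ∉ q.comap φ.toRingHom := fun hm => hgq (Ideal.mem_map_of_mem _ hm)
  have hkill' : ∀ x ∈ RingHom.ker φ.toRingHom, x * (u * g₀) ∈ Ideal.span (Set.range F) := fun x hx => by
    rw [← mul_assoc, mul_comm x u]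
    exact Ideal.mul_mem_right _ _ (hkill x hx)
  refine ⟨c, F, u * g₀, fun hm => ((‹(q.comap φ.toRingHom).IsPrime›).mem_or_mem hm).elim hu hg₀, hF, hkill',
    isRelGCI_awayPres F (u * g₀) hcn ?_, ?_⟩
  · refine Set.Subset.trans ?_ (hJ' _ hg)
    rw [map_mul]
    exact PrimeSpectrum.basicOpen_mul_le_right _ _
  · obtain ⟨e⟩ := exists_equiv_away_quotient φ hφ mk Ideal.Quotient.mk_surjective
      (by rw [show RingHom.ker mk.toRingHom = Ideal.span (Set.range F) from Ideal.mk_ker, Ideal.span_le]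
          rintro _ ⟨i, rfl⟩; exact hF i) (u * g₀) (fun x hx => by
        rw [show RingHom.ker mk.toRingHom = Ideal.span (Set.range F) from Ideal.mk_ker, mul_right_comm]
        exact Ideal.mul_mem_right _ _ (hkill x hx))
    obtain ⟨e'⟩ := exists_away_equiv F (u * g₀)
    exact ⟨e.symm.trans e'⟩

/-- A flat algebra of finite presentation with complete intersection fibre is locally a relative global
complete intersection. -/
theorem exists_relGCI_nhd [Algebra.FinitePresentation R T] (p : Ideal R) [p.IsPrime] (q : Ideal T) [q.IsPrime]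
    (Q : Ideal (p.Fiber T)) [Q.IsPrime]
    (hQ : Q.comap (Algebra.TensorProduct.includeRight : T →ₐ[R] p.Fiber T).toRingHom = q)
    [Module.Flat R (Localization.AtPrime q)] (hCI : Synt.IsCIOver p.ResidueField (Localization.AtPrime Q)) :
    ∃ h : T, h ∉ q ∧ ∃ (n c : ℕ) (F : Fin c → MvPolynomial (Fin n) R), Synt.IsRelGCI R n c F ∧
      Nonempty (Localization.Away h ≃ₐ[R] Synt.RelGCIRing R n c F) := by
  obtain ⟨n, φ, hφ, hfg⟩ := Algebra.FinitePresentation.out (R := R) (A := T)
  obtain ⟨c, F, v, hv, -, -, hF, he⟩ := exists_relGCI_pres φ hφ hfg p q Q hQ hCI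
  exact ⟨φ v, hv, n + 1, c + 1, awayPres F v, hF, he⟩

end Main

end Groth.Agent.CILib
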