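import Groth.Agent.CILib.RelGCI
import Groth.Agent.CILib.GlobalCI
import Groth.Agent.CILib.Syntomic
import Groth.Agent.FibreDepth.Codim

/-!
Open neighbourhoods which are relative global complete intersections.
-/

set_option autoImplicit false
set_option backward.isDefEq.respectTransparency false

universe u

open TensorProduct MvPolynomial

namespace Groth.Agent.CILib

section Fibre

variable {R S : Type u} [CommRing R] [CommRing S] [Algebra R S] [Algebra.FiniteType R S]

/-- The locus where the fibre has local dimension at most `N`. -/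
def smallLocus (R : Type u) {S : Type u} [CommRing R] [CommRing S] [Algebra R S] (N : ℕ) : Set (PrimeSpectrum S) :=
  {q | FlatMor.localDim (PrimeSpectrum ((FibreDepth.basePrime R q).Fiber S)) (FibreDepth.point R q) ≤ (N : WithBot ℕ∞)}

theorem localDim_point_eq (p : PrimeSpectrum R) (Q : PrimeSpectrum (p.asIdeal.Fiber S)) (q : PrimeSpectrum S)
    (hq : q.asIdeal = Q.asIdeal.comap (Algebra.TensorProduct.includeRight : S →ₐ[R] p.asIdeal.Fiber S).toRingHom) :
    FlatMor.localDim (PrimeSpectrum ((FibreDepth.basePrime R q).Fiber S)) (FibreDepth.point R q) =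
      FlatMor.localDim (PrimeSpectrum (p.asIdeal.Fiber S)) Q := by
  have hz := ((PrimeSpectrum.preimageEquivFiber R S p).symm Q).2
  have he : ((PrimeSpectrum.preimageEquivFiber R S p).symm Q).1 = q := PrimeSpectrum.ext hq.symm
  generalize hzz : (PrimeSpectrum.preimageEquivFiber R S p).symm Q = z at hz he
  obtain ⟨z, hz'⟩ := z
  simp only at he
  subst he
  have hQ : PrimeSpectrum.preimageEquivFiber R S p ⟨z, hz'⟩ = Q := by rw [← hzz, Equiv.apply_symm_apply]
  have hp : p = PrimeSpectrum.comap (algebraMap R S) z := hz'.symm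
  subst hp
  rw [← hQ]
  rfl

theorem height_le_of_mem_smallLocus {N : ℕ} (p : PrimeSpectrum R) (Q : PrimeSpectrum (p.asIdeal.Fiber S))
    (q : PrimeSpectrum S) (hq : q.asIdeal = Q.asIdeal.comap (Algebra.TensorProduct.includeRight : S →ₐ[R] p.asIdeal.Fiber S).toRingHom)
    (h : q ∈ smallLocus R N) : Q.asIdeal.height ≤ N := by
  have h' : FlatMor.localDim _ _ ≤ (N : WithBot ℕ∞) := (localDim_point_eq p Q q hq).symm.trans_le h
  obtain ⟨r, hr⟩ := DimFormulaLib.exists_nat_trdeg_quotient p.asIdeal.ResidueField (p.asIdeal.Fiber S) Q.asIdeal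
  obtain ⟨a, ha, hl, -⟩ := DimFormulaLib.localDim_eq_height_add p.asIdeal.ResidueField (p.asIdeal.Fiber S) Q r hr
  rw [hl] at h'
  have : a + r ≤ N := by exact_mod_cast h'
  rw [ha]
  exact_mod_cast (by omega : a ≤ N)

theorem ringKrullDim_fibre_away_le {N : ℕ} (g : S) (hg : (PrimeSpectrum.basicOpen g : Set (PrimeSpectrum S)) ⊆ smallLocus R N)
    (p : PrimeSpectrum R) :
    ringKrullDim (p.asIdeal.Fiber (Localization.Away g)) ≤ (N : WithBot ℕ∞) := by
  let K := p.asIdeal.ResidueField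
  obtain ⟨e⟩ := exists_fibre_away_equiv (R := R) (S := S) K g (Localization.Away g)
  rw [ringKrullDim_le_iff_height_le]
  intro P hP
  let P' := P.comap e.toRingEquiv
  haveI : P'.IsPrime := Ideal.IsPrime.comap _
  let Q : PrimeSpectrum (p.asIdeal.Fiber S) :=
    ⟨P'.comap (algebraMap (K ⊗[R] S) (Localization.Away ((1 : K) ⊗ₜ[R] g))), Ideal.IsPrime.comap _⟩
  have hQg : ((1 : K) ⊗ₜ[R] g) ∉ Q.asIdeal := fun h =>
    (‹P'.IsPrime›).ne_top (Ideal.eq_top_of_isUnit_mem _ h (IsLocalization.Away.algebraMap_isUnit _))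
  let q : PrimeSpectrum S :=
    ⟨Q.asIdeal.comap (Algebra.TensorProduct.includeRight : S →ₐ[R] p.asIdeal.Fiber S).toRingHom, Ideal.IsPrime.comap _⟩
  have hh := height_le_of_mem_smallLocus p Q q rfl (hg hQg)
  have h1 : P.height = P'.height := (RingEquiv.height_comap e.toRingEquiv P).symm
  have h2 : Q.asIdeal.height = P'.height :=
    IsLocalization.height_under (Submonoid.powers ((1 : K) ⊗ₜ[R] g)) P'
  rw [h1, ← h2]
  exact_mod_cast hh

theorem mem_smallLocus_of_ringKrullDim_le {N : ℕ} (p : PrimeSpectrum R)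
    (h : ringKrullDim (p.asIdeal.Fiber S) ≤ (N : WithBot ℕ∞)) (q : PrimeSpectrum S)
    (hq : PrimeSpectrum.comap (algebraMap R S) q = p) : q ∈ smallLocus R N := by
  subst hq
  refine le_trans ?_ h
  show FlatMor.localDim _ _ ≤ _
  refine le_trans ?_ (PrimeSpectrum.topologicalKrullDim_eq_ringKrullDim _).le
  rw [DimFormulaLib.topologicalKrullDim_eq_iSup_localDim]
  exact le_iSup (fun z => FlatMor.localDim _ z) (FibreDepth.point R q)

theorem exists_ideal_smallLocus (N : ℕ) :
    ∃ J : Ideal S, (∀ q ∈ smallLocus R N, ¬ J ≤ q.asIdeal) ∧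
      ∀ g ∈ J, (PrimeSpectrum.basicOpen g : Set (PrimeSpectrum S)) ⊆ smallLocus R N := by
  have hopen : IsOpen (smallLocus R (S := S) N) := FibreDepth.isOpen_localDim_le N
  obtain ⟨J, hJ⟩ := (PrimeSpectrum.isClosed_iff_zeroLocus_ideal _).1 hopen.isClosed_compl
  refine ⟨J, fun q hq hle => ?_, fun g hg q hq => ?_⟩
  · exact (hJ.ge hle : q ∈ (smallLocus R (S := S) N)ᶜ) hq
  · by_contra hn
    exact hq (hJ.le hn hg)

end Fibre

section Pres

variable {R : Type u} [CommRing R] {n c : ℕ}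

/-- The presentation of a basic open subset. -/
noncomputable def awayPres (F : Fin c → MvPolynomial (Fin n) R) (h : MvPolynomial (Fin n) R) :
    Fin (c + 1) → MvPolynomial (Fin (n + 1)) R :=
  Fin.snoc (fun i => rename Fin.castSucc (F i)) (rename Fin.castSucc h * X (Fin.last n) - 1)

theorem exists_factor {P S A : Type u} [CommRing P] [CommRing S] [CommRing A] [Algebra R P] [Algebra R S]
    [Algebra R A] (φ : P →ₐ[R] S) (hφ : Function.Surjective φ) (f : P →ₐ[R] A)
    (h : RingHom.ker φ.toRingHom ≤ RingHom.ker f.toRingHom) : ∃ ρ : S →ₐ[R] A, ∀ x, ρ (φ x) = f x := by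
  refine ⟨(Ideal.Quotient.liftₐ (RingHom.ker φ) f fun a ha => RingHom.mem_ker.1 (h ha)).comp
    (Ideal.quotientKerAlgEquivOfSurjective hφ).symm.toAlgHom, fun x => ?_⟩
  have e : (Ideal.quotientKerAlgEquivOfSurjective hφ).symm (φ x) = Ideal.Quotient.mk _ x :=
    (AlgEquiv.symm_apply_eq _).2 rfl
  show Ideal.Quotient.liftₐ (RingHom.ker φ) f (fun a ha => RingHom.mem_ker.1 (h ha))
    ((Ideal.quotientKerAlgEquivOfSurjective hφ).symm (φ x)) = f x
  rw [e]
  rfl

/-- Inverting an element by adjoining a variable. -/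
theorem exists_away_equiv_aux {P P' S T : Type u} [CommRing P] [CommRing P'] [CommRing S] [CommRing T]
    [Algebra R P] [Algebra R P'] [Algebra R S] [Algebra R T]
    (φ : P →ₐ[R] S) (hφ : Function.Surjective φ) (φ' : P' →ₐ[R] T) (hφ' : Function.Surjective φ')
    (ι : P →ₐ[R] P') (x : P') (h : P)
    (hker : RingHom.ker φ'.toRingHom = (RingHom.ker φ.toRingHom).map ι.toRingHom ⊔ Ideal.span {ι h * x - 1})
    (hext : ∀ (A : Type u) [CommRing A] [Algebra R A] (f : P →ₐ[R] A) (a : A),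
      ∃ f' : P' →ₐ[R] A, f'.comp ι = f ∧ f' x = a)
    (huniq : ∀ (A : Type u) [CommRing A] [Algebra R A] (f₁ f₂ : P' →ₐ[R] A),
      f₁.comp ι = f₂.comp ι → f₁ x = f₂ x → f₁ = f₂) :
    Nonempty (Localization.Away (φ h) ≃ₐ[R] T) := by
  let L := Localization.Away (φ h)
  obtain ⟨ρ, hρ⟩ := exists_factor φ hφ (φ'.comp ι) fun a ha => RingHom.mem_ker.2 <| RingHom.mem_ker.1 <|
    show ι.toRingHom a ∈ RingHom.ker φ'.toRingHom from hker ▸ Ideal.mem_sup_left (Ideal.mem_map_of_mem _ ha)
  have hx : φ' (ι h) * φ' x = 1 := by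
    rw [← map_mul, ← sub_eq_zero, ← map_one φ', ← map_sub]
    exact RingHom.mem_ker.1 (show ι h * x - 1 ∈ RingHom.ker φ'.toRingHom from
      hker ▸ Ideal.mem_sup_right (Ideal.mem_span_singleton_self _))
  have hu : IsUnit (ρ (φ h)) := IsUnit.of_mul_eq_one (φ' x) (by rw [hρ]; exact hx)
  let α : L →ₐ[R] T := IsLocalization.liftAlgHom (M := Submonoid.powers (φ h)) (f := ρ) (by
    rintro ⟨_, m, rfl⟩
    rw [map_pow]
    exact hu.pow m)
  have hα : ∀ y, α (algebraMap S L y) = ρ y := fun y => IsLocalization.lift_eq _ y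
  obtain ⟨f', hf', hf'x⟩ := hext L ((IsScalarTower.toAlgHom R S L).comp φ) (IsLocalization.Away.invSelf (φ h))
  have hf'ι : ∀ y, f' (ι y) = algebraMap S L (φ y) := fun y => AlgHom.congr_fun hf' y
  obtain ⟨β, hβ⟩ := exists_factor φ' hφ' f' (by
    rw [hker, sup_le_iff, Ideal.map_le_iff_le_comap, Ideal.span_le, Set.singleton_subset_iff]
    refine ⟨fun a ha => ?_, ?_⟩
    · show f' (ι a) = 0
      rw [hf'ι, show φ a = 0 from ha, map_zero]
    · show f' (ι h * x - 1) = 0
      rw [map_sub, map_mul, map_one, hf'ι, hf'x, IsLocalization.Away.mul_invSelf, sub_self])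
  have hαβ : ∀ z, α (β z) = z := by
    have : (α.comp β).comp φ' = φ' := by
      refine huniq T _ _ (AlgHom.ext fun y => ?_) ?_
      · show α (β (φ' (ι y))) = φ' (ι y)
        rw [hβ, hf'ι, hα, hρ]
        rfl
      · show α (β (φ' x)) = φ' x
        rw [hβ, hf'x]
        refine hu.mul_left_cancel ?_
        rw [← hα (φ h), ← map_mul, IsLocalization.Away.mul_invSelf, map_one, hα, hρ]
        exact hx.symm
    intro z
    obtain ⟨y, rfl⟩ := hφ' z
    exact AlgHom.congr_fun this y
  refine ⟨AlgEquiv.ofAlgHom α β (AlgHom.ext hαβ) (IsLocalization.algHom_ext (Submonoid.powers (φ h)) (AlgHom.ext fun y => ?_))⟩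
  obtain ⟨a, rfl⟩ := hφ y
  show β (α (algebraMap S L (φ a))) = algebraMap S L (φ a)
  rw [hα, hρ]
  exact (hβ (ι a)).trans (hf'ι a)

theorem exists_away_equiv (F : Fin c → MvPolynomial (Fin n) R) (h : MvPolynomial (Fin n) R) :
    Nonempty (Localization.Away (Ideal.Quotient.mk (Ideal.span (Set.range F)) h) ≃ₐ[R]
      Synt.RelGCIRing R (n + 1) (c + 1) (awayPres F h)) := by
  refine exists_away_equiv_aux (Ideal.Quotient.mkₐ R _) Ideal.Quotient.mk_surjective (Ideal.Quotient.mkₐ R _)
    Ideal.Quotient.mk_surjective (rename Fin.castSucc) (X (Fin.last n)) h ?_ (fun A _ _ f a => ?_) fun A _ _ f₁ f₂ h₁ h₂ => ?_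
  · show RingHom.ker (Ideal.Quotient.mk _) = (RingHom.ker (Ideal.Quotient.mk _)).map _ ⊔ _
    rw [Ideal.mk_ker, Ideal.mk_ker, Ideal.map_span, ← Set.range_comp, ← Ideal.span_union, Set.union_singleton, awayPres,
      Fin.range_snoc]
    rfl
  · refine ⟨aeval (Fin.snoc (fun i => f (X i)) a), MvPolynomial.algHom_ext fun i => ?_, by simp⟩
    simp
  · refine MvPolynomial.algHom_ext fun i => ?_
    refine Fin.lastCases h₂ (fun j => ?_) i
    have := AlgHom.congr_fun h₁ (X j)
    simpa using this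

theorem ringKrullDim_fiber_congr {S T : Type u} [CommRing S] [CommRing T] [Algebra R S] [Algebra R T] (e : S ≃ₐ[R] T)
    (p : PrimeSpectrum R) : ringKrullDim (p.asIdeal.Fiber S) = ringKrullDim (p.asIdeal.Fiber T) :=
  ringKrullDim_eq_of_ringEquiv (R := p.asIdeal.Fiber S)
    (Algebra.TensorProduct.congr (AlgEquiv.refl : p.asIdeal.ResidueField ≃ₐ[R] p.asIdeal.ResidueField) e).toRingEquiv

theorem isRelGCI_awayPres (F : Fin c → MvPolynomial (Fin n) R) (h : MvPolynomial (Fin n) R) (hcn : c ≤ n)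
    (hg : (PrimeSpectrum.basicOpen (Ideal.Quotient.mk (Ideal.span (Set.range F)) h) :
      Set (PrimeSpectrum (Synt.RelGCIRing R n c F))) ⊆ smallLocus R (n - c)) :
    Synt.IsRelGCI R (n + 1) (c + 1) (awayPres F h) := by
  intro p _
  obtain ⟨e⟩ := exists_away_equiv F h
  let K := p.asIdeal.ResidueField
  have hle := (ringKrullDim_fiber_congr e p).symm.trans_le (ringKrullDim_fibre_away_le _ hg p)
  change ringKrullDim (K ⊗[R] _) ≤ _ at hle
  rw [ringKrullDim_baseChange_eq] at hle
  haveI : Nontrivial (Synt.RelGCIRing K (n + 1) (c + 1) (mapF K (awayPres F h))) :=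
    (baseChangeEquiv K (awayPres F h)).symm.toRingEquiv.toEquiv.nontrivial
  refine ⟨by omega, ?_⟩
  show ringKrullDim (K ⊗[R] _) = _
  rw [ringKrullDim_baseChange_eq]
  refine ringKrullDim_eq (by omega) (Ideal.Quotient.mkₐ K _) (mapF K (awayPres F h))
    Ideal.Quotient.mk_surjective Ideal.mk_ker ?_
  rwa [show n + 1 - (c + 1) = n - c by omega]

theorem isRelGCI_awayPres_of_nilpotent (F : Fin c → MvPolynomial (Fin n) R) (h : MvPolynomial (Fin n) R)
    (hg : IsNilpotent (Ideal.Quotient.mk (Ideal.span (Set.range F)) h)) :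
    Synt.IsRelGCI R (n + 1) (c + 1) (awayPres F h) := by
  intro p hp
  exfalso
  obtain ⟨e⟩ := exists_away_equiv F h
  obtain ⟨m, hm⟩ := hg
  haveI : Subsingleton (Localization.Away (Ideal.Quotient.mk (Ideal.span (Set.range F)) h)) :=
    IsLocalization.subsingleton (M := Submonoid.powers (Ideal.Quotient.mk (Ideal.span (Set.range F)) h)) ⟨m, hm⟩
  haveI : Subsingleton (Synt.RelGCIRing R (n + 1) (c + 1) (awayPres F h)) := e.symm.toEquiv.subsingleton
  haveI : Subsingleton (p.asIdeal.Fiber (Synt.RelGCIRing R (n + 1) (c + 1) (awayPres F h))) :=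
    (Algebra.TensorProduct.includeRight : Synt.RelGCIRing R (n + 1) (c + 1) (awayPres F h) →ₐ[R]
      p.asIdeal.Fiber (Synt.RelGCIRing R (n + 1) (c + 1) (awayPres F h))).toRingHom.codomain_trivial
  exact false_of_nontrivial_of_subsingleton (p.asIdeal.Fiber (Synt.RelGCIRing R (n + 1) (c + 1) (awayPres F h)))

end Pres

end Groth.Agent.CILib
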