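import Groth.Agent.CILib.PresNhd
import Groth.Agent.CILib.Square

/-!
Finite syntomic algebras over a local ring have square presentations.
-/

set_option autoImplicit false
set_option backward.isDefEq.respectTransparency false

universe u

open TensorProduct

namespace Groth.Agent.CILib

/-- Gluing generators over finitely many maximal ideals. -/
theorem exists_uniform_generators {P : Type u} [CommRing P] (I : Ideal P) (hI : I.FG) {ι : Type*} [Finite ι]
    (r : ι → Ideal P) (hmax : ∀ j, (r j).IsMaximal) (hinj : Function.Injective r)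
    (hall : ∀ m : Ideal P, m.IsMaximal → I ≤ m → ∃ j, r j = m) {n : ℕ} (F : ι → Fin n → P) (hF : ∀ j i, F j i ∈ I)
    (v : ι → P) (hv : ∀ j, v j ∉ r j) (hkill : ∀ j, ∀ x ∈ I, x * v j ∈ Ideal.span (Set.range (F j))) :
    ∃ (G : Fin n → P) (h : P), (∀ i, G i ∈ I) ∧ h - 1 ∈ I ∧ ∀ x ∈ I, h * x ∈ Ideal.span (Set.range G) := by
  classical
  haveI := Fintype.ofFinite ι
  have hco : Pairwise (Function.onFun IsCoprime r) := fun a b hab =>
    Ideal.isCoprime_iff_sup_eq.2 ((hmax a).coprime_of_ne (hmax b) fun h => hab (hinj h))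
  choose e he using fun j => Ideal.exists_forall_sub_mem_ideal hco (fun k => if k = j then (1 : P) else 0)
  let G : Fin n → P := fun i => ∑ j, e j * F j i
  have hG : ∀ i, G i ∈ I := fun i => Ideal.sum_mem _ fun j _ => I.mul_mem_left _ (hF j i)
  let J := Ideal.span (Set.range G) ⊔ I * I
  suffices hle : I ≤ J by
    obtain ⟨h, hh, hle'⟩ := Submodule.exists_sub_one_mem_and_smul_le_of_fg_of_le_sup (N' := I) hI le_rfl
      (show I ≤ Ideal.span (Set.range G) ⊔ I • I from hle)
    exact ⟨G, h, hG, hh, fun x hx => hle' (Submodule.smul_mem_pointwise_smul x h I hx)⟩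
  let K : Ideal P :=
    { carrier := {x | ∀ y ∈ I, x * y ∈ J}
      add_mem' := fun ha hb y hy => by rw [add_mul]; exact J.add_mem (ha y hy) (hb y hy)
      zero_mem' := fun y _ => by rw [zero_mul]; exact J.zero_mem
      smul_mem' := fun c x hx y hy => by rw [smul_eq_mul, mul_assoc]; exact J.mul_mem_left c (hx y hy) }
  suffices hK : K = ⊤ by
    intro y hy
    have h1 : (1 : P) ∈ K := hK ▸ trivial
    simpa using h1 y hy
  by_contra hne
  obtain ⟨m, hm, hKm⟩ := Ideal.exists_le_maximal K hne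
  have hIm : I ≤ m := fun x hx => hKm fun y hy => Ideal.mem_sup_right (Ideal.mul_mem_mul hx hy)
  obtain ⟨j, rfl⟩ := hall m hm hIm
  have hdiff : ∀ i, F j i ∈ Ideal.span (Set.range G) ⊔ r j * I := fun i => by
    rw [show F j i = G i + (F j i - G i) by ring]
    refine add_mem (Ideal.mem_sup_left (Ideal.subset_span ⟨i, rfl⟩)) (Ideal.mem_sup_right ?_)
    rw [show F j i - G i = ∑ k, ((if k = j then (1 : P) else 0) - e k) * F k i by
      simp [G, sub_mul, Finset.sum_sub_distrib]]
    refine Ideal.sum_mem _ fun k _ => Ideal.mul_mem_mul ?_ (hF k i)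
    have hkj := neg_mem (he k j)
    rw [neg_sub] at hkj
    by_cases hk : k = j
    · subst hk; simpa using hkj
    · rw [if_neg hk]
      rw [if_neg (Ne.symm hk)] at hkj
      exact hkj
  haveI := hmax j
  obtain ⟨a, ha⟩ := ((Ideal.Quotient.maximal_ideal_iff_isField_quotient (r j)).1 (hmax j)).mul_inv_cancel
    (show Ideal.Quotient.mk (r j) (v j) ≠ 0 from fun h => hv j (Ideal.Quotient.eq_zero_iff_mem.1 h))
  obtain ⟨a, rfl⟩ := Ideal.Quotient.mk_surjective a
  rw [← map_mul, ← map_one (Ideal.Quotient.mk (r j)), Ideal.Quotient.eq] at ha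
  have hsup : I ≤ J ⊔ r j • I := fun y hy => by
    rw [show y = a * (y * v j) + (- (v j * a - 1)) * y by ring]
    refine add_mem ?_ (Ideal.mem_sup_right (Ideal.mul_mem_mul (neg_mem ha) hy))
    have h2 : Ideal.span (Set.range (F j)) ≤ Ideal.span (Set.range G) ⊔ r j * I :=
      Ideal.span_le.2 (by rintro _ ⟨i, rfl⟩; exact hdiff i)
    exact (sup_le_sup_right le_sup_left _ : Ideal.span (Set.range G) ⊔ r j * I ≤ J ⊔ r j * I)
      (Ideal.mul_mem_left _ a (h2 (hkill j y hy)))
  obtain ⟨x, hx, hxJ⟩ := Submodule.exists_sub_one_mem_and_smul_le_of_fg_of_le_sup (N' := I) hI le_rfl hsup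
  have hxK : x ∈ K := fun y hy => hxJ (Submodule.smul_mem_pointwise_smul y x I hy)
  exact (hmax j).ne_top ((Ideal.eq_top_iff_one _).2 (by simpa using sub_mem (hKm hxK) hx))

variable {A B : Type u} [CommRing A] [CommRing B] [Algebra A B]

/-- For a finite algebra the number of equations is the number of variables. -/
theorem eq_of_finite {n c : ℕ} [Module.Finite A B] (φ : MvPolynomial (Fin n) A →ₐ[A] B)
    (F : Fin c → MvPolynomial (Fin n) A) (v : MvPolynomial (Fin n) A) (q : PrimeSpectrum B) (hv : φ v ∉ q.asIdeal)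
    (hG : Synt.IsRelGCI A (n + 1) (c + 1) (awayPres F v))
    (e : Localization.Away (φ v) ≃ₐ[A] Synt.RelGCIRing A (n + 1) (c + 1) (awayPres F v)) : c = n := by
  let p : PrimeSpectrum A := PrimeSpectrum.comap (algebraMap A B) q
  let K := p.asIdeal.ResidueField
  obtain ⟨e₁⟩ := exists_fibre_away_equiv (R := A) (S := B) K (φ v) (Localization.Away (φ v))
  haveI : Module.Finite K (K ⊗[A] B) := inferInstance
  haveI : IsArtinianRing (K ⊗[A] B) := isArtinian_of_tower K inferInstance
  haveI : IsArtinianRing (Localization.Away ((1 : K) ⊗ₜ[A] φ v)) := inferInstance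
  have hd : (q.asIdeal.map (algebraMap B (Localization.Away (φ v)))).IsPrime :=
    IsLocalization.isPrime_of_isPrime_disjoint (Submonoid.powers (φ v)) _ _ q.2 (Set.disjoint_left.2 fun x ⟨m, hm⟩ hx =>
      hv (q.2.mem_of_pow_mem m (show φ v ^ m ∈ q.asIdeal by rwa [show φ v ^ m = x from hm])))
  have hc : PrimeSpectrum.comap (algebraMap A (Localization.Away (φ v))) ⟨_, hd⟩ = p := by
    apply PrimeSpectrum.ext
    show Ideal.comap (algebraMap A _) _ = q.asIdeal.comap (algebraMap A B)
    rw [IsScalarTower.algebraMap_eq A B (Localization.Away (φ v)), ← Ideal.comap_comap]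
    congr 1
    exact IsLocalization.comap_map_of_isPrime_disjoint (Submonoid.powers (φ v)) _ q.2 (Set.disjoint_left.2 fun x ⟨m, hm⟩ hx =>
      hv (q.2.mem_of_pow_mem m (show φ v ^ m ∈ q.asIdeal by rwa [show φ v ^ m = x from hm])))
  haveI : Nontrivial (p.asIdeal.Fiber (Localization.Away (φ v))) := PrimeSpectrum.nonempty_iff_nontrivial.1
    ⟨PrimeSpectrum.preimageEquivFiber A (Localization.Away (φ v)) p ⟨⟨_, hd⟩, hc⟩⟩
  have h0 : ringKrullDim (p.asIdeal.Fiber (Localization.Away (φ v))) ≤ 0 := by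
    refine (ringKrullDim_eq_of_ringEquiv e₁.toRingEquiv).symm.trans_le ?_ |> fun h => h
    exact (Ring.krullDimLE_iff).1
      ((isArtinianRing_iff_isNoetherianRing_krullDimLE_zero (R := Localization.Away ((1 : K) ⊗ₜ[A] φ v))).1 inferInstance).2
  haveI : Nontrivial (p.asIdeal.Fiber (Synt.RelGCIRing A (n + 1) (c + 1) (awayPres F v))) :=
    (Algebra.TensorProduct.congr (AlgEquiv.refl : K ≃ₐ[A] K) e).symm.toEquiv.nontrivial
  obtain ⟨hle, hdim⟩ := hG p ‹_›
  rw [ringKrullDim_fiber_congr e p, hdim] at h0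
  have : n + 1 - (c + 1) ≤ 0 := by exact_mod_cast h0
  omega

theorem hasSquarePres_of_isSyntomic [IsLocalRing A] [Module.Finite A B] (h : Synt.IsSyntomic A B) :
    HasSquarePres A B := by
  classical
  haveI := h.2.1
  obtain ⟨n, φ, hφ, hfg⟩ := Algebra.FinitePresentation.out (R := A) (A := B)
  let pA : PrimeSpectrum A := ⟨IsLocalRing.maximalIdeal A, inferInstance⟩
  let s := PrimeSpectrum.comap (algebraMap A B) ⁻¹' {pA}
  haveI : Finite s := (Algebra.QuasiFinite.finite_comap_preimage_singleton pA).to_subtype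
  have hdata : ∀ j : s, ∃ (F : Fin n → MvPolynomial (Fin n) A) (v : MvPolynomial (Fin n) A), φ v ∉ j.1.asIdeal ∧
      (∀ i, F i ∈ RingHom.ker φ.toRingHom) ∧
      (∀ x ∈ RingHom.ker φ.toRingHom, x * v ∈ Ideal.span (Set.range F)) := by
    rintro ⟨q, hq⟩
    let p : PrimeSpectrum A := PrimeSpectrum.comap (algebraMap A B) q
    let Q := PrimeSpectrum.preimageEquivFiber A B p ⟨q, rfl⟩
    have hQ : Q.asIdeal.comap (Algebra.TensorProduct.includeRight : B →ₐ[A] p.asIdeal.Fiber B).toRingHom = q.asIdeal :=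
      congrArg (fun z => z.1.asIdeal) ((PrimeSpectrum.preimageEquivFiber A B p).symm_apply_apply ⟨q, rfl⟩)
    have h1 : (1 : B) ∉ q.asIdeal := fun h => q.2.ne_top ((Ideal.eq_top_iff_one _).2 h)
    obtain ⟨-, hfl, hci⟩ := conditions_of_syntomic p.asIdeal q.asIdeal Q.asIdeal h1 hQ (isSyntomic_away h 1 _)
    obtain ⟨c, F, v, hv, hF, hk, hG, ⟨e⟩⟩ := exists_relGCI_pres φ hφ hfg p.asIdeal q.asIdeal Q.asIdeal hQ hci
    obtain rfl := eq_of_finite φ F v q hv hG e
    exact ⟨F, v, hv, hF, hk⟩
  choose F v hv hF hk using hdata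
  haveI : Algebra.IsIntegral A B := Algebra.IsIntegral.of_finite A B
  have hmax : ∀ j : s, j.1.asIdeal.IsMaximal := fun j =>
    Ideal.isMaximal_of_isIntegral_of_isMaximal_comap (R := A) j.1.asIdeal (by
      show (PrimeSpectrum.comap (algebraMap A B) j.1).asIdeal.IsMaximal
      rw [show PrimeSpectrum.comap (algebraMap A B) j.1 = pA from j.2]
      exact IsLocalRing.maximalIdeal.isMaximal A)
  obtain ⟨G, g, hG, hg, hgk⟩ := exists_uniform_generators (RingHom.ker φ.toRingHom) hfg
    (fun j : s => j.1.asIdeal.comap φ.toRingHom)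
    (fun j => by haveI := hmax j; exact Ideal.comap_isMaximal_of_surjective _ hφ)
    (fun a b hab => Subtype.ext (PrimeSpectrum.ext (Ideal.comap_injective_of_surjective φ.toRingHom hφ hab)))
    (fun m hm hle => by
      have hmap : (m.map φ.toRingHom).IsMaximal :=
        (Ideal.map_eq_top_or_isMaximal_of_surjective φ.toRingHom hφ hm).resolve_left fun htop => hm.ne_top (by
          rw [← Ideal.comap_top (f := φ.toRingHom), ← htop, Ideal.comap_map_of_surjective φ.toRingHom hφ,
            sup_eq_left.2 ((RingHom.ker_eq_comap_bot _).symm.trans_le hle)])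
      refine ⟨⟨⟨_, hmap.isPrime⟩, ?_⟩, ?_⟩
      · show PrimeSpectrum.comap (algebraMap A B) _ = pA
        refine PrimeSpectrum.ext (IsLocalRing.eq_maximalIdeal ?_)
        haveI := hmap
        exact Ideal.isMaximal_comap_of_isIntegral_of_isMaximal (R := A) (m.map φ.toRingHom)
      · show (m.map φ.toRingHom).comap φ.toRingHom = m
        rw [Ideal.comap_map_of_surjective φ.toRingHom hφ, sup_eq_left.2 ((RingHom.ker_eq_comap_bot _).symm.trans_le hle)])
    F hF v hv hk
  let ψ : MvPolynomial (Fin n) A →ₐ[A] Synt.RelGCIRing A n n G := Ideal.Quotient.mkₐ A _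
  have hker : RingHom.ker ψ.toRingHom = Ideal.span (Set.range G) := Ideal.mk_ker
  obtain ⟨e₁⟩ := exists_equiv_away_quotient φ hφ ψ Ideal.Quotient.mk_surjective
    (by rw [hker, Ideal.span_le]; rintro _ ⟨i, rfl⟩; exact hG i) g (fun x hx => by rw [hker]; exact hgk x hx)
  obtain ⟨e₂⟩ := exists_away_equiv G g
  have h1 : φ g = 1 := by
    rw [← sub_eq_zero, ← map_one φ, ← map_sub]
    exact hg
  have e₃ : B ≃ₐ[A] Localization.Away (φ g) :=
    (IsLocalization.atUnit B (Localization.Away (φ g)) (φ g) (h1 ▸ isUnit_one)).restrictScalars A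
  exact ⟨n + 1, awayPres G g, ⟨(e₃.trans e₁.symm).trans e₂⟩⟩

theorem isSyntomic_iff_hasSquarePres [IsLocalRing A] [Module.Finite A B] :
    Synt.IsSyntomic A B ↔ HasSquarePres A B :=
  ⟨hasSquarePres_of_isSyntomic, isSyntomic_of_hasSquarePres⟩

end Groth.Agent.CILib
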