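import Groth.Agent.CILib.LCIMor
import Groth.Agent.CILib.GlobalCI
import Groth.Agent.FlatDepth.Fibres
import Groth.Agent.FpqcDesc.Noeth

/-!
# Cohen–Macaulay and `(S_k)` are local in the syntomic topology
-/

set_option autoImplicit false
set_option linter.style.haveILetI false
set_option backward.isDefEq.respectTransparency false
set_option maxHeartbeats 1000000

universe u

open IsLocalRing CategoryTheory CategoryTheory.Limits AlgebraicGeometry

namespace Groth.Agent.CILib

open Groth.Agent.FlatDepth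

theorem skLocal_of_cm {R : Type u} [CommRing R] [IsLocalRing R] [LocCoh.IsCohenMacaulayLocalRing R] (k : ℕ) :
    SkLocal k R := by
  refine ⟨inferInstance, ?_⟩
  have h := LocCoh.IsCohenMacaulayLocalRing.supportDim_eq_depth (R := R)
  rw [Module.supportDim_self_eq_ringKrullDim] at h
  rw [← h]
  exact min_le_right _ _

theorem hasSk_of_cm (k : ℕ) (R : Type u) [CommRing R] [LocCoh.IsCohenMacaulayRing R] : LocCoh.HasSk k R R :=
  (hasSk_iff k R).2 fun p _ =>
    haveI := LocCoh.IsCohenMacaulayRing.isCohenMacaulayLocalRing_localization (R := R) p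
    skLocal_of_cm k

/-- Descent of `SkLocal` along a flat local map whose closed fibre has dimension zero. -/
theorem skLocal_descend {k : ℕ} (A B : Type u) [CommRing A] [CommRing B] [IsLocalRing A] [IsLocalRing B]
    [IsNoetherianRing A] [IsNoetherianRing B] [Algebra A B] [IsLocalHom (algebraMap A B)] [Module.Flat A B]
    (h0 : Ring.KrullDimLE 0 (B ⧸ (maximalIdeal A).map (algebraMap A B))) (hB : SkLocal k B) : SkLocal k A := by
  obtain ⟨_, hB⟩ := hB
  haveI := isLocalRing_fibre A B
  obtain ⟨a, d, ha, hd, -⟩ := exists_invariants A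
  obtain ⟨b, e, hb, he, hbe⟩ := exists_invariants (B ⧸ (maximalIdeal A).map (algebraMap A B))
  obtain ⟨c, f, hc, hf, -⟩ := exists_invariants B
  have h1 := RatliffLib.dim_flat_local (A := A) (A' := B)
  have h2 := depth_ring (A := A) (B := B)
  rw [ha, hb, hc] at h1
  rw [hd, he, hf] at h2
  have h3 := (Ring.krullDimLE_iff (n := 0)).1 h0
  rw [hb] at h3
  rw [hc, hf] at hB
  have e0 : b ≤ 0 := by exact_mod_cast h3
  have e1 : c = a + b := by exact_mod_cast h1
  have e2 : f = d + e := by exact_mod_cast h2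
  have hmin : ∀ x y : ℕ, min (x : WithBot ℕ∞) (y : WithBot ℕ∞) = ((min x y : ℕ) : WithBot ℕ∞) :=
    fun x y => (Nat.mono_cast.map_min (a := x) (b := y)).symm
  rw [hmin] at hB
  have e3 : min k c ≤ f := by exact_mod_cast hB
  refine ⟨inferInstance, ?_⟩
  rw [ha, hd, hmin]
  exact_mod_cast (by omega : min k a ≤ d)

/-- Descent of `SkLocal` at a prime in the image of a flat map. -/
theorem skLocal_of_flat {k : ℕ} (R S : Type u) [CommRing R] [CommRing S] [IsNoetherianRing R] [IsNoetherianRing S]
    [Algebra R S] [Module.Flat R S] (p : Ideal R) [p.IsPrime] (q₀ : Ideal S) [q₀.IsPrime]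
    (hq₀ : q₀.comap (algebraMap R S) = p)
    (h : ∀ (q : Ideal S) [q.IsPrime], SkLocal k (Localization.AtPrime q)) :
    SkLocal k (Localization.AtPrime p) := by
  obtain ⟨q, hq, hle⟩ := Ideal.exists_minimalPrimes_le (I := p.map (algebraMap R S)) (J := q₀)
    (Ideal.map_le_iff_le_comap.2 hq₀.ge)
  haveI : q.IsPrime := hq.1.1
  have hqp : q.comap (algebraMap R S) = p := le_antisymm ((Ideal.comap_mono hle).trans hq₀.le)
    (Ideal.map_le_iff_le_comap.1 hq.1.2)
  haveI : q.LiesOver p := ⟨hqp.symm⟩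
  letI : Algebra (Localization.AtPrime p) (Localization.AtPrime q) := Localization.AtPrime.algebraOfLiesOver p q
  haveI : IsLocalHom (algebraMap (Localization.AtPrime p) (Localization.AtPrime q)) :=
    Localization.isLocalHom_localRingHom p q (algebraMap R S) (Ideal.over_def q p)
  haveI : IsNoetherianRing (Localization.AtPrime q) := IsLocalization.isNoetherianRing q.primeCompl _ inferInstance
  haveI : IsNoetherianRing (Localization.AtPrime p) := IsLocalization.isNoetherianRing p.primeCompl _ inferInstance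
  refine skLocal_descend (Localization.AtPrime p) (Localization.AtPrime q) ?_ (h q)
  have hmap : (maximalIdeal (Localization.AtPrime p)).map (algebraMap (Localization.AtPrime p) (Localization.AtPrime q)) =
      (p.map (algebraMap R S)).map (algebraMap S (Localization.AtPrime q)) := by
    rw [← Localization.AtPrime.map_eq_maximalIdeal, Ideal.map_map, Ideal.map_map, ← IsScalarTower.algebraMap_eq,
      ← IsScalarTower.algebraMap_eq]
  rw [hmap]
  refine Ring.krullDimLE_zero_iff.2 fun P hP => ?_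
  haveI := hP
  have h1 : (P.comap (Ideal.Quotient.mk ((p.map (algebraMap R S)).map (algebraMap S (Localization.AtPrime q))))) =
      maximalIdeal (Localization.AtPrime q) := by
    set Q := P.comap (Ideal.Quotient.mk ((p.map (algebraMap R S)).map (algebraMap S (Localization.AtPrime q))))
    haveI : Q.IsPrime := Ideal.IsPrime.comap _
    have hQq : Q.comap (algebraMap S (Localization.AtPrime q)) ≤ q := fun x hx => by
      have := le_maximalIdeal (Ideal.IsPrime.ne_top ‹Q.IsPrime›) hx
      exact (IsLocalization.AtPrime.to_map_mem_maximal_iff (Localization.AtPrime q) q x).1 this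
    have hJQ : p.map (algebraMap R S) ≤ Q.comap (algebraMap S (Localization.AtPrime q)) := fun x hx => by
      show Ideal.Quotient.mk _ (algebraMap S (Localization.AtPrime q) x) ∈ P
      rw [Ideal.Quotient.eq_zero_iff_mem.2 (Ideal.mem_map_of_mem _ hx)]
      exact P.zero_mem
    have hqQ : q ≤ Q.comap (algebraMap S (Localization.AtPrime q)) := hq.2 ⟨Ideal.IsPrime.comap _, hJQ⟩ hQq
    refine le_antisymm (le_maximalIdeal (Ideal.IsPrime.ne_top ‹Q.IsPrime›)) ?_
    rw [← Localization.AtPrime.map_eq_maximalIdeal]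
    exact Ideal.map_le_iff_le_comap.2 hqQ
  have h2 : P = (maximalIdeal (Localization.AtPrime q)).map
      (Ideal.Quotient.mk ((p.map (algebraMap R S)).map (algebraMap S (Localization.AtPrime q)))) := by
    rw [← h1, Ideal.map_comap_of_surjective
      (Ideal.Quotient.mk ((p.map (algebraMap R S)).map (algebraMap S (Localization.AtPrime q))))
      Ideal.Quotient.mk_surjective]
  rw [h2]
  exact (Ideal.map_eq_top_or_isMaximal_of_surjective
    (Ideal.Quotient.mk ((p.map (algebraMap R S)).map (algebraMap S (Localization.AtPrime q))))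
    Ideal.Quotient.mk_surjective (maximalIdeal.isMaximal _)).resolve_left
    fun h3 => hP.ne_top (h2.trans h3)

/-- Descent of the Cohen–Macaulay property at a prime in the image of a flat map. -/
theorem cm_of_flat (R S : Type u) [CommRing R] [CommRing S] [IsNoetherianRing R] [IsNoetherianRing S]
    [Algebra R S] [Module.Flat R S] (p : Ideal R) [p.IsPrime] (q : Ideal S) [q.IsPrime]
    (hqp : q.comap (algebraMap R S) = p) (h : LocCoh.IsCohenMacaulayLocalRing (Localization.AtPrime q)) :
    LocCoh.IsCohenMacaulayLocalRing (Localization.AtPrime p) := by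
  haveI : q.LiesOver p := ⟨hqp.symm⟩
  letI : Algebra (Localization.AtPrime p) (Localization.AtPrime q) := Localization.AtPrime.algebraOfLiesOver p q
  haveI : IsLocalHom (algebraMap (Localization.AtPrime p) (Localization.AtPrime q)) :=
    Localization.isLocalHom_localRingHom p q (algebraMap R S) (Ideal.over_def q p)
  haveI : IsNoetherianRing (Localization.AtPrime q) := IsLocalization.isNoetherianRing q.primeCompl _ inferInstance
  haveI : IsNoetherianRing (Localization.AtPrime p) := IsLocalization.isNoetherianRing p.primeCompl _ inferInstance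
  exact ((cm_ascend_descend (Localization.AtPrime p) (Localization.AtPrime q)).1 h).1

/-! ### Schemes -/

variable {X S : Scheme.{u}}

theorem exists_stalk_equiv {U : X.Opens} (hU : IsAffineOpen U) (x : X) (hx : x ∈ U) :
    Nonempty (X.presheaf.stalk x ≃+* Localization.AtPrime (hU.primeIdealOf ⟨x, hx⟩).asIdeal) := by
  letI : Algebra Γ(X, U) (X.presheaf.stalk x) := (X.presheaf.germ U x hx).hom.toAlgebra
  haveI : IsLocalization.AtPrime (X.presheaf.stalk x) (hU.primeIdealOf ⟨x, hx⟩).asIdeal :=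
    hU.isLocalization_stalk ⟨x, hx⟩
  exact ⟨(IsLocalization.algEquiv (hU.primeIdealOf ⟨x, hx⟩).asIdeal.primeCompl (X.presheaf.stalk x)
    (Localization.AtPrime (hU.primeIdealOf ⟨x, hx⟩).asIdeal)).toRingEquiv⟩

theorem exists_point_of_prime {U : X.Opens} (hU : IsAffineOpen U) (y : PrimeSpectrum Γ(X, U)) :
    ∃ (x : X) (hx : x ∈ U), hU.primeIdealOf ⟨x, hx⟩ = y := by
  have hy : hU.fromSpec y ∈ U := hU.range_fromSpec.le ⟨y, rfl⟩
  exact ⟨hU.fromSpec y, hy, hU.fromSpec.isOpenEmbedding.injective (hU.fromSpec_primeIdealOf ⟨_, hy⟩)⟩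

theorem skLocal_stalk_of_hasSk {k : ℕ} [IsLocallyNoetherian X] {U : X.Opens} (hU : IsAffineOpen U)
    (h : LocCoh.HasSk k Γ(X, U) Γ(X, U)) (x : X) (hx : x ∈ U) : SkLocal k (X.presheaf.stalk x) := by
  haveI : IsNoetherianRing Γ(X, U) := IsLocallyNoetherian.component_noetherian ⟨U, hU⟩
  obtain ⟨e⟩ := exists_stalk_equiv hU x hx
  haveI : IsNoetherianRing (Localization.AtPrime (hU.primeIdealOf ⟨x, hx⟩).asIdeal) :=
    IsLocalization.isNoetherianRing (hU.primeIdealOf ⟨x, hx⟩).asIdeal.primeCompl _ inferInstance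
  exact skLocal_of_ringEquiv e.symm ((hasSk_iff k _).1 h _)

theorem hasSk_of_skLocal_stalk {k : ℕ} [IsLocallyNoetherian X] {U : X.Opens} (hU : IsAffineOpen U)
    (h : ∀ x ∈ U, SkLocal k (X.presheaf.stalk x)) : LocCoh.HasSk k Γ(X, U) Γ(X, U) := by
  refine (hasSk_iff k _).2 fun p hp => ?_
  obtain ⟨x, hx, hxy⟩ := exists_point_of_prime hU ⟨p, hp⟩
  obtain ⟨e⟩ := exists_stalk_equiv hU x hx
  have := skLocal_of_ringEquiv e (h x hx)
  have hp' : (hU.primeIdealOf ⟨x, hx⟩).asIdeal = p := by rw [hxy]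
  exact (show ∀ (I : Ideal Γ(X, U)) (_ : I.IsPrime), I = p → SkLocal k (Localization.AtPrime I) →
    SkLocal k (Localization.AtPrime p) from fun I _ e h => by subst e; exact h) _ inferInstance hp' this

/-- All stalks satisfy `(S_k)` iff all stalks satisfy it at their closed points. -/
theorem forall_hasSk_stalk_iff (k : ℕ) [IsLocallyNoetherian X] :
    (∀ x : X, LocCoh.HasSk k (X.presheaf.stalk x) (X.presheaf.stalk x)) ↔
      ∀ x : X, SkLocal k (X.presheaf.stalk x) := by
  constructor
  · intro h x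
    have h' := (hasSk_iff k _).1 (h x) (maximalIdeal (X.presheaf.stalk x))
    let e : Localization.AtPrime (maximalIdeal (X.presheaf.stalk x)) ≃+* X.presheaf.stalk x :=
      (IsLocalization.atUnits (X.presheaf.stalk x) (maximalIdeal (X.presheaf.stalk x)).primeCompl
        (fun y hy => IsLocalRing.notMem_maximalIdeal.1 hy)).toRingEquiv.symm
    haveI : IsNoetherianRing (Localization.AtPrime (maximalIdeal (X.presheaf.stalk x))) :=
      isNoetherianRing_of_ringEquiv _ e.symm
    exact skLocal_of_ringEquiv e h'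
  · intro h x
    obtain ⟨U, hU, hx, -⟩ := exists_isAffineOpen_mem_and_subset (x := x) (U := ⊤) trivial
    haveI : IsNoetherianRing Γ(X, U) := IsLocallyNoetherian.component_noetherian ⟨U, hU⟩
    obtain ⟨e⟩ := exists_stalk_equiv hU x hx
    have hΓ := (hasSk_iff k _).1 (hasSk_of_skLocal_stalk hU fun y _ => h y)
    haveI : IsNoetherianRing (Localization.AtPrime (hU.primeIdealOf ⟨x, hx⟩).asIdeal) :=
      IsLocalization.isNoetherianRing (hU.primeIdealOf ⟨x, hx⟩).asIdeal.primeCompl _ inferInstance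
    refine hasSk_of_ringEquiv e.symm ((hasSk_iff k _).2 fun P _ => ?_)
    let e2 := IsLocalization.localizationLocalizationAtPrimeIsoLocalization
      (hU.primeIdealOf ⟨x, hx⟩).asIdeal.primeCompl P
    haveI : IsNoetherianRing (Localization.AtPrime (P.comap (algebraMap Γ(X, U) _))) :=
      IsLocalization.isNoetherianRing (P.comap (algebraMap Γ(X, U) _)).primeCompl _ inferInstance
    exact skLocal_of_ringEquiv e2.toRingEquiv (hΓ _)

theorem locallyOfFinitePresentation_of_isSyntomicMor (f : X ⟶ S) (h : Synt.IsSyntomicMor f) :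
    LocallyOfFinitePresentation f := by
  rw [HasRingHomProperty.iff_appLE (P := @LocallyOfFinitePresentation)]
  intro V U e
  exact ((isSyntomicMor_iff f).1 h U V e).2.1

theorem isLocallyNoetherian_of_isSyntomicMor [IsLocallyNoetherian S] (f : X ⟶ S) (h : Synt.IsSyntomicMor f) :
    IsLocallyNoetherian X := by
  haveI := locallyOfFinitePresentation_of_isSyntomicMor f h
  exact LocallyOfFiniteType.isLocallyNoetherian f

theorem isLocallyNoetherian_of_syntomic_cover {ι : Type u} {X : ι → Scheme.{u}} (f : ∀ i, X i ⟶ S)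
    (hsurj : ∀ s : S, ∃ i, s ∈ Set.range (f i).base) (hsyn : ∀ i, Synt.IsSyntomicMor (f i))
    [∀ i, IsLocallyNoetherian (X i)] : IsLocallyNoetherian S := by
  haveI : Flat (Sigma.desc f) := IsZariskiLocalAtSource.sigmaDesc fun i => flat_of_isSyntomicMor _ (hsyn i)
  haveI : LocallyOfFinitePresentation (Sigma.desc f) :=
    IsZariskiLocalAtSource.sigmaDesc fun i => locallyOfFinitePresentation_of_isSyntomicMor _ (hsyn i)
  haveI : Surjective (Sigma.desc f) := ⟨fun s => by
    obtain ⟨i, y, hy⟩ := hsurj s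
    refine ⟨(Sigma.ι X i).base y, ?_⟩
    rw [← Scheme.Hom.comp_apply, Sigma.ι_desc]
    exact hy⟩
  haveI : IsLocallyNoetherian (∐ X) :=
    (isLocallyNoetherian_iff_openCover (sigmaOpenCover X)).2 fun i => inferInstanceAs (IsLocallyNoetherian (X i))
  exact Groth.Agent.NoethDesc.of_fppf (Sigma.desc f)

/-- Affine charts of a syntomic morphism around a point. -/
theorem exists_chart_syntomic (f : X ⟶ S) (h : Synt.IsSyntomicMor f) (x : X) :
    ∃ (U : X.affineOpens) (V : S.affineOpens) (e : U.1 ≤ f ⁻¹ᵁ V.1) (hx : x ∈ U.1),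
      IsSyntomicHom (f.appLE V.1 U.1 e).hom ∧
      (U.2.primeIdealOf ⟨x, hx⟩).asIdeal.comap (f.appLE V.1 U.1 e).hom =
        (V.2.primeIdealOf ⟨f.base x, e hx⟩).asIdeal := by
  obtain ⟨U, V, e, hx, hs⟩ := h x
  exact ⟨U, V, e, hx, hs, congr($(IsAffineOpen.comap_primeIdealOf_appLE V.1 V.2 U.1 U.2 e hx).1)⟩

theorem isCohenMacaulayLocalRing_stalk_iff_syntomic {ι : Type u} {X : ι → Scheme.{u}} (f : ∀ i, X i ⟶ S)
    (hsurj : ∀ s : S, ∃ i, s ∈ Set.range (f i).base) (hsyn : ∀ i, Synt.IsSyntomicMor (f i)) :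
    (IsLocallyNoetherian S ∧ ∀ s : S, LocCoh.IsCohenMacaulayLocalRing (S.presheaf.stalk s)) ↔
      ∀ i, IsLocallyNoetherian (X i) ∧ ∀ x : X i, LocCoh.IsCohenMacaulayLocalRing ((X i).presheaf.stalk x) := by
  constructor
  · rintro ⟨hN, hS⟩ i
    haveI := isLocallyNoetherian_of_isSyntomicMor (f i) (hsyn i)
    refine ⟨inferInstance, fun x => ?_⟩
    obtain ⟨U, V, e, hx, hs, -⟩ := exists_chart_syntomic (f i) (hsyn i) x
    haveI : IsNoetherianRing Γ(S, V.1) := IsLocallyNoetherian.component_noetherian V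
    haveI : IsNoetherianRing Γ(X i, U.1) := IsLocallyNoetherian.component_noetherian U
    letI : Algebra Γ(S, V.1) Γ(X i, U.1) := ((f i).appLE V.1 U.1 e).hom.toAlgebra
    obtain ⟨hfl, -, hfib⟩ := hs
    haveI : Module.Flat Γ(S, V.1) Γ(X i, U.1) := hfl
    haveI : LocCoh.IsCohenMacaulayRing Γ(S, V.1) :=
      { isCohenMacaulayLocalRing_localization := fun p hp => by
          obtain ⟨y, hy, hyp⟩ := exists_point_of_prime V.2 ⟨p, hp⟩
          obtain ⟨e'⟩ := exists_stalk_equiv V.2 y hy
          haveI := hS y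
          have := CMCat.isCohenMacaulayLocalRing_of_ringEquiv e'
          exact (show ∀ (I : Ideal Γ(S, V.1)) (_ : I.IsPrime), I = p →
            LocCoh.IsCohenMacaulayLocalRing (Localization.AtPrime I) →
            LocCoh.IsCohenMacaulayLocalRing (Localization.AtPrime p) from
            fun I _ e h => by subst e; exact h) _ inferInstance (congrArg PrimeSpectrum.asIdeal hyp) this }
    haveI : LocCoh.IsCohenMacaulayRing Γ(X i, U.1) := cm_ascend Γ(S, V.1) Γ(X i, U.1)
      fun p hp => isCohenMacaulayRing_of_isLCIOver (hfib ⟨p, hp⟩)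
    obtain ⟨e'⟩ := exists_stalk_equiv U.2 x hx
    haveI := LocCoh.IsCohenMacaulayRing.isCohenMacaulayLocalRing_localization (R := Γ(X i, U.1))
      (U.2.primeIdealOf ⟨x, hx⟩).asIdeal
    exact CMCat.isCohenMacaulayLocalRing_of_ringEquiv e'.symm
  · intro h
    haveI := fun i => (h i).1
    haveI := isLocallyNoetherian_of_syntomic_cover f hsurj hsyn
    refine ⟨inferInstance, fun s => ?_⟩
    obtain ⟨i, x, rfl⟩ := hsurj s
    obtain ⟨U, V, e, hx, hs, hcomap⟩ := exists_chart_syntomic (f i) (hsyn i) x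
    haveI : IsNoetherianRing Γ(S, V.1) := IsLocallyNoetherian.component_noetherian V
    haveI : IsNoetherianRing Γ(X i, U.1) := IsLocallyNoetherian.component_noetherian U
    letI : Algebra Γ(S, V.1) Γ(X i, U.1) := ((f i).appLE V.1 U.1 e).hom.toAlgebra
    haveI : Module.Flat Γ(S, V.1) Γ(X i, U.1) := hs.1
    obtain ⟨e'⟩ := exists_stalk_equiv U.2 x hx
    haveI := (h i).2 x
    have := cm_of_flat Γ(S, V.1) Γ(X i, U.1) _ _ hcomap (CMCat.isCohenMacaulayLocalRing_of_ringEquiv e')
    obtain ⟨e''⟩ := exists_stalk_equiv V.2 ((f i).base x) (e hx)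
    exact CMCat.isCohenMacaulayLocalRing_of_ringEquiv e''.symm

theorem hasSk_stalk_iff_syntomic {ι : Type u} {X : ι → Scheme.{u}} (f : ∀ i, X i ⟶ S)
    (hsurj : ∀ s : S, ∃ i, s ∈ Set.range (f i).base) (hsyn : ∀ i, Synt.IsSyntomicMor (f i)) (k : ℕ) :
    (IsLocallyNoetherian S ∧ ∀ s : S, LocCoh.HasSk k (S.presheaf.stalk s) (S.presheaf.stalk s)) ↔
      ∀ i, IsLocallyNoetherian (X i) ∧
        ∀ x : X i, LocCoh.HasSk k ((X i).presheaf.stalk x) ((X i).presheaf.stalk x) := by
  constructor
  · rintro ⟨hN, hS⟩ i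
    haveI := isLocallyNoetherian_of_isSyntomicMor (f i) (hsyn i)
    refine ⟨inferInstance, (forall_hasSk_stalk_iff k).2 fun x => ?_⟩
    obtain ⟨U, V, e, hx, hs, -⟩ := exists_chart_syntomic (f i) (hsyn i) x
    haveI : IsNoetherianRing Γ(S, V.1) := IsLocallyNoetherian.component_noetherian V
    haveI : IsNoetherianRing Γ(X i, U.1) := IsLocallyNoetherian.component_noetherian U
    letI : Algebra Γ(S, V.1) Γ(X i, U.1) := ((f i).appLE V.1 U.1 e).hom.toAlgebra
    obtain ⟨hfl, -, hfib⟩ := hs
    haveI : Module.Flat Γ(S, V.1) Γ(X i, U.1) := hfl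
    refine skLocal_stalk_of_hasSk U.2 (hasSk_ascend k Γ(S, V.1) Γ(X i, U.1)
      (hasSk_of_skLocal_stalk V.2 fun y _ => (forall_hasSk_stalk_iff k).1 hS y) fun p hp => ?_) x hx
    haveI := isCohenMacaulayRing_of_isLCIOver (hfib ⟨p, hp⟩)
    exact hasSk_of_cm k _
  · intro h
    haveI := fun i => (h i).1
    haveI := isLocallyNoetherian_of_syntomic_cover f hsurj hsyn
    refine ⟨inferInstance, (forall_hasSk_stalk_iff k).2 fun s => ?_⟩
    obtain ⟨i, x, rfl⟩ := hsurj s
    obtain ⟨U, V, e, hx, hs, hcomap⟩ := exists_chart_syntomic (f i) (hsyn i) x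
    haveI : IsNoetherianRing Γ(S, V.1) := IsLocallyNoetherian.component_noetherian V
    haveI : IsNoetherianRing Γ(X i, U.1) := IsLocallyNoetherian.component_noetherian U
    letI : Algebra Γ(S, V.1) Γ(X i, U.1) := ((f i).appLE V.1 U.1 e).hom.toAlgebra
    haveI : Module.Flat Γ(S, V.1) Γ(X i, U.1) := hs.1
    have hq := (hasSk_iff k _).1 (hasSk_of_skLocal_stalk U.2 fun y _ => (forall_hasSk_stalk_iff k).1 (h i).2 y)
    have hsk := skLocal_of_flat Γ(S, V.1) Γ(X i, U.1) _ _ hcomap fun q _ => hq q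
    obtain ⟨e''⟩ := exists_stalk_equiv V.2 ((f i).base x) (e hx)
    haveI : IsNoetherianRing (Localization.AtPrime (V.2.primeIdealOf ⟨(f i).base x, e hx⟩).asIdeal) :=
      IsLocalization.isNoetherianRing (V.2.primeIdealOf ⟨(f i).base x, e hx⟩).asIdeal.primeCompl _ inferInstance
    exact skLocal_of_ringEquiv e''.symm hsk

end Groth.Agent.CILib
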